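import Mathlib.Algebra.BigOperators.Ring.Finset
import Mathlib.Algebra.Order.BigOperators.Ring.Finset
import Mathlib.Tactic.Linarith
import Mathlib.Tactic.NormNum.Prime
import Mathlib.Tactic.Ring
import Mathlib.Tactic.IntervalCases
import Mathlib.Tactic.LinearCombination

/-!
Bender's theorem, commuting branch: the count of the constituents of the induced character.

`k` is an odd prime, `m = 2 ^ k - 1`, `q` half the number of orbits, `c0`, `j0`, `e`, `δ` the common
data of the exceptional characters and `c i`, `j i`, `d i` those of the other constituents.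
-/

set_option autoImplicit false

namespace CfsgLib.Bender.Commuting.CountArith

open Finset

variable {ι : Type*} (s : Finset ι) (c d j : ι → ℤ)

/-- A square sum of positive integers is at most the square of the sum. -/
theorem sum_sq_le_sq_sum' {w : ι → ℤ} (hw : ∀ i ∈ s, 0 ≤ w i) :
    ∑ i ∈ s, w i ^ 2 ≤ (∑ i ∈ s, w i) ^ 2 :=
  sum_sq_le_sq_sum_of_nonneg hw

theorem sq_bound {x b B : ℤ} (h : x ^ 2 ≤ B) (hB : B < (b + 1) ^ 2) (hb : 0 ≤ b) :
    -b ≤ x ∧ x ≤ b := by
  constructor <;> nlinarith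

/-- The residues of the constituents. -/
theorem exists_level {m : ℤ} {D : ℤ} (hD : D < m) (hj : ∀ i ∈ s, 1 ≤ j i)
    (hjm : ∀ i ∈ s, j i ≤ m - 1) (hd : ∀ i ∈ s, -D ≤ d i ∧ d i ≤ D)
    (hcong : ∀ i ∈ s, m ∣ 2 * j i - d i) :
    ∃ z : ι → ℤ, ∀ i ∈ s, 2 * j i = d i + m * z i ∧ 0 ≤ z i ∧ z i ≤ 2 := by
  classical
  refine ⟨fun i => (2 * j i - d i) / m, fun i hi => ?_⟩
  obtain ⟨z, hz⟩ := hcong i hi
  have hm : 0 < m := by linarith [(hd i hi).1, (hd i hi).2]
  beta_reduce
  rw [hz, Int.mul_ediv_cancel_left z hm.ne']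
  obtain ⟨h1, h2⟩ := hd i hi
  have hj1 := hj i hi
  have hj2 := hjm i hi
  refine ⟨by linarith, ?_, ?_⟩
  · by_contra hcon
    have : m * z ≤ m * (-1) := mul_le_mul_of_nonneg_left (by omega) hm.le
    linarith
  · by_contra hcon
    have : m * 3 ≤ m * z := mul_le_mul_of_nonneg_left (by omega) hm.le
    linarith

variable {s c d j}

/-- The bound on the norm of the constituents of level zero and the others. -/
theorem norm_le {m D Z E : ℤ} {z : ι → ℤ} (hc : ∀ i ∈ s, 1 ≤ c i) (hj : ∀ i ∈ s, 1 ≤ j i)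
    (hz : ∀ i ∈ s, 2 * j i = d i + m * z i ∧ 0 ≤ z i ∧ z i ≤ 2)
    (hd : ∀ i ∈ s, z i ≠ 0 → -D ≤ d i) (hD : 0 ≤ D)
    (hZ : ∑ i ∈ s, c i * z i = Z) (hcd : ∑ i ∈ s, c i * d i = E) :
    ∃ B C : ℤ, 0 ≤ B ∧ 2 * B ≤ E + D * C ∧ 0 ≤ C ∧ C ≤ Z ∧
      ∑ i ∈ s, c i ^ 2 ≤ B ^ 2 + C ^ 2 := by
  classical
  refine ⟨∑ i ∈ s with z i = 0, c i * j i, ∑ i ∈ s with ¬ z i = 0, c i, ?_, ?_, ?_, ?_, ?_⟩
  · exact sum_nonneg fun i hi => mul_nonneg (by linarith [hc i (mem_filter.1 hi).1])
      (by linarith [hj i (mem_filter.1 hi).1])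
  · rw [← hcd, ← sum_filter_add_sum_filter_not s (fun i => z i = 0) (fun i => c i * d i),
      mul_sum, mul_sum]
    have h1 : ∑ i ∈ s with z i = 0, 2 * (c i * j i) = ∑ i ∈ s with z i = 0, c i * d i := by
      refine sum_congr rfl fun i hi => ?_
      obtain ⟨his, hi0⟩ := mem_filter.1 hi
      have := (hz i his).1
      rw [hi0, mul_zero, add_zero] at this
      rw [← this]; ring
    have h2 : 0 ≤ ∑ i ∈ s with ¬ z i = 0, (c i * d i + D * c i) :=
      sum_nonneg fun i hi => by
        obtain ⟨his, hi0⟩ := mem_filter.1 hi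
        have h3 := hc i his
        have h4 := hd i his hi0
        nlinarith
    rw [sum_add_distrib] at h2
    linarith
  · exact sum_nonneg fun i hi => by linarith [hc i (mem_filter.1 hi).1]
  · rw [← hZ, sum_filter]
    refine sum_le_sum fun i hi => ?_
    have h1 := hc i hi
    obtain ⟨-, h2, -⟩ := hz i hi
    split_ifs with h
    · rw [h, mul_zero]
    · rcases h2.lt_or_eq with h3 | h3
      · nlinarith
      · exact absurd h3.symm h
  · rw [← sum_filter_add_sum_filter_not s (fun i => z i = 0) (fun i => c i ^ 2)]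
    refine add_le_add ((sum_le_sum fun i hi => ?_).trans
      (sum_sq_le_sq_sum' _ fun i hi => mul_nonneg (by linarith [hc i (mem_filter.1 hi).1])
        (by linarith [hj i (mem_filter.1 hi).1]))) (sum_sq_le_sq_sum' _ fun i hi =>
      by linarith [hc i (mem_filter.1 hi).1])
    have h1 := hc i (mem_filter.1 hi).1
    have h2 := hj i (mem_filter.1 hi).1
    have h3 : c i ≤ c i * j i := by nlinarith
    nlinarith

/-- The data of the count. -/
structure Data (s : Finset ι) (c d j : ι → ℤ) (k : ℕ) (m q r c0 j0 e δ : ℤ) : Prop where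
  prime : k.Prime
  odd : Odd k
  hm : m = 2 ^ k - 1
  hq : 2 * k * q = m - 1
  hr0 : 0 < r
  hr : r < 2 * q
  hδ : δ = 1 ∨ δ = -1
  hc : ∀ i ∈ s, 1 ≤ c i
  hj : ∀ i ∈ s, 1 ≤ j i
  hc0 : 0 ≤ c0
  hj0 : c0 ≠ 0 → 1 ≤ j0
  degree : c0 * q * j0 + ∑ i ∈ s, c i * j i = m - 1
  value : ∑ i ∈ s, c i * d i + c0 * (q * e - δ) = -2
  norm : q * c0 ^ 2 + ∑ i ∈ s, c i ^ 2 = r + 2 * q
  squares : ∑ i ∈ s, d i ^ 2 ≤ 2 * k - 2 + 2 * δ * e - q * e ^ 2
  cong : ∀ i ∈ s, m ∣ 2 * j i - d i
  cong0 : c0 ≠ 0 → m ∣ 2 * j0 - e - 2 * k * δ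

variable {k : ℕ} {m q r c0 j0 e δ : ℤ}

/-- The three cases of the exponent. -/
theorem Data.cases (h : Data s c d j k m q r c0 j0 e δ) :
    (k = 3 ∧ m = 7 ∧ q = 1) ∨ (k = 5 ∧ m = 31 ∧ q = 3) ∨
      (7 ≤ k ∧ (k : ℤ) + 2 ≤ q ∧ 20 * (k : ℤ) < 2 * m) := by
  have hp := h.prime
  have ho := h.odd
  rcases (by have := hp.two_le; omega : k ≤ 6 ∨ 7 ≤ k) with hk | hk
  · interval_cases k
    all_goals first
      | exact absurd ho (by decide)
      | (have hm := h.hm; have hq := h.hq; norm_num at hm hq ⊢; omega)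
      | exact absurd hp (by norm_num)
  · refine Or.inr (Or.inr ⟨hk, ?_⟩)
    have key : ∀ n, 7 ≤ n → 2 * n * n + 10 * n + 2 ≤ 2 * 2 ^ n := by
      intro n hn
      induction n, hn using Nat.le_induction with
      | base => norm_num
      | succ n hn ih => rw [pow_succ]; nlinarith
    have key2 : ∀ n, 7 ≤ n → 2 * n * (n + 2) + 2 ≤ 2 ^ n := by
      intro n hn
      induction n, hn using Nat.le_induction with
      | base => norm_num
      | succ n hn ih => rw [pow_succ]; nlinarith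
    have h1 : 2 * (k : ℤ) * (k + 2) + 2 ≤ 2 ^ k := by exact_mod_cast key2 k hk
    have h2 : (7 : ℤ) ≤ k := by exact_mod_cast hk
    have hq := h.hq
    have hm := h.hm
    refine ⟨?_, ?_⟩ <;> nlinarith

theorem Data.q_pos (h : Data s c d j k m q r c0 j0 e δ) : 0 < q := by
  have := h.hr0
  have := h.hr
  omega

theorem Data.j_le (h : Data s c d j k m q r c0 j0 e δ) {i : ι} (hi : i ∈ s) : j i ≤ m - 1 := by
  have h1 : c i * j i ≤ ∑ x ∈ s, c x * j x := single_le_sum (f := fun x => c x * j x)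
    (fun x hx => mul_nonneg (by linarith [h.hc x hx]) (by linarith [h.hj x hx])) hi
  have h2 : 0 ≤ c0 * q * j0 := by
    by_cases h0 : c0 = 0
    · simp [h0]
    · exact mul_nonneg (mul_nonneg h.hc0 h.q_pos.le) (by linarith [h.hj0 h0])
  have h3 := h.hc i hi
  have h4 := h.hj i hi
  have h5 := h.degree
  nlinarith

/-- No exceptional constituent, or the exceptional constituents have multiplicity one. -/
theorem Data.c0_cases (h : Data s c d j k m q r c0 j0 e δ) : c0 = 0 ∨ c0 = 1 := by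
  have h1 := h.norm
  have h2 : 0 ≤ ∑ i ∈ s, c i ^ 2 := sum_nonneg fun i _ => sq_nonneg _
  have h3 := h.hr
  have h4 := h.q_pos
  have h5 := h.hc0
  by_contra hne
  push Not at hne
  have h6 : 2 ≤ c0 := by omega
  have h7 : 4 * q ≤ q * c0 ^ 2 := by
    have : 4 ≤ c0 ^ 2 := by nlinarith
    nlinarith
  linarith

/-- The case `k = 3`. -/
theorem Data.false_three (h : Data s c d j k m q r c0 j0 e δ) (hk : k = 3) (hm : m = 7)
    (hq : q = 1) : False := by
  subst hk; subst hm; subst hq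
  obtain rfl : r = 1 := by have := h.hr; have := h.hr0; omega
  have hsq : ∑ i ∈ s, d i ^ 2 ≤ 5 - (e - δ) ^ 2 := by
    have := h.squares
    rcases h.hδ with rfl | rfl <;> push_cast at this <;> nlinarith
  have he := sq_bound (x := e - δ) (b := 2) (B := 5)
    (by have := sum_nonneg (s := s) fun i _ => sq_nonneg (d i); linarith) (by norm_num) (by norm_num)
  have hd : ∀ i ∈ s, -2 ≤ d i ∧ d i ≤ 2 := fun i hi =>
    sq_bound ((single_le_sum (f := fun x => d x ^ 2) (fun x _ => sq_nonneg _) hi).trans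
      (hsq.trans (by nlinarith))) (by norm_num : (5 : ℤ) < (2 + 1) ^ 2) (by norm_num)
  obtain ⟨z, hz⟩ := exists_level s d j (by norm_num : (2 : ℤ) < 7) h.hj (fun i hi => h.j_le hi) hd
    h.cong
  rcases h.c0_cases with rfl | rfl
  · have hcj : ∑ i ∈ s, c i * j i = 6 := by have := h.degree; push_cast at this; linarith
    have hcd : ∑ i ∈ s, c i * d i = -2 := by have := h.value; linarith
    have hZ : ∑ i ∈ s, c i * z i = 2 := by
      have h1 : ∑ i ∈ s, c i * (2 * j i) = ∑ i ∈ s, c i * (d i + 7 * z i) :=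
        sum_congr rfl fun i hi => by rw [(hz i hi).1]
      simp only [mul_add, sum_add_distrib, mul_left_comm _ (2 : ℤ), mul_left_comm _ (7 : ℤ),
        ← mul_sum] at h1
      linarith
    have hj2 : ∀ i ∈ s, z i ≠ 0 → -2 ≤ d i := fun i hi _ => (hd i hi).1
    obtain ⟨B, C, hB, hBC, hC, hCZ, hn⟩ := norm_le h.hc h.hj hz hj2 (by norm_num) hZ hcd
    have h3 : ∑ i ∈ s, c i ^ 2 = 3 := by have := h.norm; linarith
    have hev : (2 : ℤ) ∣ ∑ i ∈ s, c i ^ 2 - ∑ i ∈ s, c i := by
      rw [← sum_sub_distrib]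
      exact dvd_sum fun i _ => by
        rw [show c i ^ 2 - c i = c i * (c i - 1) by ring]
        rcases Int.even_or_odd (c i) with ⟨x, hx⟩ | ⟨x, hx⟩
        · exact ⟨x * (c i - 1), by rw [hx]; ring⟩
        · exact ⟨c i * x, by rw [hx]; ring⟩
    -- every constituent has a positive level
    have hz0 : ∀ i ∈ s, 1 ≤ z i := by
      intro i hi
      by_contra hcon
      obtain ⟨hzi, hz1, -⟩ := hz i hi
      obtain ⟨hd1, hd2⟩ := hd i hi
      have hzero : z i = 0 := by omega
      have hdi : d i = 2 := by have := h.hj i hi; omega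
      -- a constituent of level zero takes all the room of the square sum
      have hrest : ∀ x ∈ s, x ≠ i → -1 ≤ d x := by
        intro x hx hxi
        classical
        have := sum_le_sum_of_subset_of_nonneg (f := fun y => d y ^ 2)
          (show ({i, x} : Finset ι) ⊆ s by simp [insert_subset_iff, hi, hx])
          (fun y _ _ => sq_nonneg _)
        rw [sum_pair (Ne.symm hxi), hdi] at this
        nlinarith
      have h4 : -(∑ x ∈ s, c x * z x) ≤ ∑ x ∈ s, c x * d x - c i * d i := by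
        classical
        rw [← sum_erase_eq_sub hi, ← sum_neg_distrib, ← add_sum_erase s _ hi, hzero]
        simp only [mul_zero, neg_zero, zero_add]
        refine sum_le_sum fun x hx => ?_
        obtain ⟨hxi, hxs⟩ := mem_erase.1 hx
        obtain ⟨hzx, hzx1, -⟩ := hz x hxs
        have h5 := h.hc x hxs
        have h6 := hrest x hxs hxi
        have h7 := h.hj x hxs
        rcases hzx1.lt_or_eq with h8 | h8
        · nlinarith
        · rw [← h8]; rw [← h8] at hzx; nlinarith
      have h5 := h.hc i hi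
      rw [hZ, hcd, hdi] at h4
      linarith
    have h4 : ∑ i ∈ s, c i ≤ 2 := hZ ▸ sum_le_sum fun i hi => by
      have := h.hc i hi; have := hz0 i hi; nlinarith
    have h5 := sum_sq_le_sq_sum' s (w := c) fun i hi => by linarith [h.hc i hi]
    have h6 : 0 ≤ ∑ i ∈ s, c i := sum_nonneg fun i hi => by linarith [h.hc i hi]
    rw [h3] at hev h5
    obtain ⟨w, hw⟩ := hev
    rcases (by omega : ∑ i ∈ s, c i = 0 ∨ ∑ i ∈ s, c i = 1 ∨ ∑ i ∈ s, c i = 2) with h7 | h7 | h7
    · rw [h7] at h5; norm_num at h5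
    · rw [h7] at h5; norm_num at h5
    · rw [h7] at hw; omega
  · -- three values with sum `-2`, squares at most five and small degrees
    have hj0 := h.hj0 one_ne_zero
    have hdeg : ∑ i ∈ s, c i * j i = 6 - j0 := by have := h.degree; push_cast at this; linarith
    have hval : ∑ i ∈ s, c i * d i = -2 - (e - δ) := by have := h.value; linarith
    have h2 : ∑ i ∈ s, c i ^ 2 = 2 := by have := h.norm; linarith
    have hc1 : ∀ i ∈ s, c i = 1 := fun i hi => by
      have h1 : c i ^ 2 ≤ 2 := h2 ▸ single_le_sum (f := fun x => c x ^ 2) (fun x _ => sq_nonneg _) hi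
      have := h.hc i hi
      nlinarith
    rw [sum_congr rfl fun i hi => by rw [hc1 i hi, one_mul]] at hdeg hval
    rw [sum_congr rfl fun i hi => by rw [hc1 i hi, one_pow], sum_const, nsmul_one] at h2
    have hcard : s.card = 2 := by exact_mod_cast h2
    classical
    obtain ⟨x, y, hxy, rfl⟩ := card_eq_two.1 hcard
    rw [sum_pair hxy] at hdeg hval hsq
    have hx := h.cong x (mem_insert_self x _)
    have hy := h.cong y (mem_insert_of_mem (mem_singleton_self y))
    have h0 := h.cong0 one_ne_zero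
    have hjx := h.hj x (mem_insert_self x _)
    have hjy := h.hj y (mem_insert_of_mem (mem_singleton_self y))
    obtain ⟨hx1, hx2⟩ := hd x (mem_insert_self x _)
    obtain ⟨hy1, hy2⟩ := hd y (mem_insert_of_mem (mem_singleton_self y))
    obtain ⟨a, ha⟩ := hx
    obtain ⟨b, hb⟩ := hy
    obtain ⟨w, hw⟩ := h0
    push_cast at hw
    rcases h.hδ with rfl | rfl
    · interval_cases hdx : d x <;> interval_cases hdy : d y <;> omega
    · interval_cases hdx : d x <;> interval_cases hdy : d y <;> omega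

/-- The squares are small away from `k = 3`. -/
theorem Data.square_le (h : Data s c d j k m q r c0 j0 e δ) (hq : 2 ≤ q) {i : ι} (hi : i ∈ s) :
    d i ^ 2 ≤ 2 * k - 2 := by
  have h1 := (single_le_sum (f := fun x => d x ^ 2) (fun x _ => sq_nonneg _) hi).trans h.squares
  have h2 : 2 * δ * e - q * e ^ 2 ≤ 0 := by
    rcases (by omega : e ≤ -1 ∨ e = 0 ∨ 1 ≤ e) with he | he | he <;> rcases h.hδ with rfl | rfl <;>
      nlinarith
  linarith

/-- A bound on the values away from `k = 3`. -/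
theorem Data.exists_bound (h : Data s c d j k m q r c0 j0 e δ)
    (hbig : (k = 5 ∧ m = 31 ∧ q = 3) ∨ (7 ≤ k ∧ (k : ℤ) + 2 ≤ q ∧ 20 * (k : ℤ) < 2 * m)) :
    ∃ D : ℤ, 0 ≤ D ∧ D < m ∧ (D - 1) ^ 2 + 4 ≤ 2 * q ∧ ∀ i ∈ s, -D ≤ d i ∧ d i ≤ D := by
  rcases hbig with ⟨hk, hm, hq⟩ | ⟨hk, hq, hm⟩
  · refine ⟨2, by norm_num, by omega, by rw [hq]; norm_num, fun i hi => ?_⟩
    have h1 := h.square_le (by omega) hi
    subst hk
    push_cast at h1
    exact sq_bound h1 (by norm_num) (by norm_num)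
  · have hk7 : (7 : ℤ) ≤ k := by exact_mod_cast hk
    by_cases hs : s.Nonempty
    · obtain ⟨i, hi, hmax⟩ := exists_max_image s (fun i => |d i|) hs
      have h1 := h.square_le (by linarith) hi
      have h2 : |d i| ^ 2 = d i ^ 2 := sq_abs _
      refine ⟨|d i|, abs_nonneg _, ?_, ?_, fun x hx => abs_le.1 (hmax x hx)⟩
      · have := (sq_bound (b := (k : ℤ)) (le_trans h1 le_rfl) (by nlinarith) (by linarith))
        have h3 : |d i| ≤ k := abs_le.2 this
        linarith
      · rcases (by have := abs_nonneg (d i); omega : |d i| = 0 ∨ 1 ≤ |d i|) with h3 | h3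
        · rw [h3]; norm_num; linarith
        · nlinarith
    · exact ⟨0, le_rfl, by linarith, by norm_num; linarith, fun i hi => absurd ⟨i, hi⟩ hs⟩

/-- The identity for the levels. -/
theorem level_sum {z : ι → ℤ} (hz : ∀ i ∈ s, 2 * j i = d i + m * z i ∧ 0 ≤ z i ∧ z i ≤ 2) :
    2 * ∑ i ∈ s, c i * j i = ∑ i ∈ s, c i * d i + m * ∑ i ∈ s, c i * z i := by
  rw [mul_sum, mul_sum, ← sum_add_distrib]
  exact sum_congr rfl fun i hi => by
    rw [show 2 * (c i * j i) = c i * (2 * j i) by ring, (hz i hi).1]; ring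

/-- No exceptional constituents. -/
theorem Data.false_zero (h : Data s c d j k m q r c0 j0 e δ) (h0 : c0 = 0) {D : ℤ} (hD0 : 0 ≤ D)
    (hDm : D < m) (hDq : (D - 1) ^ 2 + 4 ≤ 2 * q) (hd : ∀ i ∈ s, -D ≤ d i ∧ d i ≤ D) : False := by
  subst h0
  have hm0 : 0 < m := by linarith
  obtain ⟨z, hz⟩ := exists_level s d j hDm h.hj (fun i hi => h.j_le hi) hd h.cong
  have hlev := level_sum (c := c) hz
  have hcd : ∑ i ∈ s, c i * d i = -2 := by have := h.value; linarith
  have hZ : ∑ i ∈ s, c i * z i = 2 := by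
    have := h.degree
    exact mul_left_cancel₀ hm0.ne' (by linarith : m * _ = m * 2)
  obtain ⟨B, C, hB, hBC, hC, hCZ, hn⟩ := norm_le h.hc h.hj hz (fun i hi _ => (hd i hi).1) hD0 hZ hcd
  have h1 := h.norm
  have h2 := h.hr0
  have hB1 : B ≤ D - 1 := by
    have : D * C ≤ D * 2 := mul_le_mul_of_nonneg_left hCZ hD0
    linarith
  have hB2 : B ^ 2 ≤ (D - 1) ^ 2 := pow_le_pow_left₀ hB hB1 2
  have hC2 : C ^ 2 ≤ 2 ^ 2 := pow_le_pow_left₀ hC hCZ 2
  linarith

/-- Exceptional constituents for `k = 5`. -/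
theorem Data.false_five (h : Data s c d j k m q r c0 j0 e δ) (h1 : c0 = 1) (hk : k = 5)
    (hm : m = 31) (hq : q = 3) : False := by
  subst h1; subst hk; subst hm; subst hq
  have hj0 := h.hj0 one_ne_zero
  obtain ⟨w, hw⟩ := h.cong0 one_ne_zero
  push_cast at hw
  have hsq := h.squares
  push_cast at hsq
  have hsq0 : 0 ≤ ∑ i ∈ s, d i ^ 2 := sum_nonneg fun i _ => sq_nonneg _
  have he : -2 ≤ e ∧ e ≤ 2 := by
    constructor <;> rcases h.hδ with rfl | rfl <;> nlinarith
  obtain ⟨he1, he2⟩ := he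
  have hd : ∀ i ∈ s, -2 ≤ d i ∧ d i ≤ 2 := fun i hi => by
    have h1 := h.square_le (by norm_num) hi
    push_cast at h1
    exact sq_bound h1 (by norm_num) (by norm_num)
  obtain ⟨z, hz⟩ := exists_level s d j (by norm_num : (2 : ℤ) < 31) h.hj (fun i hi => h.j_le hi) hd
    h.cong
  have hlev := level_sum (c := c) hz
  have hdeg := h.degree
  have hval := h.value
  have hn := h.norm
  have hr := h.hr0
  set Z := ∑ i ∈ s, c i * z i with hZdef
  have hZ0 : 0 ≤ Z := sum_nonneg fun i hi =>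
    mul_nonneg (by linarith [h.hc i hi]) (hz i hi).2.1
  have hcj : ∀ i ∈ s, 1 ≤ c i * j i := fun i hi =>
    one_le_mul_of_one_le_of_one_le (h.hc i hi) (h.hj i hi)
  have hJ : 0 ≤ ∑ i ∈ s, c i * j i := sum_nonneg fun i hi => le_trans zero_le_one (hcj i hi)
  rcases h.hδ with rfl | rfl
  · obtain rfl : w = 0 := by omega
    rcases (by omega : e = 0 ∨ e = 2 ∨ e = -2) with rfl | rfl | rfl
    · have hZ1 : Z = 1 := by omega
      have hd1 : ∀ i ∈ s, z i ≠ 0 → -1 ≤ d i := fun i hi hzi => by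
        obtain ⟨hz1, hz2, hz3⟩ := hz i hi
        have hzle : c i * z i ≤ Z := single_le_sum (f := fun x => c x * z x)
          (fun x hx => mul_nonneg (by linarith [h.hc x hx]) (hz x hx).2.1) hi
        have hci := h.hc i hi
        have hz4 : z i ≤ c i * z i := le_mul_of_one_le_left hz2 hci
        have := (hd i hi).1
        omega
      obtain ⟨B, C, hB, hBC, hC, hCZ, hnn⟩ := norm_le h.hc h.hj hz hd1 zero_le_one
        (Z := Z) rfl (E := -1) (by linarith)
      obtain rfl : B = 0 := by omega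
      have hC2 : C ^ 2 ≤ 1 ^ 2 := pow_le_pow_left₀ hC (by omega) 2
      linarith
    · have hno : s = ∅ := eq_empty_of_forall_notMem fun i hi => by
        have h0 : d i ^ 2 ≤ 0 :=
          (single_le_sum (f := fun x => d x ^ 2) (fun x _ => sq_nonneg _) hi).trans (by linarith)
        have h0' : d i = 0 := by nlinarith
        obtain ⟨hz1, hz2, hz3⟩ := hz i hi
        have := h.hj i hi
        have := h.j_le hi
        omega
      rw [hno, sum_empty] at hn
      linarith
    · linarith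
  · obtain rfl : w = 1 := by omega
    obtain rfl : e = -1 := by omega
    have hno : s = ∅ := eq_empty_of_forall_notMem fun i hi => by
      have h0 := single_le_sum (f := fun x => c x * j x)
        (fun x hx => le_trans zero_le_one (hcj x hx)) hi
      have := hcj i hi
      omega
    rw [hno, sum_empty] at hn
    linarith

/-- Exceptional constituents for `k ≥ 7`. -/
theorem Data.false_seven (h : Data s c d j k m q r c0 j0 e δ) (h1 : c0 = 1) (hk : (7 : ℤ) ≤ k)
    (hq : (k : ℤ) + 2 ≤ q) (hm : 20 * (k : ℤ) < 2 * m) {D : ℤ} (hD0 : 0 ≤ D)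
    (hDm : D < m) (hDq : (D - 1) ^ 2 + 4 ≤ 2 * q) (hd : ∀ i ∈ s, -D ≤ d i ∧ d i ≤ D) : False := by
  subst h1
  have hm0 : 0 < m := by linarith
  have hj0 := h.hj0 one_ne_zero
  obtain ⟨w, hw⟩ := h.cong0 one_ne_zero
  obtain ⟨z, hz⟩ := exists_level s d j hDm h.hj (fun i hi => h.j_le hi) hd h.cong
  have hlev := level_sum (c := c) hz
  have hdeg := h.degree
  have hval := h.value
  have hcj : 0 ≤ ∑ i ∈ s, c i * j i := sum_nonneg fun i hi =>
    mul_nonneg (by linarith [h.hc i hi]) (by linarith [h.hj i hi])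
  have hj0le : j0 ≤ 2 * k := by
    by_contra hcon
    have : q * (2 * k + 1) ≤ q * j0 := mul_le_mul_of_nonneg_left (by omega) (by linarith)
    have := h.hq
    linarith
  have hsq := h.squares
  have hsq0 : 0 ≤ ∑ i ∈ s, d i ^ 2 := sum_nonneg fun i _ => sq_nonneg _
  have he : -1 ≤ e ∧ e ≤ 1 := by
    constructor <;> by_contra hcon
    · have h2 : 4 ≤ e ^ 2 := by nlinarith
      have h3 : ((k : ℤ) + 2) * e ^ 2 ≤ q * e ^ 2 := mul_le_mul_of_nonneg_right hq (sq_nonneg _)
      have h4 : -(2 * δ * e) ≤ e ^ 2 ∧ 2 * δ * e ≤ e ^ 2 := by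
        rcases h.hδ with rfl | rfl <;> constructor <;> nlinarith
      have h5 : ((k : ℤ) + 1) * 4 ≤ ((k : ℤ) + 1) * e ^ 2 :=
        mul_le_mul_of_nonneg_left h2 (by linarith)
      linarith [h4.2]
    · have h2 : 4 ≤ e ^ 2 := by nlinarith
      have h3 : ((k : ℤ) + 2) * e ^ 2 ≤ q * e ^ 2 := mul_le_mul_of_nonneg_right hq (sq_nonneg _)
      have h4 : 2 * δ * e ≤ e ^ 2 := by
        rcases h.hδ with rfl | rfl <;> nlinarith
      have h5 : ((k : ℤ) + 1) * 4 ≤ ((k : ℤ) + 1) * e ^ 2 :=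
        mul_le_mul_of_nonneg_left h2 (by linarith)
      linarith
  obtain rfl : w = 0 := by
    by_contra hw0
    rcases lt_or_gt_of_ne hw0 with h1 | h1
    · have : m * w ≤ m * (-1) := mul_le_mul_of_nonneg_left (by omega) hm0.le
      rcases h.hδ with rfl | rfl <;> linarith
    · have : m * 1 ≤ m * w := mul_le_mul_of_nonneg_left (by omega) hm0.le
      rcases h.hδ with rfl | rfl <;> linarith
  rcases h.hδ with rfl | rfl
  · obtain rfl : e = 0 := by omega
    have hZ : ∑ i ∈ s, c i * z i = 1 := by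
      refine mul_left_cancel₀ hm0.ne' ?_
      have := h.hq
      linear_combination -hlev + 2 * hdeg - hval - q * hw - this
    obtain ⟨B, C, hB, hBC, hC, hCZ, hn⟩ := norm_le h.hc h.hj hz (fun i hi _ => (hd i hi).1) hD0
      hZ (E := -1) (by linarith)
    have h1 := h.norm
    have h2 := h.hr0
    have hB1 : 2 * B ≤ D - 1 := by
      have : D * C ≤ D * 1 := mul_le_mul_of_nonneg_left hCZ hD0
      linarith
    have hB2 : (2 * B) ^ 2 ≤ (D - 1) ^ 2 := pow_le_pow_left₀ (by linarith) hB1 2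
    have hC2 : C ^ 2 ≤ 1 ^ 2 := pow_le_pow_left₀ hC hCZ 2
    nlinarith
  · omega

/-- The count is impossible. -/
theorem Data.elim (h : Data s c d j k m q r c0 j0 e δ) : False := by
  rcases h.cases with ⟨hk, hm, hq⟩ | hbig
  · exact h.false_three hk hm hq
  obtain ⟨D, hD0, hDm, hDq, hd⟩ := h.exists_bound hbig
  rcases h.c0_cases with h0 | h1
  · exact h.false_zero h0 hD0 hDm hDq hd
  · rcases hbig with ⟨hk, hm, hq⟩ | ⟨hk, hq, hm⟩
    · exact h.false_five h1 hk hm hq
    · exact h.false_seven h1 (by exact_mod_cast hk) hq hm hD0 hDm hDq hd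

end CfsgLib.Bender.Commuting.CountArith
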