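import Cfsg.Agent.Bender.Commuting.Induced
import Cfsg.Agent.Char.FrobeniusTI
import Cfsg.Agent.Char.CoherenceEqual
import Cfsg.Agent.Char.OddFrobeniusCoherence

/-!
Bender's theorem, commuting branch: the exceptional characters at the cyclic subgroup of the
configuration.
-/

set_option autoImplicit false
set_option linter.unusedSectionVars false
set_option linter.style.haveILetI false

namespace CfsgLib.Bender.Commuting

open Subgroup
open CfsgLib.Bender.GSide
open CfsgLib.Char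
open scoped ComplexConjugate

universe u

section General

variable {G : Type u} [Group G]

/-- An irreducible character is not the negative of one. -/
theorem not_isIrr_neg [Finite G] {χ : G → ℂ} (h : Cfsg.IsIrrCharacter G χ) :
    ¬ Cfsg.IsIrrCharacter G (-χ) := fun h' => by
  obtain ⟨n, hn0, hn⟩ := IsIrrCharacter.exists_degree h
  obtain ⟨n', -, hn'⟩ := IsIrrCharacter.exists_degree h'
  rw [Pi.neg_apply, hn, neg_eq_iff_add_eq_zero, ← Nat.cast_add, Nat.cast_eq_zero] at hn'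
  omega

/-- A generalized character which is constant off the identity takes an integer value there. -/
theorem exists_int_of_const {A : Type u} [Group A] [Fintype A] {φ : A → ℂ}
    (hφ : Cfsg.IsIrrCharacter A φ) (hne : φ ≠ fun _ => 1) (hφ1 : φ 1 = 1) {f : A → ℂ}
    (hf : Cfsg.IsGeneralizedCharacter A f) {c : ℂ} (hc : ∀ a : A, a ≠ 1 → f a = c) :
    ∃ d z : ℤ, c = d ∧ f 1 = d + (Nat.card A : ℂ) * z := by
  classical
  have hf' : f = c • (fun _ => (1 : ℂ)) + (f 1 - c) • (fun a : A => if a = 1 then (1 : ℂ) else 0) := by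
    funext a
    by_cases ha : a = 1
    · subst ha; simp
    · simp [ha, hc a ha]
  have hδ : ∀ θ : A → ℂ, Cfsg.classInner (fun a : A => if a = 1 then (1 : ℂ) else 0) θ =
      conj (θ 1) / (Nat.card A : ℂ) := fun θ => by
    rw [classInner_def, Finset.sum_eq_single (1 : A) (fun b _ hb => by simp [hb])
      (fun h => absurd (Finset.mem_univ _) h), if_pos rfl]
    ring
  obtain ⟨z1, hz1⟩ := IsGeneralized.exists_classInner_eq_int hf isGeneralized_one
  obtain ⟨z2, hz2⟩ := IsGeneralized.exists_classInner_eq_int hf (IsIrrCharacter.isGeneralized hφ)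
  rw [hf', classInner_add_left, classInner_smul_left, classInner_smul_left, classInner_one_one,
    hδ, map_one, mul_one] at hz1
  rw [hf', classInner_add_left, classInner_smul_left, classInner_smul_left,
    IsIrrCharacter.classInner_of_ne isIrrCharacter_one hφ (Ne.symm hne), hδ, hφ1, map_one,
    mul_zero, zero_add] at hz2
  have hA : (Nat.card A : ℂ) ≠ 0 := Nat.cast_ne_zero.2 Nat.card_pos.ne'
  refine ⟨z1 - z2, z2, ?_, ?_⟩
  · push_cast; linear_combination hz1 - hz2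
  · rw [← sub_eq_iff_eq_add']
    push_cast
    field_simp at hz1 hz2
    apply mul_left_cancel₀ hA
    linear_combination (Nat.card A : ℂ) * hz2 + hz1 - hz2

variable [Fintype G] {C N : Subgroup G} [Fintype N] [hn : (C.subgroupOf N).Normal]

/-- The characters of a Frobenius group with abelian kernel which are not trivial on the kernel. -/
theorem relevant_data (hCN : C ≤ N)
    (hC : ∀ y ∈ C, y ≠ 1 → centralizer ({y} : Set G) ≤ C)
    (hab : ∀ y ∈ C, ∀ z ∈ C, y * z = z * y) (hne : C ≠ ⊥) :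
    ∃ S : Finset (N → ℂ), (↑S : Set (N → ℂ)) = relevantChars (C.subgroupOf N) ∧
      (∀ χ ∈ S, χ 1 = ((C.subgroupOf N).index : ℂ)) ∧
      (C.subgroupOf N).index * S.card = Nat.card C - 1 ∧
      (∃ φ : C.subgroupOf N → ℂ, Cfsg.IsIrrCharacter (C.subgroupOf N) φ ∧ φ ≠ (fun _ => 1) ∧
        φ 1 = 1) ∧
      (∀ β, Cfsg.IsIrrCharacter N β → β ∉ S → ∀ k ∈ C.subgroupOf N, β k = β 1) ∧
      ∀ k ∈ C.subgroupOf N, k ≠ 1 → ∑ χ ∈ S, χ k = -1 ∧
        ∑ χ ∈ S, χ k * conj (χ k) = (Nat.card C : ℂ) - ((C.subgroupOf N).index : ℂ) := by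
  classical
  set A := C.subgroupOf N with hAdef
  have hCA : ∀ a ∈ A, a ≠ 1 → centralizer ({a} : Set N) ≤ A := centralizer_subgroupOf_le hC
  have hcA : Nat.card A = Nat.card C := Nat.card_congr (subgroupOfEquivOfLe hCN).toEquiv
  have habA : ∀ a b : A, a * b = b * a := fun a b =>
    Subtype.ext (Subtype.ext (hab _ (mem_subgroupOf.1 a.2) _ (mem_subgroupOf.1 b.2)))
  have hrel : (↑(aboveInd A ⊥) : Set (N → ℂ)) = relevantChars A := by
    rw [coe_aboveInd, inducedIrrAbove_bot_eq hCA]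
    rfl
  have hS : ∀ χ, χ ∈ aboveInd A ⊥ ↔ χ ∈ relevantChars A := fun χ => by
    rw [← hrel, Finset.mem_coe]
  have hdeg : ∀ χ ∈ aboveInd A ⊥, χ 1 = (A.index : ℂ) := fun χ hχ => by
    obtain ⟨φ, hφ, -, -, rfl⟩ := mem_aboveInd.1 hχ
    rw [indFun_one, IsIrrCharacter.apply_one_eq_one hφ habA, mul_one]
  have hi0 : (A.index : ℂ) ≠ 0 := Nat.cast_ne_zero.2 A.index_ne_zero_of_finite
  have hcard : A.index * (aboveInd A ⊥).card = Nat.card C - 1 := by
    have h := sum_weight_aboveInd (K := A) (⊥ : Subgroup N)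
    rw [relIndex_bot_left, hcA, Finset.sum_congr rfl (g := fun _ => ((A.index : ℝ)) ^ 2) fun χ hχ => ?_,
      Finset.sum_const, nsmul_eq_mul] at h
    · have hi : (A.index : ℝ) ≠ 0 := Nat.cast_ne_zero.2 A.index_ne_zero_of_finite
      have h2 : (A.index : ℝ) * (aboveInd A ⊥).card = (Nat.card C : ℝ) - 1 :=
        mul_left_cancel₀ hi (by linear_combination h)
      rw [← Nat.cast_one, ← Nat.cast_sub (Nat.card_pos (α := C)), ← Nat.cast_mul] at h2
      exact Nat.cast_inj.1 h2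
    · have h1 : cnorm χ = 1 := by
        rw [cnorm, IsIrrCharacter.classInner_self ((hS χ).1 hχ).1]; simp
      have h2 : cdeg χ = A.index := by rw [cdeg, hdeg χ hχ]; simp
      rw [h1, h2, Nat.cast_one, div_one]
  have hone : 0 < Nat.card C - 1 := by
    have := (one_lt_card_iff_ne_bot C).2 hne
    omega
  obtain ⟨χ₀, hχ₀⟩ : (aboveInd A ⊥).Nonempty := by
    rw [← Finset.card_pos]
    exact Nat.pos_of_ne_zero fun h0 => by rw [h0, mul_zero] at hcard; omega
  have htriv : ∀ β, Cfsg.IsIrrCharacter N β → β ∉ aboveInd A ⊥ → ∀ k ∈ A, β k = β 1 :=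
    fun β hβ hn' k hk => apply_eq_one_of_not_relevant hβ (fun h => hn' ((hS β).2 h)) hk
  have hsub : aboveInd A ⊥ ⊆ irrFinset N := fun χ hχ => mem_irrFinset.2 ((hS χ).1 hχ).1
  have hrest : ∑ β ∈ irrFinset N \ aboveInd A ⊥, β 1 ^ 2 = (A.index : ℂ) := by
    have h := sum_degree_sq (G := N)
    rw [← Finset.sum_sdiff hsub, Finset.sum_congr (s₁ := aboveInd A ⊥) rfl fun χ hχ => by
      rw [hdeg χ hχ], Finset.sum_const, nsmul_eq_mul] at h
    have h1 : (A.index : ℂ) * (Nat.card C : ℂ) = Nat.card N := by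
      rw [← hcA, ← Nat.cast_mul, index_mul_card]
    have h2 : (A.index : ℂ) * ((aboveInd A ⊥).card : ℂ) = (Nat.card C : ℂ) - 1 := by
      rw [← Nat.cast_mul, hcard, Nat.cast_sub (Nat.card_pos (α := C)), Nat.cast_one]
    linear_combination h - h1 - (A.index : ℂ) * h2
  refine ⟨aboveInd A ⊥, hrel, hdeg, hcard, ?_, htriv, fun k hk hk1 => ⟨?_, ?_⟩⟩
  · obtain ⟨φ, hφ, h1, -, -⟩ := mem_aboveInd.1 hχ₀
    exact ⟨φ, hφ, h1, IsIrrCharacter.apply_one_eq_one hφ habA⟩
  · have h := congrFun (leftRegular_eq_sum (G := N)) k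
    rw [leftRegular_character, if_neg hk1, Finset.sum_apply] at h
    simp only [Pi.smul_apply, smul_eq_mul] at h
    rw [← Finset.sum_sdiff hsub,
      Finset.sum_congr (s₁ := irrFinset N \ aboveInd A ⊥) rfl (g := fun β => β 1 ^ 2) fun β hβ => by
        rw [htriv β (mem_irrFinset.1 (Finset.mem_sdiff.1 hβ).1) (Finset.mem_sdiff.1 hβ).2 k hk, sq],
      hrest, Finset.sum_congr rfl (g := fun χ => (A.index : ℂ) * χ k) fun χ hχ => by rw [hdeg χ hχ],
      ← Finset.mul_sum] at h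
    exact mul_left_cancel₀ hi0 (by linear_combination -h)
  · have hcent : Nat.card (centralizer ({k} : Set N)) = Nat.card C := by
      rw [← hcA]
      congr 1
      have : centralizer ({k} : Set N) = A := le_antisymm (hCA k hk hk1) fun a ha =>
        mem_centralizer_singleton_iff.2 (congrArg Subtype.val (habA ⟨a, ha⟩ ⟨k, hk⟩))
      rw [this]
    have h := sum_irr_mul_conj (G := N) k k
    rw [if_pos (IsConj.refl k), hcent, ← Finset.sum_sdiff hsub,
      Finset.sum_congr (s₁ := irrFinset N \ aboveInd A ⊥) rfl (g := fun β => β 1 ^ 2) fun β hβ => by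
        have hβi := mem_irrFinset.1 (Finset.mem_sdiff.1 hβ).1
        obtain ⟨d, -, hd⟩ := IsIrrCharacter.exists_degree hβi
        rw [htriv β hβi (Finset.mem_sdiff.1 hβ).2 k hk, hd, Complex.conj_natCast, sq],
      hrest] at h
    linear_combination h

set_option maxHeartbeats 1000000 in
/-- The exceptional characters at a self-centralizing abelian TI subgroup, with one further
character `ρ` which is one on it. -/
theorem exists_family (hCN : C ≤ N)
    (hC : ∀ y ∈ C, y ≠ 1 → centralizer ({y} : Set G) ≤ C)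
    (hab : ∀ y ∈ C, ∀ z ∈ C, y * z = z * y) (h3 : 3 ≤ Nat.card C)
    (hTI : ∀ g : G, g ∉ N → ∀ t ∈ C, g * t * g⁻¹ ∈ C → t = 1)
    {ρ : G → ℂ} (hρC : ∀ y ∈ C, y ≠ 1 → ρ y = 1) :
    ∃ (E : Finset (G → ℂ)) (e δ : ℤ), (δ = 1 ∨ δ = -1) ∧
      (C.subgroupOf N).index * E.card = Nat.card C - 1 ∧
      (∀ χ ∈ E, Cfsg.IsIrrCharacter G χ ∧ χ ≠ (fun _ => 1) ∧ χ ≠ ρ) ∧
      (∀ χ : G → ℂ, Cfsg.IsIrrCharacter G χ → χ ∉ E →
        ∃ d : ℤ, ∀ y ∈ C, y ≠ 1 → χ y = (d : ℂ)) ∧
      (∀ χ ∈ E, ∀ χ' ∈ E, χ 1 = χ' 1 ∧ ∀ Φ : G → ℂ, Cfsg.IsClassFunction G Φ → ∀ c : ℂ,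
        (∀ y ∈ C, y ≠ 1 → Φ y = c) → Cfsg.classInner Φ χ = Cfsg.classInner Φ χ') ∧
      (∀ y ∈ C, y ≠ 1 → ∑ χ ∈ E, χ y = (E.card : ℂ) * (e : ℂ) - (δ : ℂ) ∧
        ∑ χ ∈ E, χ y * conj (χ y) = (E.card : ℂ) * (e : ℂ) ^ 2 - 2 * (δ : ℂ) * (e : ℂ) +
          (Nat.card C : ℂ) - ((C.subgroupOf N).index : ℂ)) ∧
      ∀ χ ∈ E, ∃ z : ℤ, χ 1 = (e : ℂ) + ((C.subgroupOf N).index : ℂ) * (δ : ℂ) +
        (Nat.card C : ℂ) * (z : ℂ) := by
  classical
  have hne : C ≠ ⊥ := fun h => by rw [h, Subgroup.card_bot] at h3; omega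
  obtain ⟨S, hrel, hdeg, hcard, ⟨φ₀, hφ₀, hφ₀1, hφ₀d⟩, htriv, hsums⟩ :=
    relevant_data (N := N) hCN hC hab hne
  set A := C.subgroupOf N with hAdef
  have hCA : ∀ a ∈ A, a ≠ 1 → centralizer ({a} : Set N) ≤ A := centralizer_subgroupOf_le hC
  have hTA := tI_map_subgroupOf (K := C) (N := N) hTI
  have hcA : Nat.card A = Nat.card C := Nat.card_congr (subgroupOfEquivOfLe hCN).toEquiv
  have hS : ∀ χ, χ ∈ S ↔ χ ∈ relevantChars A := fun χ => by rw [← hrel, Finset.mem_coe]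
  have hi0 : (A.index : ℂ) ≠ 0 := Nat.cast_ne_zero.2 A.index_ne_zero_of_finite
  have hrestrict : ∀ {f : G → ℂ}, Cfsg.IsGeneralizedCharacter G f →
      Cfsg.IsGeneralizedCharacter A (fun a : A => f ((a : N) : G)) := fun hf =>
    IsGeneralized.restrict (IsGeneralized.restrict hf N) A
  -- a generalized character constant on the nontrivial elements of `C` is an integer there
  have hint : ∀ f : G → ℂ, Cfsg.IsGeneralizedCharacter G f → ∀ c : ℂ,
      (∀ y ∈ C, y ≠ 1 → f y = c) → ∃ d z : ℤ, c = d ∧ f 1 = d + (Nat.card C : ℂ) * z := by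
    intro f hf c hc
    obtain ⟨d, z, h1, h2⟩ := exists_int_of_const hφ₀ hφ₀1 hφ₀d (hrestrict hf) fun a ha =>
      hc _ a.2 fun h => ha (Subtype.ext (Subtype.ext h))
    exact ⟨d, z, h1, by rw [← hcA]; exact h2⟩
  obtain ⟨y₀, hy₀, hy₀1⟩ : ∃ y ∈ C, y ≠ (1 : G) := by
    by_contra h
    push Not at h
    exact hne ((eq_bot_iff_forall _).2 h)
  have hpos : 0 < S.card := Nat.pos_of_ne_zero fun h0 => by rw [h0, mul_zero] at hcard; omega
  rcases Nat.lt_or_ge 1 S.card with htwo | hle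
  · -- at least two characters
    obtain ⟨hτ, hτ1⟩ := indFun_TI_isometry (G := G) (H := C) (L := N) hTI
    rw [inducedIrrAbove_bot_eq hCA,
      show {χ | Cfsg.IsIrrCharacter N χ ∧ ∃ a ∈ A, χ a ≠ χ 1} = (↑S : Set (N → ℂ)) from
        hrel.symm] at hτ hτ1
    obtain ⟨-, star, hstar, hext⟩ := isCoherent_equal_irr S (fun χ hχ => ((hS χ).1 hχ).1)
      (fun χ hχ ξ hξ => by rw [hdeg χ hχ, hdeg ξ hξ]) htwo hτ hτ1
    rw [hrel] at hstar hext
    replace hext : ∀ α ∈ Cfsg.zspanOn (relevantChars A) ({1}ᶜ : Set N),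
        star α = Cfsg.indFun N α := hext
    obtain ⟨ξ₀, hξ₀, ξ₁, hξ₁, h01⟩ := Finset.one_lt_card.1 htwo
    have h2 : ∃ χ ∈ relevantChars A, ∃ ξ ∈ relevantChars A, χ ≠ ξ :=
      ⟨ξ₀, (hS _).1 hξ₀, ξ₁, (hS _).1 hξ₁, h01⟩
    obtain ⟨M, hM⟩ := exists_int_star_sub star hstar hext hCA hTA ((hS _).1 hξ₀)
    have hsval : ∀ χ ∈ S, ∀ y (hy : y ∈ C), y ≠ 1 →
        star χ y = χ ⟨y, hCN hy⟩ + (M : ℂ) := fun χ hχ y hy hy1 => by
      have h := hM χ ((hS χ).1 hχ) ⟨y, hCN hy⟩ (mem_subgroupOf.2 hy)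
        fun h => hy1 (congrArg Subtype.val h)
      rw [hdeg χ hχ, mul_div_assoc, div_self hi0, mul_one] at h
      exact (sub_eq_iff_eq_add'.1 h)
    have hz : ∀ χ ∈ S, χ ∈ Cfsg.zspan (relevantChars A) := fun χ hχ =>
      subset_zspan ((hS χ).1 hχ)
    have hpair : ∀ χ ∈ S, ∀ ξ ∈ S, Cfsg.indFun N (χ - ξ) = star χ - star ξ := fun χ hχ ξ hξ => by
      have hM' : Cfsg.IsLinearIsometryOn
          ((Submodule.span ℤ (relevantChars A) : Submodule ℤ (N → ℂ)) : Set (N → ℂ)) star := hstar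
      rw [← hext _ (mem_zspanOn_one.2 ⟨Submodule.sub_mem _ (hz χ hχ) (hz ξ hξ), by
        rw [Pi.sub_apply, hdeg χ hχ, hdeg ξ hξ, sub_self]⟩),
        isometry_map_sub hM' (hz χ hχ) (hz ξ hξ)]
    have hone : ∀ χ ∈ S, star χ 1 = star ξ₀ 1 := fun χ hχ => by
      have h := congrFun (hpair χ hχ ξ₀ hξ₀) 1
      rw [indFun_one, Pi.sub_apply, Pi.sub_apply, hdeg χ hχ, hdeg ξ₀ hξ₀, sub_self, mul_zero] at h
      exact (sub_eq_zero.1 h.symm)
    have hsign : ∀ χ ∈ S, Cfsg.IsIrrCharacter G (star χ) ∨ Cfsg.IsIrrCharacter G (-star χ) :=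
      fun χ hχ => IsGeneralized.isIrr_or_neg (hstar.2.2.2 _ (hz χ hχ)) (by
        rw [hstar.2.2.1 _ (hz χ hχ) _ (hz χ hχ), IsIrrCharacter.classInner_self ((hS χ).1 hχ).1])
    obtain ⟨δ, hδ, hirr⟩ : ∃ δ : ℤ, (δ = 1 ∨ δ = -1) ∧
        ∀ χ ∈ S, Cfsg.IsIrrCharacter G ((δ : ℂ) • star χ) := by
      rcases hsign ξ₀ hξ₀ with h0 | h0
      · refine ⟨1, Or.inl rfl, fun χ hχ => ?_⟩
        rw [Int.cast_one, one_smul]
        refine (hsign χ hχ).resolve_right fun h => ?_
        obtain ⟨p, hp0, hp⟩ := IsIrrCharacter.exists_degree h0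
        obtain ⟨q, -, hq⟩ := IsIrrCharacter.exists_degree h
        rw [Pi.neg_apply, hone χ hχ, hp, neg_eq_iff_add_eq_zero, ← Nat.cast_add,
          Nat.cast_eq_zero] at hq
        omega
      · refine ⟨-1, Or.inr rfl, fun χ hχ => ?_⟩
        rw [Int.cast_neg, Int.cast_one, neg_one_smul]
        refine (hsign χ hχ).resolve_left fun h => ?_
        obtain ⟨p, hp0, hp⟩ := IsIrrCharacter.exists_degree h0
        obtain ⟨q, -, hq⟩ := IsIrrCharacter.exists_degree h
        rw [Pi.neg_apply, ← hone χ hχ, hq, neg_eq_iff_add_eq_zero, ← Nat.cast_add,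
          Nat.cast_eq_zero] at hp
        omega
    have hδ2 : (δ : ℂ) * δ = 1 := by rcases hδ with rfl | rfl <;> simp
    have hδ0 : (δ : ℂ) ≠ 0 := by rcases hδ with rfl | rfl <;> simp
    have hinj : Set.InjOn (fun χ => (δ : ℂ) • star χ) (↑S : Set (N → ℂ)) := fun χ hχ ξ hξ h => by
      by_contra hne'
      have h1 := hstar.2.2.1 _ (hz χ hχ) _ (hz ξ hξ)
      rw [IsIrrCharacter.classInner_of_ne ((hS χ).1 hχ).1 ((hS ξ).1 hξ).1 hne',
        smul_right_injective (G → ℂ) hδ0 h, hstar.2.2.1 _ (hz ξ hξ) _ (hz ξ hξ),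
        IsIrrCharacter.classInner_self ((hS ξ).1 hξ).1] at h1
      exact one_ne_zero h1
    have hnc : ∀ χ ∈ S, ∃ y ∈ C, ∃ z ∈ C, y ≠ 1 ∧ z ≠ 1 ∧
        ((δ : ℂ) • star χ) y ≠ ((δ : ℂ) • star χ) z := fun χ hχ => by
      obtain ⟨p, hp, q, hq, hp1, hq1, hpq⟩ :=
        (eq_star_iff_not_const star hstar hext hCA h2 (hirr χ hχ)).1 ⟨χ, (hS χ).1 hχ, by
          rcases hδ with rfl | rfl <;> simp⟩
      exact ⟨p, hp, q, hq, fun h => hp1 (Subtype.ext h), fun h => hq1 (Subtype.ext h), hpq⟩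
    have hval : ∀ χ ∈ S, ∀ y (hy : y ∈ C), y ≠ 1 →
        ((δ : ℂ) • star χ) y = (δ : ℂ) * χ ⟨y, hCN hy⟩ + ((δ * M : ℤ) : ℂ) :=
      fun χ hχ y hy hy1 => by
        rw [Pi.smul_apply, smul_eq_mul, hsval χ hχ y hy hy1]
        push_cast
        ring
    refine ⟨S.image (fun χ => (δ : ℂ) • star χ), δ * M, δ, hδ, ?_, ?_, ?_, ?_, ?_, ?_⟩
    · rw [Finset.card_image_of_injOn hinj, hcard]
    · intro θ hθ
      obtain ⟨χ, hχ, rfl⟩ := Finset.mem_image.1 hθ
      obtain ⟨y, hy, z, hz', hy1, hz1, hne'⟩ := hnc χ hχ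
      refine ⟨hirr χ hχ, fun h => hne' ?_, fun h => hne' ?_⟩
      · rw [h]
      · rw [h, hρC y hy hy1, hρC z hz' hz1]
    · intro θ hθ hnot
      have hc : ∀ y ∈ C, y ≠ 1 → θ y = θ y₀ := fun y hy hy1 => by
        by_contra hne'
        obtain ⟨χ, hχ, hor⟩ := (eq_star_iff_not_const star hstar hext hCA h2 hθ).2
          ⟨⟨y, hCN hy⟩, hy, ⟨y₀, hCN hy₀⟩, hy₀, fun h => hy1 (congrArg Subtype.val h),
            fun h => hy₀1 (congrArg Subtype.val h), hne'⟩
        have hi := hirr χ ((hS χ).2 hχ)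
        refine hnot (Finset.mem_image.2 ⟨χ, (hS χ).2 hχ, ?_⟩)
        rcases hδ with rfl | rfl <;> rcases hor with h | h <;> subst h <;> simp at hi ⊢
        · exact absurd hθ (not_isIrr_neg hi)
        · exact absurd hi (not_isIrr_neg hθ)
      obtain ⟨d, -, hd, -⟩ := hint θ (IsIrrCharacter.isGeneralized hθ) _ hc
      exact ⟨d, fun y hy hy1 => by rw [hc y hy hy1, hd]⟩
    · intro θ hθ θ' hθ'
      obtain ⟨χ, hχ, rfl⟩ := Finset.mem_image.1 hθ
      obtain ⟨ξ, hξ, rfl⟩ := Finset.mem_image.1 hθ'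
      refine ⟨by simp only [Pi.smul_apply, hone χ hχ, hone ξ hξ], fun Φ hΦ c hΦc => ?_⟩
      rw [← sub_eq_zero, ← classInner_sub_right, ← smul_sub, ← hpair χ hχ ξ hξ,
        classInner_smul_right, classInner_indFun_right hΦ]
      have hsame : Cfsg.classInner (fun n : N => Φ n) (χ - ξ) =
          Cfsg.classInner (c • fun _ : N => (1 : ℂ)) (χ - ξ) := by
        rw [classInner_def, classInner_def]
        congr 1
        refine Finset.sum_congr rfl fun n _ => ?_
        by_cases hnA : n ∈ A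
        · by_cases hn1 : n = 1
          · rw [hn1, Pi.sub_apply, hdeg χ hχ, hdeg ξ hξ, sub_self, map_zero, mul_zero, mul_zero]
          · rw [hΦc (n : G) hnA fun h => hn1 (Subtype.ext h), Pi.smul_apply, smul_eq_mul, mul_one]
        · rw [Pi.sub_apply, relevant_apply_eq_zero hCA ((hS χ).1 hχ) hnA,
            relevant_apply_eq_zero hCA ((hS ξ).1 hξ) hnA, sub_self, map_zero, mul_zero, mul_zero]
      have hne1 : ∀ η ∈ S, (fun _ : N => (1 : ℂ)) ≠ η := fun η hη h => by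
        obtain ⟨k, -, hk⟩ := ((hS η).1 hη).2
        exact hk (by rw [← h])
      rw [hsame, classInner_smul_left, classInner_sub_right,
        IsIrrCharacter.classInner_of_ne isIrrCharacter_one ((hS χ).1 hχ).1 (hne1 χ hχ),
        IsIrrCharacter.classInner_of_ne isIrrCharacter_one ((hS ξ).1 hξ).1 (hne1 ξ hξ),
        sub_self, mul_zero, mul_zero]
    · intro y hy hy1
      obtain ⟨h1, h2'⟩ := hsums ⟨y, hCN hy⟩ (mem_subgroupOf.2 hy)
        fun h => hy1 (congrArg Subtype.val h)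
      rw [Finset.card_image_of_injOn hinj, Finset.sum_image hinj, Finset.sum_image hinj]
      have hc1 : ∑ χ ∈ S, conj (χ ⟨y, hCN hy⟩) = -1 := by rw [← map_sum, h1]; simp
      constructor
      · rw [Finset.sum_congr rfl fun χ hχ => hval χ hχ y hy hy1, Finset.sum_add_distrib,
          ← Finset.mul_sum, h1, Finset.sum_const, nsmul_eq_mul]
        ring
      · have hterm : ∀ χ ∈ S, ((δ : ℂ) • star χ) y * conj (((δ : ℂ) • star χ) y) =
            χ ⟨y, hCN hy⟩ * conj (χ ⟨y, hCN hy⟩) + (δ : ℂ) * ((δ * M : ℤ) : ℂ) *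
              (χ ⟨y, hCN hy⟩ + conj (χ ⟨y, hCN hy⟩)) + ((δ * M : ℤ) : ℂ) ^ 2 := fun χ hχ => by
          rw [hval χ hχ y hy hy1, map_add, map_mul, map_intCast, map_intCast]
          linear_combination (χ ⟨y, hCN hy⟩ * conj (χ ⟨y, hCN hy⟩)) * hδ2
        rw [Finset.sum_congr rfl hterm, Finset.sum_add_distrib, Finset.sum_add_distrib,
          ← Finset.mul_sum, Finset.sum_add_distrib, h1, hc1, h2', Finset.sum_const, nsmul_eq_mul]
        ring
    · intro θ hθ
      obtain ⟨χ, hχ, rfl⟩ := Finset.mem_image.1 hθ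
      have hgen : Cfsg.IsGeneralizedCharacter A (fun a : A =>
          ((δ : ℂ) • star χ) ((a : N) : G) - (δ : ℂ) * χ (a : N)) :=
        IsGeneralized.sub (hrestrict (IsIrrCharacter.isGeneralized (hirr χ hχ)))
          (IsGeneralized.intCast_smul
            (IsGeneralized.restrict (IsIrrCharacter.isGeneralized ((hS χ).1 hχ).1) A) δ)
      obtain ⟨d, z, hd, hf⟩ := exists_int_of_const hφ₀ hφ₀1 hφ₀d hgen
        (c := ((δ * M : ℤ) : ℂ)) fun a ha => by
          have hy1 : ((a : N) : G) ≠ 1 := fun h => ha (Subtype.ext (Subtype.ext h))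
          rw [hval χ hχ ((a : N) : G) a.2 hy1]
          exact add_sub_cancel_left _ _
      refine ⟨z, ?_⟩
      rw [← hcA, hd, add_right_comm, ← hf]
      simp only [OneMemClass.coe_one, hdeg χ hχ]
      ring
  · -- a single character: every character is constant on `C`
    obtain ⟨lam, hlam⟩ := Finset.card_eq_one.1 (show S.card = 1 by omega)
    have hind : A.index = Nat.card C - 1 := by
      rw [hlam, Finset.card_singleton, mul_one] at hcard
      exact hcard
    have hconst : ∀ χ : G → ℂ, Cfsg.IsClassFunction G χ → ∀ y ∈ C, y ≠ 1 → χ y = χ y₀ := by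
      intro χ hχ y hy hy1
      have hexp := eq_sum_irr (G := N) (ψ := fun n : N => χ n) fun p q => hχ p q
      have e1 := congrFun hexp ⟨y, hCN hy⟩
      have e2 := congrFun hexp ⟨y₀, hCN hy₀⟩
      simp only [Finset.sum_apply, Pi.smul_apply, smul_eq_mul] at e1 e2
      rw [e1, e2]
      refine Finset.sum_congr rfl fun β hβ => congrArg _ ?_
      by_cases hβS : β ∈ S
      · have h1 := (hsums ⟨y, hCN hy⟩ (mem_subgroupOf.2 hy)
          fun h => hy1 (congrArg Subtype.val h)).1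
        have h2 := (hsums ⟨y₀, hCN hy₀⟩ (mem_subgroupOf.2 hy₀)
          fun h => hy₀1 (congrArg Subtype.val h)).1
        rw [hlam, Finset.sum_singleton] at h1 h2
        rw [hlam, Finset.mem_singleton] at hβS
        rw [hβS, h1, h2]
      · rw [htriv β (mem_irrFinset.1 hβ) hβS ⟨y, hCN hy⟩ (mem_subgroupOf.2 hy),
          htriv β (mem_irrFinset.1 hβ) hβS ⟨y₀, hCN hy₀⟩ (mem_subgroupOf.2 hy₀)]
    obtain ⟨θ, hθ, hθ1, hθρ⟩ : ∃ θ : G → ℂ, Cfsg.IsIrrCharacter G θ ∧ θ ≠ (fun _ => 1) ∧ θ ≠ ρ := by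
      by_contra! hall
      have hsub' : irrFinset G ⊆ {fun _ => 1, ρ} := fun θ hθ => by
        rw [Finset.mem_insert, Finset.mem_singleton]
        exact or_iff_not_imp_left.2 (hall θ (mem_irrFinset.1 hθ))
      have h := sum_irr_mul_conj (G := G) y₀ y₀
      have hcent : centralizer ({y₀} : Set G) = C := le_antisymm (hC y₀ hy₀ hy₀1) fun c hc =>
        mem_centralizer_singleton_iff.2 (hab c hc y₀ hy₀)
      rw [if_pos (IsConj.refl y₀), hcent,
        Finset.sum_congr rfl (g := fun _ => (1 : ℂ)) fun θ hθ => ?_, Finset.sum_const,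
        nsmul_eq_mul, mul_one, Nat.cast_inj] at h
      · have := (Finset.card_le_card hsub').trans Finset.card_le_two
        omega
      · have h1 : θ y₀ = 1 := by
          have := hsub' hθ
          rw [Finset.mem_insert, Finset.mem_singleton] at this
          rcases this with rfl | rfl
          · rfl
          · exact hρC y₀ hy₀ hy₀1
        rw [h1, map_one, mul_one]
    obtain ⟨d, z, hd, hz⟩ := hint θ (IsIrrCharacter.isGeneralized hθ) _
      (hconst θ (IsIrrCharacter.isClassFunction hθ))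
    refine ⟨{θ}, d + 1, 1, Or.inl rfl, by rw [Finset.card_singleton, mul_one, hind], ?_, ?_, ?_,
      fun y hy hy1 => ?_, fun χ hχ => ⟨z - 1, ?_⟩⟩
    · intro χ hχ
      rw [Finset.mem_singleton.1 hχ]
      exact ⟨hθ, hθ1, hθρ⟩
    · intro χ hχ _
      obtain ⟨d', -, hd', -⟩ := hint χ (IsIrrCharacter.isGeneralized hχ) _
        (hconst χ (IsIrrCharacter.isClassFunction hχ))
      exact ⟨d', fun y hy hy1 => by rw [hconst χ (IsIrrCharacter.isClassFunction hχ) y hy hy1, hd']⟩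
    · intro χ hχ χ' hχ'
      rw [Finset.mem_singleton.1 hχ, Finset.mem_singleton.1 hχ']
      exact ⟨rfl, fun _ _ _ _ => rfl⟩
    · rw [Finset.sum_singleton, Finset.sum_singleton, Finset.card_singleton,
        hconst θ (IsIrrCharacter.isClassFunction hθ) y hy hy1, hd, map_intCast, hind,
        Nat.cast_sub (Nat.card_pos (α := C))]
      push_cast
      constructor <;> ring
    · rw [Finset.mem_singleton.1 hχ, hz, hind, Nat.cast_sub (Nat.card_pos (α := C))]
      push_cast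
      ring

end General

variable {G : Type u} [Group G] [Finite G] {H : Subgroup G} {a b : G ⧸ H} {k : ℕ} {C : Subgroup G}
  {x v : G} (cfg : Config H a b k C x v)
include cfg

/-- The swapper normalizes `C`. -/
theorem Config.v_norm : v ∈ normalizer (C : Set G) := by
  refine mem_normalizer_iff.2 fun c => ⟨fun hc => ?_, fun hc => ?_⟩
  · rw [cfg.inverts c hc]
    exact inv_mem hc
  · have h := cfg.inverts _ hc
    rw [cfg.inv_v, show v * (v * c * v) * v = v * v * c * (v * v) by group,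
      Invol.mul_self_eq_one cfg.invol, one_mul, mul_one] at h
    rw [cfg.inv_v] at hc
    rw [h]
    exact inv_mem hc

/-- The two-point stabilizer normalizes `C`. -/
theorem Config.pair_le_norm : st a ⊓ st b ≤ normalizer (C : Set G) := fun d hd => by
  obtain ⟨c, hc, i, rfl⟩ := cfg.decomp d hd
  exact mul_mem (le_normalizer hc) (pow_mem cfg.norm i)

/-- The index of `C` in its normalizer. -/
theorem Config.index_norm : (C.subgroupOf (normalizer (C : Set G))).index = 2 * k := by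
  have hv : v ∉ st a ⊓ st b := fun h => cfg.ne ((show v • a = a from h.1).symm.trans cfg.swap)
  have h2 : ((st a ⊓ st b).subgroupOf (normalizer (C : Set G))).index = 2 := by
    refine index_eq_two_iff.2 ⟨⟨v, cfg.v_norm⟩, fun g => ?_⟩
    rw [mem_subgroupOf, mem_subgroupOf]
    rcases cfg.normalizer_le g g.2 with h | h
    · exact Or.inr ⟨h, fun h' => hv ((mul_mem_cancel_left h).1 h')⟩
    · exact Or.inl ⟨h, fun h' => hv ((mul_mem_cancel_left h').1 h)⟩
  have h1 : (C.subgroupOf (st a ⊓ st b)).index = k := by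
    have h := index_mul_card (C.subgroupOf (st a ⊓ st b))
    rw [Nat.card_congr (subgroupOfEquivOfLe cfg.le).toEquiv, cfg.card, cfg.card_pair,
      mul_comm (numInv H) k] at h
    exact Nat.eq_of_mul_eq_mul_right cfg.hyp.numInv_pos h
  show C.relIndex (normalizer (C : Set G)) = 2 * k
  rw [← relIndex_mul_relIndex C _ _ cfg.le cfg.pair_le_norm, mul_comm]
  exact congrArg₂ (· * ·) h2 h1

/-- The exceptional characters at `C`. -/
theorem Config.exceptional [Fintype G] :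
    ∃ (E : Finset (G → ℂ)) (e δ : ℤ), (δ = 1 ∨ δ = -1) ∧ 2 * k * E.card = numInv H - 1 ∧
    (∀ χ ∈ E, Cfsg.IsIrrCharacter G χ ∧ χ ≠ (fun _ => 1) ∧ χ ≠ stChar H) ∧
    (∀ χ : G → ℂ, Cfsg.IsIrrCharacter G χ → χ ∉ E → ∃ d : ℤ, ∀ y ∈ C, y ≠ 1 → χ y = (d : ℂ)) ∧
    (∀ χ ∈ E, ∀ χ' ∈ E, χ 1 = χ' 1 ∧ Cfsg.classInner (indPsi a) χ = Cfsg.classInner (indPsi a) χ') ∧
    (∀ y ∈ C, y ≠ 1 → ∑ χ ∈ E, χ y = (E.card : ℂ) * (e : ℂ) - (δ : ℂ) ∧
      ∑ χ ∈ E, χ y * (starRingEnd ℂ) (χ y) = (E.card : ℂ) * (e : ℂ) ^ 2 - 2 * (δ : ℂ) * (e : ℂ) +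
        (numInv H : ℂ) - 2 * (k : ℂ)) ∧
    (∀ χ ∈ E, ∃ z : ℤ, χ 1 = (e : ℂ) + 2 * (k : ℂ) * (δ : ℂ) + (numInv H : ℂ) * (z : ℂ)) := by
  classical
  haveI : (C.subgroupOf (normalizer (C : Set G))).Normal := normal_in_normalizer
  haveI : Fintype (normalizer (C : Set G) : Subgroup G) := Fintype.ofFinite _
  haveI := cfg.cyclic
  have hst : ∀ y ∈ C, y ≠ 1 → stChar H y = 1 := fun y hy hy1 => by
    have e : {c : G ⧸ H | y • c = c} = {a, b} := Set.ext fun c =>
      ⟨fun h => cfg.fix_two y hy hy1 c h, fun h => by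
        rcases h with rfl | rfl
        · exact cfg.mem_a hy
        · exact cfg.mem_b hy⟩
    show (Nat.card ({c : G ⧸ H | y • c = c} : Set (G ⧸ H)) : ℂ) - 1 = 1
    rw [Nat.card_coe_set_eq, e, Set.ncard_pair cfg.ne]
    norm_num
  obtain ⟨E, e, δ, hδ, hcard, hirr, hconst, hpair, hsum, hdeg⟩ :=
    exists_family (C := C) (N := normalizer (C : Set G)) le_normalizer
      (fun y hy hy1 => (cfg.centralizer_eq y hy hy1).le)
      (fun y hy z hz => congrArg Subtype.val (IsMulCommutative.is_comm.comm (⟨y, hy⟩ : C) ⟨z, hz⟩))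
      (cfg.card ▸ cfg.three_le)
      (fun g hg t ht hgt => eq_one_of_centralizer_eq cfg.centralizer_eq hg ht hgt) hst
  rw [cfg.index_norm] at hcard hsum hdeg
  rw [cfg.card] at hcard hsum hdeg
  push_cast at hsum hdeg
  exact ⟨E, e, δ, hδ, hcard, hirr, hconst, fun χ hχ χ' hχ' => ⟨(hpair χ hχ χ' hχ').1,
    (hpair χ hχ χ' hχ').2 _ (isClassFunction_indFun _ _) (-2) fun y hy hy1 => cfg.indPsi_C hy hy1⟩,
    hsum, hdeg⟩

end CfsgLib.Bender.Commuting
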