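import Cfsg.Agent.Bender.Commuting.Induced
import Cfsg.Agent.Bender.CoreV
import Mathlib.FieldTheory.Galois.NormalBasis
import Mathlib.GroupTheory.GroupAction.Quotient

/-!
Bender's theorem, commuting branch: in the configuration left by the transfer arguments, the
stabilizer of an involution has fewer orbits on the other involutions at the point than the element
of order `k` has. Otherwise a normal basis shows that some element inverts the field automorphism
and normalizes the torus, which is impossible.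
-/

set_option autoImplicit false
set_option linter.unusedSectionVars false
set_option linter.style.haveILetI false

namespace CfsgLib.Bender.Commuting

open Subgroup
open CfsgLib.Bender.GSide
open CfsgLib.Bender.Core.CSix (vee invol_mem_vee)
open CfsgLib.Bender.Core.CSeven (act act_apply act_eq_one)
open CfsgLib.Bender.KSix (Rep)
open CfsgLib.Char

universe u

/-- A normal basis of a finite field of characteristic two along the powers of a generating
automorphism. -/
theorem exists_cyclic_family {F : Type} [Field F] [Finite F] [Algebra (ZMod 2) F] {k i : ℕ}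
    [NeZero k] (hF : Nat.card F = 2 ^ k) (hi : Nat.Coprime i k) :
    ∃ W : ZMod k → F, LinearIndependent (ZMod 2) W ∧ Submodule.span (ZMod 2) (Set.range W) = ⊤ ∧
      ∀ j : ZMod k, W (j + 1) = W j ^ 2 ^ i := by
  classical
  have hfr : Module.finrank (ZMod 2) F = k := by
    have h := Module.natCard_eq_pow_finrank (K := ZMod 2) (V := F)
    rw [Nat.card_zmod, hF] at h
    exact (Nat.pow_right_injective le_rfl h).symm
  haveI : FiniteDimensional (ZMod 2) F := Module.Finite.of_finite
  obtain ⟨w, hw⟩ := exists_linearIndependent_algEquiv_apply (ZMod 2) F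
  have hbij := FiniteField.bijective_frobeniusAlgEquivOfAlgebraic_pow (ZMod 2) F
  have hw' : LinearIndependent (ZMod 2) (fun n : Fin (Module.finrank (ZMod 2) F) =>
      w ^ 2 ^ n.1) := by
    have h := hw.comp _ hbij.1
    convert h using 1
    funext n
    simp [Function.comp_apply, AlgEquiv.coe_pow,
      FiniteField.coe_frobeniusAlgEquivOfAlgebraic_iterate]
  let g : ZMod k → Fin (Module.finrank (ZMod 2) F) := fun j =>
    ⟨(i * j.val) % k, hfr.symm ▸ Nat.mod_lt _ (NeZero.pos k)⟩
  have hg : Function.Injective g := fun j j' h => by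
    have h' : (i * j.val) % k = (i * j'.val) % k := congrArg Fin.val h
    have h2 := (ZMod.natCast_eq_natCast_iff' _ _ k).2 h'
    push_cast at h2
    rw [ZMod.natCast_zmod_val, ZMod.natCast_zmod_val] at h2
    exact ((ZMod.isUnit_iff_coprime i k).2 hi).mul_left_cancel h2
  refine ⟨fun j => w ^ 2 ^ (g j).1, hw'.comp g hg, ?_, fun j => ?_⟩
  · exact (hw'.comp g hg).span_eq_top_of_card_eq_finrank (by rw [ZMod.card, hfr])
  · have hstep : (g (j + 1)).1 % k = ((g j).1 + i) % k := by
      show (i * (j + 1).val) % k % k = ((i * j.val) % k + i) % k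
      rw [← ZMod.natCast_eq_natCast_iff']
      push_cast [ZMod.natCast_mod, ZMod.natCast_zmod_val]
      ring
    show w ^ 2 ^ (g (j + 1)).1 = (w ^ 2 ^ (g j).1) ^ 2 ^ i
    rw [← pow_mul, ← pow_add]
    exact Semilinear.frob_eq hF hstep w

variable {G : Type u} [Group G] [Finite G] {H : Subgroup G}

/-- The involutions at a point. -/
def InvAt (a : G ⧸ H) : Type u := {t : G // orderOf t = 2 ∧ t • a = a}

instance (a : G ⧸ H) : Finite (InvAt a) :=
  inferInstanceAs (Finite {t : G // orderOf t = 2 ∧ t • a = a})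

/-- A point stabilizer acts on the involutions at the point by conjugation. -/
instance instInvAtAction (a : G ⧸ H) : MulAction (st a) (InvAt a) where
  smul g t := ⟨(g : G) * t.1 * (g : G)⁻¹, by rw [Invol.orderOf_conj_eq, t.2.1],
    by rw [mul_smul, mul_smul, inv_smul_eq_iff.2 (show (g : G) • a = a from g.2).symm, t.2.2,
      show (g : G) • a = a from g.2]⟩
  one_smul t := Subtype.ext (by
    show ((1 : st a) : G) * t.1 * ((1 : st a) : G)⁻¹ = t.1
    simp)
  mul_smul p q t := Subtype.ext (by
    show ((p * q : st a) : G) * t.1 * ((p * q : st a) : G)⁻¹ =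
      (p : G) * ((q : G) * t.1 * (q : G)⁻¹) * (p : G)⁻¹
    rw [coe_mul]
    group)

theorem smul_invAt_eq_iff {a : G ⧸ H} {g : st a} {t : InvAt a} :
    g • t = t ↔ Commute (g : G) t.1 := by
  constructor
  · intro h
    exact mul_inv_eq_iff_eq_mul.1 (congrArg Subtype.val h :)
  · intro h
    refine Subtype.ext ?_
    show (g : G) * t.1 * (g : G)⁻¹ = t.1
    rw [h.eq, mul_inv_cancel_right]

theorem psi_eq_fixed {a : G ⧸ H} (g : st a) :
    psi a g = (Nat.card (MulAction.fixedBy (InvAt a) g) : ℂ) - 1 := by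
  show _ - 1 = _ - 1
  congr 2
  exact Nat.card_congr
    { toFun := fun s => ⟨⟨s.1, s.2.1, s.2.2.1⟩, smul_invAt_eq_iff.2 s.2.2.2⟩
      invFun := fun s => ⟨s.1.1, s.1.2.1, s.1.2.2, smul_invAt_eq_iff.1 s.2⟩
      left_inv := fun _ => rfl
      right_inv := fun _ => rfl }

variable {a b : G ⧸ H} {k : ℕ} {C : Subgroup G} {x v : G} (cfg : Config H a b k C x v)
include cfg

theorem Config.card_vee : Nat.card (vee cfg.hyp.comm a) = 2 ^ k := by
  rw [← Core.CSeven.card_invol_add_one, card_inv_at, cfg.card_inv]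

theorem Config.two_lt : 2 < k := by
  have h2 := cfg.prime.two_le
  rcases h2.eq_or_lt with h | h
  · exact absurd cfg.odd (by rw [← h]; decide)
  · exact h

/-- The two-point stabilizer acts faithfully on the involutions at the point. -/
theorem Config.eq_one_of_act {d : G} (hd : d ∈ st a ⊓ st b)
    (h : act cfg.hyp.comm a ⟨d, hd.1⟩ = 1) : d = 1 := by
  obtain ⟨c, hc, i, rfl⟩ := cfg.decomp d hd
  have hall : ∀ t : G, orderOf t = 2 → t • a = a → Commute (c * x ^ i) t := fun t ht hta =>
    Core.CSeven.commute_of_mem_centralizer (act_eq_one.1 h) ht hta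
  have hm := cfg.three_le
  have hpsi : psiZero a (c * x ^ i) = (numInv H : ℂ) - 1 := by
    rw [psiZero_of_fix (show (c * x ^ i) • a = a from hd.1)]
    congr 2
    rw [← card_inv_at a]
    exact Nat.card_congr (Equiv.subtypeEquivRight fun t =>
      ⟨fun ht => ⟨ht.1, ht.2.1⟩, fun ht => ⟨ht.1, ht.2, hall t ht.1 ht.2⟩⟩)
  by_cases hi : x ^ i = 1
  · rw [hi, mul_one] at hall ⊢
    by_contra hc1
    obtain ⟨t, ht, hta, -⟩ := cfg.x_one
    exact cfg.free c hc hc1 t ht hta (hall t ht hta)
  · rw [cfg.psiZero_outside hc hi, eq_comm, sub_eq_zero, Nat.cast_eq_one] at hpsi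
    omega

/-- A basis of the involutions at the point permuted cyclically by `x`. -/
theorem Config.exists_cycle : ∃ W : ZMod k → G,
    (∀ j, orderOf (W j) = 2 ∧ W j • a = a) ∧ Function.Injective W ∧
    (∀ j, x * W j * x⁻¹ = W (j + 1)) ∧
    (∀ i j p q, i ≠ j → W i * W j = W p * W q → (i = p ∧ j = q) ∨ (i = q ∧ j = p)) ∧
    ∀ g ∈ st a, (∀ j, Commute g (W j)) →
      ∀ t : G, orderOf t = 2 → t • a = a → Commute g t := by
  classical
  haveI : NeZero k := ⟨cfg.prime.ne_zero⟩
  set hV := cfg.hyp.comm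
  have hk2 : 2 ≤ k := cfg.prime.two_le
  obtain ⟨F, _, _, e, hF, hrep⟩ := Semilinear.exists_coord (Core.CSeven.sq_vee hV a) hk2
    cfg.card_vee (Core.CSeven.barD hV a b)
    (by
      refine (odd_pair cfg.hyp.se cfg.ne).of_dvd_nat ((card_map_dvd _ _).trans ?_)
      rw [Nat.card_congr (subgroupOfEquivOfLe (inf_le_left : st a ⊓ st b ≤ st a)).toEquiv])
    (fun s t hs ht => by
      obtain ⟨d, hd, hdt⟩ := (transOdd_pair cfg.hyp.se cfg.ne).2.2 (s : G) t s.2.2
        (Invol.orderOf_eq_two s.2.1 fun h => hs (Subtype.ext h)) t.2.2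
        (Invol.orderOf_eq_two t.2.1 fun h => ht (Subtype.ext h))
      exact ⟨_, Core.CSeven.act_mem_barD hd, Subtype.ext hdt⟩)
  set X := act hV a ⟨x, cfg.mem.1⟩ with hXdef
  obtain ⟨c, i, hX⟩ := hrep X (Core.CSeven.act_mem_barD cfg.mem)
  haveI : Fact (Nat.Prime 2) := ⟨Nat.prime_two⟩
  haveI : CharP F 2 := by
    haveI := Fintype.ofFinite F
    exact charP_of_card_eq_prime_pow (by rw [Fintype.card_eq_nat_card]; exact hF)
  letI : Algebra (ZMod 2) F := ZMod.algebra F 2
  -- the fixed involution as unit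
  obtain ⟨t, ht, hta, hxt, huniq⟩ := cfg.x_one
  set tv : vee hV a := ⟨t, invol_mem_vee ht hta⟩
  set τ := e (Additive.ofMul tv) with hτdef
  have hτ : τ ≠ 0 := fun h => by
    have h1 : tv = 1 := congrArg Additive.toMul (e.map_eq_zero_iff.1 h)
    exact Invol.ne_one ht (congrArg Subtype.val h1)
  have hfix : c * τ ^ 2 ^ i = τ := by
    have h := hX.2 tv
    have h1 : X tv = tv := Subtype.ext (by
      rw [act_apply]
      show x * t * x⁻¹ = t
      rw [hxt.eq, mul_inv_cancel_right])
    rw [h1] at h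
    exact h.symm
  let f : Additive (vee hV a) ≃+ F :=
    { toFun := fun z => τ⁻¹ * e z
      invFun := fun z => e.symm (τ * z)
      left_inv := fun z => by simp [← mul_assoc, mul_inv_cancel₀ hτ]
      right_inv := fun z => by simp [← mul_assoc, inv_mul_cancel₀ hτ]
      map_add' := fun z z' => by simp [mul_add] }
  have hfX : ∀ u : vee hV a, f (Additive.ofMul (X u)) = f (Additive.ofMul u) ^ 2 ^ i := fun u => by
    show τ⁻¹ * e (Additive.ofMul (X u)) = (τ⁻¹ * e (Additive.ofMul u)) ^ 2 ^ i
    rw [hX.2, mul_pow, inv_pow, ← mul_assoc]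
    congr 1
    rw [inv_mul_eq_iff_eq_mul₀ hτ, ← div_eq_mul_inv, eq_div_iff (pow_ne_zero _ hτ)]
    exact hfix
  -- the exponent generates
  have hik : Nat.Coprime i k := by
    refine ((cfg.prime.coprime_iff_not_dvd).2 fun hdvd => ?_).symm
    have hX1 : X = 1 := MulEquiv.ext fun u => by
      have h := hfX u
      rw [Semilinear.frob_eq hF (i := i) (j := 0)
        (by rw [Nat.dvd_iff_mod_eq_zero.1 hdvd, Nat.zero_mod]), pow_zero, pow_one] at h
      exact congrArg Additive.toMul (f.injective h)
    have h := cfg.eq_one_of_act cfg.mem hX1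
    exact cfg.prime.one_lt.ne' (by rw [← cfg.order, h, orderOf_one])
  obtain ⟨W, hW, hspan, hstep⟩ := exists_cyclic_family hF hik
  let U : ZMod k → vee hV a := fun j => Additive.toMul (f.symm (W j))
  have hfU : ∀ j, f (Additive.ofMul (U j)) = W j := fun j => f.apply_symm_apply (W j)
  refine ⟨fun j => (U j : G), fun j => ⟨Invol.orderOf_eq_two (U j).2.1 fun h => ?_, (U j).2.2⟩,
    fun j j' h => ?_, fun j => ?_, fun i' j p q hij h => ?_, fun g hg hgW s hs hsa => ?_⟩
  · have h1 : U j = 1 := Subtype.ext h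
    exact hW.ne_zero j (by rw [← hfU j, h1, ofMul_one, map_zero])
  · have h1 : U j = U j' := Subtype.ext h
    exact hW.injective (by rw [← hfU j, ← hfU j', h1])
  · have h1 : X (U j) = U (j + 1) := by
      have h2 : f (Additive.ofMul (X (U j))) = f (Additive.ofMul (U (j + 1))) := by
        rw [hfX, hfU, hfU, hstep]
      exact congrArg Additive.toMul (f.injective h2)
    show x * (U j : G) * x⁻¹ = (U (j + 1) : G)
    rw [← h1, act_apply]
  · have h1 : U i' * U j = U p * U q := Subtype.ext h
    have h2 : W i' + W j = W p + W q := by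
      have h' := congrArg (fun u => f (Additive.ofMul u)) h1
      simpa only [ofMul_mul, map_add, hfU] using h'
    have h3 : Finsupp.single i' (1 : ZMod 2) + Finsupp.single j 1 =
        Finsupp.single p 1 + Finsupp.single q 1 := by
      refine hW.finsuppLinearCombination_injective ?_
      simpa using h2
    have hi := DFunLike.congr_fun h3 i'
    have hj := DFunLike.congr_fun h3 j
    simp only [Finsupp.add_apply, Finsupp.single_apply] at hi hj
    by_cases a1 : p = i' <;> by_cases a2 : q = i' <;> by_cases a3 : p = j <;>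
      by_cases a4 : q = j <;> simp_all (config := { decide := true })
  · set X' := act hV a ⟨g, hg⟩
    let L : F →+ F := (f.toAddMonoidHom.comp
      (X'.toMonoidHom.toAdditive.comp f.symm.toAddMonoidHom))
    have hL : L.toZModLinearMap 2 = LinearMap.id := LinearMap.ext_on_range hspan fun j => by
      show f (Additive.ofMul (X' (U j))) = W j
      rw [show X' (U j) = U j from Subtype.ext (by
        rw [act_apply]
        show g * (U j : G) * g⁻¹ = U j
        rw [(hgW j).eq, mul_inv_cancel_right]), hfU]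
    refine Core.CSeven.commute_of_mem_centralizer (hV := hV)
      ((act_eq_one (hV := hV) (g := ⟨g, hg⟩)).1 (MulEquiv.ext fun u => ?_)) hs hsa
    have h1 := LinearMap.congr_fun hL (f (Additive.ofMul u))
    have h2 : L (f (Additive.ofMul u)) = f (Additive.ofMul (X' u)) := by
      show f (Additive.ofMul (X' (Additive.toMul (f.symm (f (Additive.ofMul u)))))) = _
      rw [f.symm_apply_apply, toMul_ofMul]
    exact congrArg Additive.toMul (f.injective (h2.symm.trans h1))

/-- The orbits of the stabilizer of the fixed involution cannot all be orbits of `x`. -/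
theorem Config.false_of_orbits {t : G} (ht : orderOf t = 2) (hta : t • a = a) (hxt : Commute x t)
    (horb : ∀ g ∈ st a, Commute g t → ∀ u : G, orderOf u = 2 → u • a = a →
      ∃ n : ℕ, g * u * g⁻¹ = x ^ n * u * (x ^ n)⁻¹) : False := by
  classical
  haveI : NeZero k := ⟨cfg.prime.ne_zero⟩
  set hV := cfg.hyp.comm
  set φ : st a →* MulAut (vee hV a) := act hV a
  set xa : st a := ⟨x, cfg.mem.1⟩
  set X := φ xa with hXdef
  obtain ⟨W, hW, hinj, hshift, hpair, hext⟩ := cfg.exists_cycle
  have h2k : (2 : ZMod k) ≠ 0 := fun h => by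
    have h1 : ((2 : ℕ) : ZMod k) = 0 := by exact_mod_cast h
    rw [ZMod.natCast_eq_zero_iff] at h1
    have := Nat.le_of_dvd (by norm_num) h1
    have := cfg.two_lt
    omega
  have hX2 : X * X ≠ 1 := fun h => by
    have h1 := cfg.eq_one_of_act (d := x * x) (mul_mem cfg.mem cfg.mem)
      (by rw [← h, hXdef, ← map_mul]; rfl)
    have h2 : orderOf x ∣ 2 := orderOf_dvd_of_pow_eq_one (by rw [pow_two, h1])
    rw [cfg.order] at h2
    have := Nat.le_of_dvd (by norm_num) h2
    have := cfg.two_lt
    omega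
  have hpow : ∀ (n : ℕ) (j : ZMod k), x ^ n * W j * (x ^ n)⁻¹ = W (j + n) := by
    intro n
    induction n with
    | zero => intro j; simp
    | succ n ih =>
      intro j
      calc x ^ (n + 1) * W j * (x ^ (n + 1))⁻¹ = x * (x ^ n * W j * (x ^ n)⁻¹) * x⁻¹ := by
            rw [pow_succ']; group
        _ = W (j + (n + 1 : ℕ)) := by rw [ih, hshift, Nat.cast_succ, add_assoc]
  have heqW : ∀ p q : MulAut (vee hV a),
      (∀ j, p ⟨W j, invol_mem_vee (hW j).1 (hW j).2⟩ = q ⟨W j, invol_mem_vee (hW j).1 (hW j).2⟩) →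
      ∀ h : st a, φ h = q⁻¹ * p → p = q := by
    intro p q hpq h hh
    have h1 : φ h = 1 := by
      refine act_eq_one.2 (Core.CSeven.mem_centralizer_vee (hext _ h.2 fun j => ?_))
      have h2 : φ h ⟨W j, invol_mem_vee (hW j).1 (hW j).2⟩ = ⟨W j, invol_mem_vee (hW j).1 (hW j).2⟩ := by
        rw [hh, MulAut.mul_apply, hpq j]
        exact MulAut.inv_apply_self _ _ _
      exact mul_inv_eq_iff_eq_mul.1 (congrArg Subtype.val h2 :)
    rw [hh, inv_mul_eq_one] at h1
    exact h1.symm
  -- shift or reversal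
  have classify : ∀ g : st a, Commute (g : G) t →
      (φ g ∈ zpowers X) ∨ (φ g * X * (φ g)⁻¹ = X⁻¹ ∧ φ g * φ g = 1) := by
    intro g hg
    have hperm : ∀ j, ∃ p, (g : G) * W j * (g : G)⁻¹ = W p := fun j => by
      obtain ⟨n, hn⟩ := horb g g.2 hg (W j) (hW j).1 (hW j).2
      exact ⟨j + n, hn.trans (hpow n j)⟩
    choose π hπ using hperm
    have hπinj : Function.Injective π := fun j j' h => hinj (by
      have h1 := hπ j
      rw [h, ← hπ j'] at h1
      exact mul_left_cancel (mul_right_cancel h1))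
    have hne1 : ∀ j : ZMod k, j ≠ j + 1 := fun j h => by
      have h1 : (1 : ZMod k) = 0 := by simpa using h.symm
      exact h2k (by rw [← one_add_one_eq_two, h1, add_zero])
    have hdiff : ∀ j, π (j + 1) = π j + 1 ∨ π (j + 1) = π j - 1 := by
      intro j
      have hc : Commute (W j) (W (j + 1)) :=
        hV a _ _ (hW j).1 (hW (j + 1)).1 (hW j).2 (hW (j + 1)).2
      have ho : orderOf (W j * W (j + 1)) = 2 := Invol.orderOf_eq_two
        (by
          have e : W j * W (j + 1) * (W j * W (j + 1)) = (W j * W j) * (W (j + 1) * W (j + 1)) := by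
            rw [mul_assoc (W j) (W (j + 1)), ← mul_assoc (W (j + 1)) (W j), ← hc.eq,
              mul_assoc (W j) (W (j + 1)) (W (j + 1)), ← mul_assoc]
          rw [e, Invol.mul_self_eq_one (hW j).1, Invol.mul_self_eq_one (hW _).1, one_mul])
        (fun h => hne1 j (hinj (by
          rw [mul_eq_one_iff_eq_inv, Invol.inv_eq_self (hW _).1] at h
          exact h)))
      obtain ⟨n, hn⟩ := horb g g.2 hg _ ho (by rw [mul_smul, (hW _).2, (hW _).2])
      rw [show (g : G) * (W j * W (j + 1)) * (g : G)⁻¹ =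
        ((g : G) * W j * (g : G)⁻¹) * ((g : G) * W (j + 1) * (g : G)⁻¹) by group, hπ, hπ,
        show x ^ n * (W j * W (j + 1)) * (x ^ n)⁻¹ =
          (x ^ n * W j * (x ^ n)⁻¹) * (x ^ n * W (j + 1) * (x ^ n)⁻¹) by group, hpow, hpow] at hn
      rcases hpair _ _ _ _ (fun h => hne1 j (hπinj h)) hn with ⟨h1, h2⟩ | ⟨h1, h2⟩
      · left; rw [h1, h2]; ring
      · right; rw [h1, h2]; ring
    have hact : ∀ j, φ g ⟨W j, invol_mem_vee (hW j).1 (hW j).2⟩ =
        ⟨W (π j), invol_mem_vee (hW _).1 (hW _).2⟩ := fun j => Subtype.ext (hπ j)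
    rcases hdiff 0 with h0 | h0
    · left
      have hall : ∀ n : ℕ, π (n + 1) = π n + 1 := by
        intro n
        induction n with
        | zero => simpa using h0
        | succ n ih =>
          rcases hdiff ((n : ZMod k) + 1) with h | h
          · push_cast; exact h
          · exfalso
            rw [ih, add_sub_cancel_right] at h
            exact h2k (by linear_combination hπinj h)
      have hlin : ∀ n : ℕ, π n = π 0 + n := by
        intro n
        induction n with
        | zero => simp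
        | succ n ih => push_cast; rw [hall, ih, add_assoc]
      have he : φ g = X ^ (π 0).val := by
        refine heqW _ _ (fun j => ?_) ((xa ^ (π 0).val)⁻¹ * g) (by
          rw [map_mul, map_inv, map_pow, ← hXdef])
        rw [hact, hXdef, ← map_pow]
        refine Subtype.ext ?_
        rw [act_apply, coe_pow]
        show W (π j) = x ^ (π 0).val * W j * (x ^ (π 0).val)⁻¹
        rw [hpow, ← ZMod.natCast_zmod_val j, hlin, ZMod.natCast_zmod_val, ZMod.natCast_zmod_val,
          add_comm]
      exact he ▸ pow_mem (mem_zpowers X) _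
    · right
      have hall : ∀ n : ℕ, π (n + 1) = π n - 1 := by
        intro n
        induction n with
        | zero => simpa using h0
        | succ n ih =>
          rcases hdiff ((n : ZMod k) + 1) with h | h
          · exfalso
            rw [ih, sub_add_cancel] at h
            exact h2k (by linear_combination hπinj h)
          · push_cast; exact h
      have hlin : ∀ n : ℕ, π n = π 0 - n := by
        intro n
        induction n with
        | zero => simp
        | succ n ih => push_cast; rw [hall, ih, sub_sub]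
      have hlin' : ∀ j, π j = π 0 - j := fun j => by
        rw [← ZMod.natCast_zmod_val j]; exact hlin _
      constructor
      · have hgi : ∀ j, (φ g)⁻¹ ⟨W j, invol_mem_vee (hW j).1 (hW j).2⟩ =
            ⟨W (π 0 - j), invol_mem_vee (hW _).1 (hW _).2⟩ := fun j => by
          have h := hact (π 0 - j)
          rw [MulAut.inv_def, MulEquiv.symm_apply_eq, h]
          exact Subtype.ext (by rw [hlin' (π 0 - j), sub_sub_cancel])
        refine heqW _ _ (fun j => ?_) (xa * (g * xa * g⁻¹)) (by
          rw [map_mul, map_mul, map_mul, map_inv, ← hXdef, inv_inv])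
        rw [MulAut.mul_apply, MulAut.mul_apply, hgi]
        apply Subtype.ext
        rw [act_apply]
        show (g : G) * (x * W (π 0 - j) * x⁻¹) * (g : G)⁻¹ = _
        rw [hshift, hπ, hlin']
        have hX' : X⁻¹ ⟨W j, invol_mem_vee (hW j).1 (hW j).2⟩ =
            ⟨W (j - 1), invol_mem_vee (hW _).1 (hW _).2⟩ := by
          rw [MulAut.inv_def, MulEquiv.symm_apply_eq]
          refine Subtype.ext ?_
          show W j = x * W (j - 1) * x⁻¹
          rw [hshift, sub_add_cancel]
        rw [hX']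
        show W _ = W _
        congr 1
        ring
      · refine heqW _ _ (fun j => ?_) (g * g) (by rw [map_mul, inv_one, one_mul])
        rw [MulAut.mul_apply, hact, hact, MulAut.one_apply]
        exact Subtype.ext (by
          show W (π (π j)) = W j
          rw [hlin', hlin' j, sub_sub_cancel])
  -- every element is a product of an element of `C` and one fixing `t`
  have hfac : ∀ h : st a, ∃ c : st a, (c : G) ∈ C ∧ Commute ((c⁻¹ * h : st a) : G) t := by
    intro h
    obtain ⟨c, hc, hct⟩ := cfg.trans t ((h : G) * t * (h : G)⁻¹) ht hta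
      (by rw [Invol.orderOf_conj_eq, ht])
      (by
        rw [mul_smul, mul_smul, inv_smul_eq_iff.2 (show (h : G) • a = a from h.2).symm, hta,
          show (h : G) • a = a from h.2])
    refine ⟨⟨c, cfg.mem_a hc⟩, hc, ?_⟩
    show c⁻¹ * h * t = t * (c⁻¹ * h)
    calc c⁻¹ * h * t = c⁻¹ * ((h : G) * t * (h : G)⁻¹) * h := by group
      _ = c⁻¹ * (c * t * c⁻¹) * h := by rw [hct]
      _ = t * (c⁻¹ * h) := by group
  -- some element reverses
  obtain ⟨g, hgt, hg⟩ : ∃ g : st a, Commute (g : G) t ∧ φ g ∉ zpowers X := by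
    by_contra hc
    push Not at hc
    obtain ⟨w, hw, ⟨i, hwi⟩, s, hs, hsa, hns⟩ := cfg.even
    obtain ⟨c, hcC, hct⟩ := hfac ⟨w, hw⟩
    obtain ⟨n, hn⟩ := hc _ hct
    replace hn : X ^ n = φ (c⁻¹ * ⟨w, hw⟩) := hn
    rw [map_mul, map_inv, eq_inv_mul_iff_mul_eq] at hn
    have hd : (c : G) * x ^ n ∈ st a ⊓ st b := mul_mem (cfg.le hcC) (zpow_mem cfg.mem n)
    have hwd : φ ⟨w, hw⟩ = φ ⟨(c : G) * x ^ n, hd.1⟩ := by
      rw [← hn, hXdef, ← map_zpow, ← map_mul]
      rfl
    have hd2 : φ ⟨((c : G) * x ^ n) ^ 2 ^ i, (pow_mem hd _).1⟩ = 1 := by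
      rw [show (⟨((c : G) * x ^ n) ^ 2 ^ i, (pow_mem hd _).1⟩ : st a) =
        ⟨(c : G) * x ^ n, hd.1⟩ ^ 2 ^ i from rfl, map_pow, ← hwd, ← map_pow,
        show (⟨w, hw⟩ : st a) ^ 2 ^ i = 1 from Subtype.ext hwi, map_one]
    have hd3 := cfg.eq_one_of_act (pow_mem hd _) hd2
    have hd4 : (c : G) * x ^ n = 1 := by
      obtain ⟨j, -, hj⟩ := (Nat.dvd_prime_pow Nat.prime_two).1 (orderOf_dvd_of_pow_eq_one hd3)
      have hodd := (odd_pair cfg.hyp.se cfg.ne).of_dvd_nat (orderOf_dvd_natCard _ hd)
      rcases j with _ | j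
      · exact orderOf_eq_one_iff.1 (by rw [hj, pow_zero])
      · rw [hj] at hodd
        exact absurd (even_two.pow_of_ne_zero (Nat.succ_ne_zero j)) (Nat.not_even_iff_odd.2 hodd)
    refine hns (Core.CSeven.commute_of_mem_centralizer (hV := hV)
      ((act_eq_one (hV := hV) (g := ⟨w, hw⟩)).1 ?_) hs hsa)
    show φ ⟨w, hw⟩ = 1
    rw [hwd, show (⟨(c : G) * x ^ n, hd.1⟩ : st a) = 1 from Subtype.ext hd4, map_one]
  obtain ⟨hgX, hg2⟩ := (classify g hgt).resolve_left hg
  have hgi : (φ g)⁻¹ = φ g := inv_eq_of_mul_eq_one_right hg2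
  -- the image of the point stabilizer
  have himage : ∀ h : st a, ∃ d : st a, (d : G) ∈ st a ⊓ st b ∧
      (φ h = φ d ∨ φ h = φ d * φ g) := by
    intro h
    obtain ⟨c, hcC, hct⟩ := hfac h
    rcases classify _ hct with ⟨n, hn⟩ | ⟨hX', -⟩
    · replace hn : X ^ n = φ (c⁻¹ * h) := hn
      refine ⟨c * xa ^ n, mul_mem (cfg.le hcC) (zpow_mem cfg.mem n), Or.inl ?_⟩
      rw [map_mul, map_zpow, ← hXdef, hn, map_mul, map_inv, mul_inv_cancel_left]
    · have hct2 : Commute ((c⁻¹ * h * g : st a) : G) t := hct.mul_left hgt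
      rcases classify _ hct2 with ⟨n, hn⟩ | ⟨hX'', -⟩
      · replace hn : X ^ n = φ (c⁻¹ * h * g) := hn
        refine ⟨c * xa ^ n, mul_mem (cfg.le hcC) (zpow_mem cfg.mem n), Or.inr ?_⟩
        rw [map_mul, map_zpow, ← hXdef, hn, map_mul, map_mul, map_inv, mul_assoc, mul_assoc,
          mul_assoc, hg2, mul_one, mul_inv_cancel_left]
      · exfalso
        have e : φ (c⁻¹ * h * g) * X * (φ (c⁻¹ * h * g))⁻¹ = X := by
          rw [map_mul, mul_inv_rev]
          calc φ (c⁻¹ * h) * φ g * X * ((φ g)⁻¹ * (φ (c⁻¹ * h))⁻¹)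
              = φ (c⁻¹ * h) * (φ g * X * (φ g)⁻¹) * (φ (c⁻¹ * h))⁻¹ := by group
            _ = φ (c⁻¹ * h) * X⁻¹ * (φ (c⁻¹ * h))⁻¹ := by rw [hgX]
            _ = (φ (c⁻¹ * h) * X * (φ (c⁻¹ * h))⁻¹)⁻¹ := by group
            _ = X := by rw [hX', inv_inv]
        rw [hX''] at e
        exact hX2 (mul_eq_one_iff_eq_inv.2 e.symm)
  -- `g` normalizes the torus
  have hnorm : ∀ c : st a, (c : G) ∈ C →
      ∃ c' : st a, (c' : G) ∈ C ∧ φ g * φ c * φ g = φ c' := by
    intro c hc
    obtain ⟨d, hd, hcd | hcd⟩ := himage (g * c * g)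
    · obtain ⟨c', hc', i, hdi⟩ := cfg.decomp d hd
      by_cases hi : x ^ i = 1
      · refine ⟨d, by rw [hdi, hi, mul_one]; exact hc', ?_⟩
        rw [← hcd, map_mul, map_mul]
      · exfalso
        rw [map_mul, map_mul] at hcd
        have hfixd : psiZero a (d : G) = 0 := by rw [hdi]; exact cfg.psiZero_outside hc' hi
        rw [psiZero_of_fix (show (d : G) • a = a from d.2), sub_eq_zero, Nat.cast_eq_one,
          Nat.card_eq_one_iff_unique] at hfixd
        obtain ⟨-, ⟨⟨u, hu, hua, hdu⟩⟩⟩ := hfixd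
        have hdu' : φ d ⟨u, invol_mem_vee hu hua⟩ = ⟨u, invol_mem_vee hu hua⟩ :=
          Subtype.ext (by
            rw [act_apply]
            show (d : G) * u * (d : G)⁻¹ = u
            rw [hdu.eq, mul_inv_cancel_right])
        by_cases hc1 : (c : G) = 1
        · have hφd : φ d = 1 := by
            rw [← hcd, show c = 1 from Subtype.ext hc1, map_one, mul_one, hg2]
          have hd1 := cfg.eq_one_of_act hd hφd
          rw [hdi] at hd1
          exact hi (cfg.pow_eq_one_of_mem
            ((eq_inv_of_mul_eq_one_right hd1).symm ▸ inv_mem hc'))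
        · set u' := φ g ⟨u, invol_mem_vee hu hua⟩ with hu'def
          have hfix : φ c u' = u' := by
            apply (φ g).injective
            rw [← MulAut.mul_apply, hu'def, ← MulAut.mul_apply, hcd, hdu', ← MulAut.mul_apply,
              hg2, MulAut.one_apply]
          refine cfg.free c hc hc1 (u' : G) (Invol.orderOf_eq_two u'.2.1 fun h => ?_) u'.2.2
            (mul_inv_eq_iff_eq_mul.1 (congrArg Subtype.val hfix :))
          have h1 : u' = 1 := Subtype.ext h
          rw [hu'def, MulEquiv.map_eq_one_iff] at h1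
          exact Invol.ne_one hu (congrArg Subtype.val h1)
    · exfalso
      rw [map_mul, map_mul] at hcd
      obtain ⟨c', hc', i, hdi⟩ := cfg.decomp ((d : G) * (c : G)⁻¹)
        (mul_mem hd (inv_mem (cfg.le hc)))
      have hge : φ g = φ (d * c⁻¹) := by
        rw [map_mul, map_inv, eq_mul_inv_iff_mul_eq]
        exact mul_right_cancel hcd
      have hfixt : Commute ((d : G) * (c : G)⁻¹) t := by
        have h1 : φ (d * c⁻¹) ⟨t, invol_mem_vee ht hta⟩ = ⟨t, invol_mem_vee ht hta⟩ := by
          rw [← hge]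
          exact Subtype.ext (by
            rw [act_apply]
            show (g : G) * t * (g : G)⁻¹ = t
            rw [hgt.eq, mul_inv_cancel_right])
        exact mul_inv_eq_iff_eq_mul.1 (congrArg Subtype.val h1 :)
      have hc1 : c' = 1 := by
        by_contra hne
        refine cfg.free c' hc' hne t ht hta ?_
        have : c' = (d : G) * (c : G)⁻¹ * (x ^ i)⁻¹ := by rw [hdi]; group
        rw [this]
        exact hfixt.mul_left ((hxt.pow_left i).inv_left)
      refine hg ⟨(i : ℤ), ?_⟩
      show X ^ (i : ℤ) = φ g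
      rw [zpow_natCast, hge, hXdef, ← map_pow]
      congr 1
      exact Subtype.ext (by
        show x ^ i = (d : G) * (c : G)⁻¹
        rw [hdi, hc1, one_mul])
  -- both act on the torus by powers
  choose σ hσ using fun c : C => hnorm ⟨(c : G), cfg.mem_a c.2⟩ c.2
  have hinjC : ∀ p q : st a, (p : G) ∈ C → (q : G) ∈ C → φ p = φ q → p = q := by
    intro p q hp hq h
    have h1 := cfg.eq_one_of_act (d := ((p * q⁻¹ : st a) : G))
      (mul_mem (cfg.le hp) (inv_mem (cfg.le hq)))
      (by
        show φ (p * q⁻¹) = 1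
        rw [map_mul, map_inv, h, mul_inv_cancel])
    exact mul_inv_eq_one.1 (Subtype.ext h1)
  let σh : C →* C := MonoidHom.mk' (fun c => ⟨(σ c : G), (hσ c).1⟩) fun p q => by
    refine Subtype.ext ?_
    show (σ (p * q) : G) = ((σ p * σ q : st a) : G)
    congr 1
    refine hinjC _ _ (hσ _).1 (mul_mem (hσ p).1 (hσ q).1) ?_
    rw [map_mul, ← (hσ (p * q)).2, ← (hσ p).2, ← (hσ q).2,
      show (⟨((p * q : C) : G), cfg.mem_a (p * q).2⟩ : st a) =
        ⟨(p : G), cfg.mem_a p.2⟩ * ⟨(q : G), cfg.mem_a q.2⟩ from rfl, map_mul]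
    calc φ g * (φ ⟨(p : G), cfg.mem_a p.2⟩ * φ ⟨(q : G), cfg.mem_a q.2⟩) * φ g
        = φ g * φ ⟨(p : G), cfg.mem_a p.2⟩ * (φ g * φ g) *
            φ ⟨(q : G), cfg.mem_a q.2⟩ * φ g := by rw [hg2, mul_one]; group
      _ = _ := by group
  have hxC : ∀ c : C, x * (c : G) * x⁻¹ ∈ C := fun c => (mem_normalizer_iff.1 cfg.norm _).1 c.2
  let σx : C →* C := MonoidHom.mk' (fun c => ⟨x * (c : G) * x⁻¹, hxC c⟩) fun p q =>
    Subtype.ext (by
      show x * ((p : G) * q) * x⁻¹ = x * p * x⁻¹ * (x * q * x⁻¹)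
      group)
  haveI := cfg.cyclic
  obtain ⟨m1, hm1⟩ := MonoidHom.map_cyclic σh
  obtain ⟨m2, hm2⟩ := MonoidHom.map_cyclic σx
  have hcomm : φ g * X = X * φ g := by
    have hXt : X ⟨t, invol_mem_vee ht hta⟩ = ⟨t, invol_mem_vee ht hta⟩ := Subtype.ext (by
      rw [hXdef, act_apply]
      show x * t * x⁻¹ = t
      rw [hxt.eq, mul_inv_cancel_right])
    have hgt' : φ g ⟨t, invol_mem_vee ht hta⟩ = ⟨t, invol_mem_vee ht hta⟩ := Subtype.ext (by
      rw [act_apply]
      show (g : G) * t * (g : G)⁻¹ = t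
      rw [hgt.eq, mul_inv_cancel_right])
    set T : vee hV a := ⟨t, invol_mem_vee ht hta⟩
    let P : C → MulAut (vee hV a) := fun c => φ ⟨(c : G), cfg.mem_a c.2⟩
    have hgP : ∀ c, φ g * P c = P (σh c) * φ g := fun c => by
      have h1 : φ g * P c * φ g = P (σh c) := (hσ c).2
      rw [← h1, mul_assoc (φ g * P c), hg2, mul_one]
    have hxP : ∀ c, X * P c = P (σx c) * X := fun c => by
      rw [hXdef, ← map_mul, ← map_mul]
      congr 1
      exact Subtype.ext (by
        show x * (c : G) = x * (c : G) * x⁻¹ * x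
        group)
    refine MulEquiv.ext fun u => ?_
    by_cases hu : u = 1
    · rw [hu, map_one, map_one]
    obtain ⟨c, hc, hcu⟩ := cfg.trans t (u : G) ht hta
      (Invol.orderOf_eq_two u.2.1 fun h => hu (Subtype.ext h)) u.2.2
    have hu' : u = P ⟨c, hc⟩ T := Subtype.ext hcu.symm
    have e1 : (φ g * X) u = P (σh (σx ⟨c, hc⟩)) T := by
      rw [hu', ← MulAut.mul_apply, mul_assoc (φ g), hxP, ← mul_assoc, hgP, MulAut.mul_apply,
        MulAut.mul_apply, hXt, hgt']
    have e2 : (X * φ g) u = P (σx (σh ⟨c, hc⟩)) T := by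
      rw [hu', ← MulAut.mul_apply, mul_assoc X, hgP, ← mul_assoc, hxP, MulAut.mul_apply,
        MulAut.mul_apply, hgt', hXt]
    rw [e1, e2, hm1, hm2, hm2, hm1, ← zpow_mul, ← zpow_mul, mul_comm]
  rw [hcomm, mul_inv_cancel_right] at hgX
  exact hX2 (mul_eq_one_iff_eq_inv.2 hgX)

/-- The norm of `psi` is a positive number less than the number of orbits of `x` off the fixed
involution. -/
theorem Config.psi_norm [Fintype (st a)] :
    ∃ r : ℕ, Cfsg.classInner (psi a) (psi a) = (r : ℂ) ∧ 0 < r ∧ r < (numInv H - 1) / k := by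
  classical
  haveI : Fact k.Prime := ⟨cfg.prime⟩
  obtain ⟨t, ht, hta, hxt, huniq⟩ := cfg.x_one
  set T : InvAt a := ⟨t, ht, hta⟩
  haveI : MulAction.IsPretransitive (st a) (InvAt a) := ⟨fun s r => by
    obtain ⟨c, hc, he⟩ := cfg.trans s.1 r.1 s.2.1 s.2.2 r.2.1 r.2.2
    exact ⟨⟨c, cfg.mem_a hc⟩, Subtype.ext he⟩⟩
  set K := MulAction.stabilizer (st a) T
  haveI : Fintype (InvAt a) := Fintype.ofFinite _
  haveI : Fintype (MulAction.orbitRel.Quotient K (InvAt a)) := Fintype.ofFinite _
  set π := Cfsg.indFun K (fun _ => (1 : ℂ)) with hπ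
  have e : π = fun g : st a => (Nat.card (MulAction.fixedBy (InvAt a) g) : ℂ) :=
    indFun_one_stabilizer T
  have hpsi : psi a = π - fun _ => (1 : ℂ) := funext fun g => by
    rw [e, psi_eq_fixed]; rfl
  have hp1 : Cfsg.classInner π (fun _ : st a => (1 : ℂ)) = 1 := by
    rw [hπ, classInner_indFun _ (IsCharacter.isClassFunction isCharacter_one)]
    exact classInner_one_one
  have h1p : Cfsg.classInner (fun _ : st a => (1 : ℂ)) π = 1 := by
    rw [← classInner_conj, hp1, map_one]
  set N := Nat.card (MulAction.orbitRel.Quotient K (InvAt a)) with hN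
  have hpp : Cfsg.classInner π π = N := by
    conv_lhs => arg 1; rw [hπ]
    rw [classInner_indFun _ (hπ ▸ isClassFunction_indFun K _), classInner_def]
    have key : ∑ h : K, (1 : ℂ) * (starRingEnd ℂ) (π h) =
        ((Nat.card K * N : ℕ) : ℂ) := by
      have hb := MulAction.sum_card_fixedBy_eq_card_orbits_mul_card_group K (InvAt a)
      rw [e]
      simp only [one_mul, Complex.conj_natCast, Nat.card_eq_fintype_card]
      rw [← Nat.cast_sum, Nat.cast_inj, hN, Nat.card_eq_fintype_card, mul_comm, ← hb]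
      exact Finset.sum_congr rfl fun h _ => Fintype.card_congr (Equiv.refl _)
    rw [key, Nat.cast_mul, inv_mul_cancel_left₀ (Nat.cast_ne_zero.2 Nat.card_pos.ne')]
  have hN2 : 2 ≤ N := by
    obtain ⟨u, hu⟩ : ∃ u : InvAt a, u ≠ T := by
      by_contra hc
      push Not at hc
      have h1 : Nat.card (InvAt a) = 1 := Nat.card_eq_one_iff_unique.2
        ⟨⟨fun p q => (hc p).trans (hc q).symm⟩, ⟨T⟩⟩
      rw [show Nat.card (InvAt a) = numInv H from card_inv_at a] at h1
      have := cfg.three_le
      omega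
    haveI : Nontrivial (MulAction.orbitRel.Quotient K (InvAt a)) :=
      ⟨⟨Quotient.mk'' u, Quotient.mk'' T, fun h => by
        obtain ⟨g, hg⟩ := Quotient.exact' h
        exact hu (hg.symm.trans (MulAction.mem_stabilizer_iff.1 g.2))⟩⟩
    exact Finite.one_lt_card
  refine ⟨N - 1, ?_, by omega, ?_⟩
  · rw [hpsi, classInner_sub_left, classInner_sub_right, classInner_sub_right, hpp, hp1, h1p,
      classInner_one_one, Nat.cast_sub (by omega : 1 ≤ N)]
    push_cast
    ring
  -- orbits of `x`
  set xa : st a := ⟨x, cfg.mem.1⟩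
  have hxK : xa ∈ K := MulAction.mem_stabilizer_iff.2 (smul_invAt_eq_iff.2 hxt)
  set Z := zpowers xa
  haveI : Fintype (MulAction.orbitRel.Quotient Z (InvAt a)) := Fintype.ofFinite _
  have hZ : Nat.card (MulAction.orbitRel.Quotient Z (InvAt a)) = (numInv H - 1) / k + 1 := by
    have hcardZ : Nat.card Z = k := by
      rw [Nat.card_zpowers, ← cfg.order]
      exact (orderOf_injective (st a).subtype (st a).subtype_injective xa).symm
    have hb := MulAction.sum_card_fixedBy_eq_card_orbits_mul_card_group Z (InvAt a)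
    have hsum : ∑ z : Z, Fintype.card (MulAction.fixedBy (InvAt a) z) = numInv H + (k - 1) := by
      rw [← Finset.add_sum_erase _ _ (Finset.mem_univ (1 : Z)),
        Finset.sum_congr rfl (g := fun _ => 1) fun z hz => ?_]
      · rw [Finset.sum_const, Finset.card_erase_of_mem (Finset.mem_univ _), Finset.card_univ,
          ← Nat.card_eq_fintype_card (α := Z), hcardZ, smul_eq_mul, mul_one,
          ← Nat.card_eq_fintype_card]
        congr 1
        rw [← card_inv_at a]
        exact Nat.card_congr (Equiv.subtypeUnivEquiv fun u => one_smul Z u)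
      · obtain ⟨n, hn⟩ := (isOfFinOrder_of_finite xa).mem_powers_iff_mem_zpowers.2 z.2
        have hxn : x ^ n ≠ 1 := fun h => (Finset.mem_erase.1 hz).1 (Subtype.ext (by
          rw [← hn]; exact Subtype.ext h))
        have hval : ((z : st a) : G) = x ^ n := by rw [← hn]; rfl
        refine Fintype.card_eq_one_iff.2 ⟨⟨T, smul_invAt_eq_iff (g := (z : st a)).2
          (by rw [hval]; exact hxt.pow_left n)⟩, fun u => Subtype.ext (Subtype.ext ?_)⟩
        refine huniq _ u.1.2.1 u.1.2.2 (cfg.commute_of_pow hxn ?_)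
        rw [← hval]
        exact smul_invAt_eq_iff (g := (z : st a)).1 u.2
    rw [hsum, ← Nat.card_eq_fintype_card, ← Nat.card_eq_fintype_card, hcardZ] at hb
    obtain ⟨s, hs⟩ := cfg.dvd_sub_one
    have hm := cfg.three_le
    have hk := cfg.prime.pos
    rw [hs, Nat.mul_div_cancel_left _ hk]
    refine Nat.eq_of_mul_eq_mul_right hk ?_
    rw [← hb, add_mul, one_mul, mul_comm s]
    omega
  have hle : Z ≤ K := zpowers_le.2 hxK
  let F : MulAction.orbitRel.Quotient Z (InvAt a) → MulAction.orbitRel.Quotient K (InvAt a) :=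
    Quotient.map' id fun p q h => by
      obtain ⟨g, hg⟩ := h
      exact ⟨⟨g, hle g.2⟩, hg⟩
  have hsurj : Function.Surjective F := fun q => by
    obtain ⟨u, rfl⟩ := Quotient.mk''_surjective q
    exact ⟨Quotient.mk'' u, rfl⟩
  have hNle : N ≤ (numInv H - 1) / k + 1 := hZ ▸ Nat.card_le_card_of_surjective F hsurj
  by_contra hlt
  have hbij : Function.Bijective F := (Nat.bijective_iff_surjective_and_card F).2
    ⟨hsurj, by rw [hZ, ← hN]; omega⟩
  refine cfg.false_of_orbits ht hta hxt fun g hg hgt u hu hua => ?_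
  set U : InvAt a := ⟨u, hu, hua⟩
  have hgK : (⟨g, hg⟩ : st a) ∈ K :=
    MulAction.mem_stabilizer_iff.2 (smul_invAt_eq_iff.2 hgt)
  have heq : F (Quotient.mk'' ((⟨g, hg⟩ : st a) • U)) = F (Quotient.mk'' U) :=
    Quotient.sound' ⟨⟨_, hgK⟩, rfl⟩
  obtain ⟨z, hz⟩ := Quotient.exact' (hbij.1 heq)
  obtain ⟨n, hn⟩ := (isOfFinOrder_of_finite xa).mem_powers_iff_mem_zpowers.2 z.2
  refine ⟨n, ?_⟩
  have hz' : ((z : st a) : G) * u * ((z : st a) : G)⁻¹ = g * u * g⁻¹ := congrArg Subtype.val hz
  rw [← hz', ← hn]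
  rfl

end CfsgLib.Bender.Commuting
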