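import Cfsg.Agent.Bender.Commuting.Induced
import Cfsg.Agent.Bender.Commuting.CountArith
import Cfsg.Agent.Bender.Commuting.Exceptional
import Cfsg.Agent.Bender.Commuting.Orbits
import Cfsg.Agent.Char.Orthogonality
import Cfsg.Agent.Char.AlgInt

/-!
Bender's theorem, commuting branch: the configuration left by the transfer arguments does not exist.
-/

set_option autoImplicit false
set_option linter.unusedSectionVars false
set_option linter.style.haveILetI false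

namespace CfsgLib.Bender.Commuting

open Subgroup
open CfsgLib.Bender.GSide
open CfsgLib.Char
open scoped ComplexConjugate

universe u

variable {G : Type u} [Group G] [Finite G] {H : Subgroup G}

/-- The configuration does not exist. -/
theorem Config.false {a b : G ⧸ H} {k : ℕ} {C : Subgroup G} {x v : G}
    (cfg : Config H a b k C x v) : False := by
  classical
  haveI : Fintype G := Fintype.ofFinite G
  haveI : Fintype (st a) := Fintype.ofFinite _
  haveI : Fintype C := Fintype.ofFinite C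
  obtain ⟨E, e, δ, hδ, hEcard, hE, hout, hEeq, hEsum, hEcong⟩ := cfg.exceptional
  obtain ⟨r, hr, hr0, hrlt⟩ := cfg.psi_norm
  have hm3 := cfg.three_le
  haveI : Nontrivial C := Finite.one_lt_card_iff_nontrivial.1 (by rw [cfg.card]; omega)
  obtain ⟨⟨y, hy⟩, hy0⟩ := exists_ne (1 : C)
  have hy1 : y ≠ 1 := fun h => hy0 (Subtype.ext h)
  obtain ⟨t, htH, ht⟩ := StrongEmbed.exists_invol cfg.hyp.se
  have hΨ := cfg.indPsi_isCharacter
  have hnat : ∀ χ : G → ℂ, ∃ n : ℕ, Cfsg.IsIrrCharacter G χ →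
      Cfsg.classInner (indPsi a) χ = n := fun χ => by
    by_cases h : Cfsg.IsIrrCharacter G χ
    · obtain ⟨n, hn⟩ := IsCharacter.exists_classInner_eq_natCast hΨ h
      exact ⟨n, fun _ => hn⟩
    · exact ⟨0, fun h' => absurd h' h⟩
  choose cN hcN using hnat
  have hn0 : H.index ≠ 0 := Subgroup.index_ne_zero_of_finite
  -- the values at an involution of the constituents
  have hjval : ∀ χ : G → ℂ, ∃ j : ℤ, Cfsg.IsIrrCharacter G χ → cN χ ≠ 0 →
      1 ≤ j ∧ χ t = (j : ℂ) ∧ χ 1 = (H.index : ℂ) * (j : ℂ) := fun χ => by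
    by_cases h : Cfsg.IsIrrCharacter G χ ∧ cN χ ≠ 0
    swap
    · exact ⟨0, fun h1 h2 => absurd ⟨h1, h2⟩ h⟩
    obtain ⟨hχ, hc⟩ := h
    have h1 := cfg.constituent hχ (by rw [hcN χ hχ]; exact Nat.cast_ne_zero.2 hc) ht
    obtain ⟨n, hn, hn1⟩ := IsIrrCharacter.exists_degree hχ
    obtain ⟨j, hj, -⟩ := exists_int_of_isIntegral_rat ((n : ℚ) / (H.index : ℚ))
      (IsCharacter.isIntegral (IsIrrCharacter.isCharacter hχ) t) (by
        rw [Rat.cast_div, Rat.cast_natCast, Rat.cast_natCast, ← hn1, h1,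
          mul_div_cancel_left₀ _ (Nat.cast_ne_zero.2 hn0)])
    refine ⟨j, fun _ _ => ⟨?_, hj, by rw [h1, hj]⟩⟩
    have h2 : (0 : ℂ) ≠ (j : ℂ) ∧ 0 ≤ ((H.index : ℤ) * j) := by
      refine ⟨fun h0 => IsIrrCharacter.apply_one_ne_zero hχ (by rw [h1, hj, ← h0, mul_zero]), ?_⟩
      have : ((n : ℤ) : ℂ) = (((H.index : ℤ) * j : ℤ) : ℂ) := by
        push_cast; rw [← hn1, h1, hj]
      rw [← Int.cast_inj.1 this]
      exact Int.natCast_nonneg n
    have h3 : j ≠ 0 := fun h0 => h2.1 (by rw [h0, Int.cast_zero])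
    have h4 : 0 ≤ j := nonneg_of_mul_nonneg_right h2.2 (by exact_mod_cast Nat.pos_of_ne_zero hn0)
    omega
  choose jZ hjZ using hjval
  -- the values on the torus of the other characters
  have hdval : ∀ χ : G → ℂ, ∃ d : ℤ, Cfsg.IsIrrCharacter G χ → χ ∉ E →
      χ y = (d : ℂ) ∧ ∃ z : ℤ, χ 1 = (d : ℂ) + (numInv H : ℂ) * (z : ℂ) := fun χ => by
    by_cases h : Cfsg.IsIrrCharacter G χ ∧ χ ∉ E
    swap
    · exact ⟨0, fun h1 h2 => absurd ⟨h1, h2⟩ h⟩
    obtain ⟨hχ, hχE⟩ := h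
    obtain ⟨d, hd⟩ := hout χ hχ hχE
    refine ⟨d, fun _ _ => ⟨hd y hy hy1, ?_⟩⟩
    obtain ⟨n, hn⟩ := IsCharacter.exists_classInner_eq_natCast'
      (IsCharacter.restrict (IsIrrCharacter.isCharacter hχ) C) (isCharacter_one (G := C))
    refine ⟨(n : ℤ) - d, ?_⟩
    rw [classInner_def, ← Finset.add_sum_erase _ _ (Finset.mem_univ (1 : C)),
      Finset.sum_congr rfl (g := fun _ => (d : ℂ)) fun c hc => by
        rw [map_one, mul_one]
        exact hd c c.2 fun h => (Finset.mem_erase.1 hc).1 (Subtype.ext h)] at hn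
    rw [Finset.sum_const, Finset.card_erase_of_mem (Finset.mem_univ _), Finset.card_univ,
      ← Nat.card_eq_fintype_card, cfg.card, nsmul_eq_mul, Nat.cast_sub (by omega : 1 ≤ numInv H),
      map_one, mul_one, inv_mul_eq_iff_eq_mul₀ (Nat.cast_ne_zero.2 cfg.hyp.numInv_pos.ne')] at hn
    have h1 : χ (1 : G) + ((numInv H : ℂ) - 1) * (d : ℂ) = (numInv H : ℂ) * (n : ℂ) := by
      simpa using hn
    push_cast
    linear_combination h1
  choose dZ hdZ using hdval
  -- the exceptional characters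
  have hk2 := cfg.prime.two_le
  have hEne : E.Nonempty := by
    rw [← Finset.card_pos]
    rcases Nat.eq_zero_or_pos E.card with h | h
    · rw [h, mul_zero] at hEcard; omega
    · exact h
  obtain ⟨χ₀, hχ₀⟩ := hEne
  obtain ⟨hEsum1, hEsum2⟩ := hEsum y hy hy1
  have hEirr : ∀ χ ∈ E, Cfsg.IsIrrCharacter G χ := fun χ hχ => (hE χ hχ).1
  have hEc : ∀ χ ∈ E, cN χ = cN χ₀ := fun χ hχ => by
    have := (hEeq χ hχ χ₀ hχ₀).2
    rw [hcN χ (hEirr χ hχ), hcN χ₀ (hEirr χ₀ hχ₀)] at this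
    exact_mod_cast this
  have hEsub : E ⊆ irrFinset G := fun χ hχ => mem_irrFinset.2 (hEirr χ hχ)
  set S := (irrFinset G \ E).filter (fun χ => cN χ ≠ 0) with hSdef
  have hSmem : ∀ χ ∈ S, Cfsg.IsIrrCharacter G χ ∧ χ ∉ E ∧ cN χ ≠ 0 := fun χ hχ => by
    rw [hSdef, Finset.mem_filter, Finset.mem_sdiff, mem_irrFinset] at hχ
    exact ⟨hχ.1.1, hχ.1.2, hχ.2⟩
  have hsplit : ∀ F : (G → ℂ) → ℂ, (∀ χ, cN χ = 0 → F χ = 0) →
      ∑ χ ∈ irrFinset G, F χ = ∑ χ ∈ E, F χ + ∑ χ ∈ S, F χ := fun F hF => by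
    rw [← Finset.sum_sdiff hEsub, add_comm, hSdef]
    congr 1
    refine (Finset.sum_filter_of_ne (p := fun χ => cN χ ≠ 0) fun χ _ hne h0 => hne (hF χ h0)).symm
  have hexp : ∀ g : G, indPsi a g = ∑ χ ∈ irrFinset G, (cN χ : ℂ) * χ g := fun g => by
    have := congrFun (eq_sum_irr (IsCharacter.isClassFunction hΨ)) g
    rw [this, Finset.sum_apply]
    exact Finset.sum_congr rfl fun χ hχ => by
      rw [Pi.smul_apply, smul_eq_mul, hcN χ (mem_irrFinset.1 hχ)]
  have hmC : ((numInv H : ℤ) : ℂ) = (numInv H : ℂ) := Int.cast_natCast _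
  -- degree
  have hdeg : ((cN χ₀ : ℤ) * E.card * jZ χ₀ + ∑ χ ∈ S, (cN χ : ℤ) * jZ χ : ℤ) =
      (numInv H : ℤ) - 1 := by
    have h1 := cfg.indPsi_invol ht
    rw [hexp t, hsplit (fun χ => (cN χ : ℂ) * χ t) (fun χ h => by simp [h]),
      Finset.sum_congr rfl (g := fun χ => (cN χ : ℂ) * (jZ χ : ℂ)) (fun χ hχ => ?_)] at h1
    rotate_left
    · by_cases h0 : cN χ = 0
      · simp [h0]
      · rw [(hjZ χ (hEirr χ hχ) h0).2.1]
    rw [Finset.sum_congr rfl (g := fun χ => (cN χ : ℂ) * (jZ χ : ℂ)) (fun χ hχ => by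
      rw [(hjZ χ (hSmem χ hχ).1 (hSmem χ hχ).2.2).2.1]) (s₁ := S)] at h1
    rw [Finset.sum_congr rfl (g := fun _ => (cN χ₀ : ℂ) * (jZ χ₀ : ℂ)) (fun χ hχ => by
      rw [hEc χ hχ]
      by_cases h0 : cN χ₀ = 0
      · simp [h0]
      · have e1 := (hjZ χ (hEirr χ hχ) (by rw [hEc χ hχ]; exact h0)).2.2
        have e2 := (hjZ χ₀ (hEirr χ₀ hχ₀) h0).2.2
        rw [(hEeq χ hχ χ₀ hχ₀).1, e2] at e1
        rw [mul_left_cancel₀ (Nat.cast_ne_zero.2 hn0) e1]) (s₁ := E),
      Finset.sum_const, nsmul_eq_mul] at h1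
    refine Int.cast_inj.1 (?_ : ((_ : ℤ) : ℂ) = _)
    push_cast
    linear_combination h1
  -- value
  have hval : (∑ χ ∈ S, (cN χ : ℤ) * dZ χ + (cN χ₀ : ℤ) * (E.card * e - δ) : ℤ) = -2 := by
    have h1 := cfg.indPsi_C hy hy1
    rw [hexp y, hsplit (fun χ => (cN χ : ℂ) * χ y) (fun χ h => by simp [h]),
      Finset.sum_congr rfl (g := fun χ => (cN χ₀ : ℂ) * χ y) (fun χ hχ => by rw [hEc χ hχ])
        (s₁ := E), ← Finset.mul_sum, hEsum1,
      Finset.sum_congr rfl (g := fun χ => (cN χ : ℂ) * (dZ χ : ℂ)) (fun χ hχ => by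
        rw [(hdZ χ (hSmem χ hχ).1 (hSmem χ hχ).2.1).1]) (s₁ := S)] at h1
    refine Int.cast_inj.1 (?_ : ((_ : ℤ) : ℂ) = _)
    push_cast
    linear_combination h1
  -- norm
  have hkm : (numInv H - 1) / k = 2 * E.card := by
    rw [← hEcard, show 2 * k * E.card = k * (2 * E.card) by ring,
      Nat.mul_div_cancel_left _ cfg.prime.pos]
  have hnorm : ((E.card : ℤ) * (cN χ₀ : ℤ) ^ 2 + ∑ χ ∈ S, (cN χ : ℤ) ^ 2 : ℤ) =
      (r : ℤ) + 2 * (E.card : ℤ) := by
    have h1 := cfg.norm_indPsi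
    rw [hr, hkm, classInner_eq_sum_irr (IsCharacter.isClassFunction hΨ),
      Finset.sum_congr rfl (g := fun χ => (cN χ : ℂ) ^ 2) (fun χ hχ => by
        rw [hcN χ (mem_irrFinset.1 hχ), Complex.conj_natCast, sq]),
      hsplit (fun χ => (cN χ : ℂ) ^ 2) (fun χ h => by simp [h]),
      Finset.sum_congr rfl (g := fun _ => (cN χ₀ : ℂ) ^ 2) (fun χ hχ => by rw [hEc χ hχ])
        (s₁ := E), Finset.sum_const, nsmul_eq_mul] at h1
    refine Int.cast_inj.1 (?_ : ((_ : ℤ) : ℂ) = _)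
    push_cast at h1 ⊢
    linear_combination h1
  -- squares
  have hsq : (∑ χ ∈ S, dZ χ ^ 2 : ℤ) ≤
      2 * (k : ℤ) - 2 + 2 * δ * e - (E.card : ℤ) * e ^ 2 := by
    have hst1 : stChar H y = 1 := by
      show (Nat.card {c : G ⧸ H // y • c = c} : ℂ) - 1 = 1
      have : Nat.card {c : G ⧸ H // y • c = c} = 2 := by
        rw [Nat.card_eq_two_iff' (⟨a, (cfg.le hy).1⟩ : {c : G ⧸ H // y • c = c})]
        refine ⟨⟨b, (cfg.le hy).2⟩, fun h => cfg.ne (congrArg Subtype.val h).symm, fun c hc => ?_⟩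
        rcases cfg.fix_two y hy hy1 c.1 c.2 with h | h
        · exact absurd (Subtype.ext h) hc
        · exact Subtype.ext h
      rw [this]; norm_num
    set O := irrFinset G \ E with hOdef
    have hval : ∀ χ ∈ O, χ y = (dZ χ : ℂ) := fun χ hχ => by
      rw [hOdef, Finset.mem_sdiff, mem_irrFinset] at hχ
      exact (hdZ χ hχ.1 hχ.2).1
    have hcol := sum_irr_mul_conj y y
    rw [if_pos (IsConj.refl y), cfg.centralizer_eq y hy hy1, cfg.card,
      ← Finset.sum_sdiff hEsub,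
      Finset.sum_congr rfl (g := fun χ => ((dZ χ ^ 2 : ℤ) : ℂ)) (fun χ hχ => by
        rw [hval χ hχ, map_intCast, Int.cast_pow, sq]) (s₁ := O),
      hEsum2, ← Int.cast_sum] at hcol
    have hO : ∑ χ ∈ O, dZ χ ^ 2 =
        2 * (k : ℤ) + 2 * δ * e - (E.card : ℤ) * e ^ 2 := by
      refine Int.cast_inj.1 (?_ : ((_ : ℤ) : ℂ) = _)
      push_cast at hcol ⊢
      linear_combination hcol
    -- the trivial character and the permutation character take the value one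
    have hspecial : ∀ χ : G → ℂ, Cfsg.IsIrrCharacter G χ → χ ∉ E → χ y = 1 →
        (χ t = 0 ∨ χ 1 = χ t) → χ ∈ O ∧ dZ χ = 1 ∧ χ ∉ S := by
      intro χ hχ hχE h1 h2
      have hO' : χ ∈ O := Finset.mem_sdiff.2 ⟨mem_irrFinset.2 hχ, hχE⟩
      refine ⟨hO', ?_, fun hS => ?_⟩
      · have := hval χ hO'
        rw [h1] at this
        exact_mod_cast this.symm
      · obtain ⟨hj1, hjt, hj0⟩ := hjZ χ hχ (hSmem χ hS).2.2
        rcases h2 with h | h
        · rw [h] at hjt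
          have : jZ χ = 0 := by exact_mod_cast hjt.symm
          omega
        · rw [hj0, hjt] at h
          have h' : (H.index : ℂ) * (jZ χ : ℂ) = 1 * (jZ χ : ℂ) := by rw [h, one_mul]
          have hne : (jZ χ : ℂ) ≠ 0 := by exact_mod_cast (show jZ χ ≠ 0 by omega)
          have h3 : H.index = 1 := by exact_mod_cast mul_right_cancel₀ hne h'
          exact cfg.hyp.se.1 (index_eq_one.1 h3)
    have hone := hspecial _ isIrrCharacter_one (fun h => (hE _ h).2.1 rfl) rfl (Or.inr rfl)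
    have hst := hspecial _ cfg.stChar_irr (fun h => (hE _ h).2.2 rfl) hst1 (Or.inl (by
      obtain ⟨c, hc⟩ := StrongEmbed.exists_fix cfg.hyp.se ht
      show (Nat.card {c : G ⧸ H // t • c = c} : ℂ) - 1 = 0
      have : Nat.card {c : G ⧸ H // t • c = c} = 1 :=
        Nat.card_eq_one_iff_unique.2 ⟨⟨fun p q => Subtype.ext
          (StrongEmbed.fix_unique cfg.hyp.se ht p.2 q.2)⟩, ⟨⟨c, hc⟩⟩⟩
      rw [this, Nat.cast_one, sub_self]))
    have hne : (fun _ : G => (1 : ℂ)) ≠ stChar H := fun h => by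
      obtain ⟨c, hc⟩ := StrongEmbed.exists_fix cfg.hyp.se ht
      have h1 := congrFun h t
      have : Nat.card {c : G ⧸ H // t • c = c} = 1 :=
        Nat.card_eq_one_iff_unique.2 ⟨⟨fun p q => Subtype.ext
          (StrongEmbed.fix_unique cfg.hyp.se ht p.2 q.2)⟩, ⟨⟨c, hc⟩⟩⟩
      rw [show stChar H t = (Nat.card {c : G ⧸ H // t • c = c} : ℂ) - 1 from rfl, this,
        Nat.cast_one, sub_self] at h1
      exact one_ne_zero h1
    have hsub : ∑ χ ∈ S, dZ χ ^ 2 + ∑ χ ∈ ({(fun _ : G => (1 : ℂ)), stChar H} : Finset (G → ℂ)),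
        dZ χ ^ 2 ≤ ∑ χ ∈ O, dZ χ ^ 2 := by
      rw [← Finset.sum_union]
      · refine Finset.sum_le_sum_of_subset_of_nonneg (Finset.union_subset (Finset.filter_subset _ _)
          ?_) fun χ _ _ => sq_nonneg _
        simp [Finset.insert_subset_iff, hone.1, hst.1]
      · simp [hone.2.2, hst.2.2]
    rw [Finset.sum_pair hne, hone.2.1, hst.2.1, hO] at hsub
    linarith
  -- congruences
  have hnm : ∃ w : ℤ, (H.index : ℤ) = 2 + (numInv H : ℤ) * w := by
    obtain ⟨w, hw⟩ := Nat.modEq_iff_dvd.1 cfg.index_mod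
    push_cast at hw
    exact ⟨-w, by linarith⟩
  obtain ⟨w, hw⟩ := hnm
  refine CountArith.Data.elim (s := S) (c := fun χ => (cN χ : ℤ)) (d := dZ) (j := jZ) (k := k)
    (m := (numInv H : ℤ)) (q := (E.card : ℤ)) (r := (r : ℤ)) (c0 := (cN χ₀ : ℤ)) (j0 := jZ χ₀)
    (e := e) (δ := δ) ?_
  exact {
    prime := cfg.prime
    odd := cfg.odd
    hm := by have h := cfg.card_inv; zify at h; linarith
    hq := by have h := hEcard; zify [show 1 ≤ numInv H by omega] at h; linarith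
    hr0 := by exact_mod_cast hr0
    hr := by exact_mod_cast (hkm ▸ hrlt)
    hδ := hδ
    hc := fun χ hχ => by exact_mod_cast Nat.one_le_iff_ne_zero.2 (hSmem χ hχ).2.2
    hj := fun χ hχ => (hjZ χ (hSmem χ hχ).1 (hSmem χ hχ).2.2).1
    hc0 := Int.natCast_nonneg _
    hj0 := fun h => (hjZ χ₀ (hEirr χ₀ hχ₀) (by exact_mod_cast h)).1
    degree := by linarith
    value := hval
    norm := hnorm
    squares := hsq
    cong := fun χ hχ => by
      obtain ⟨-, z, hz⟩ := hdZ χ (hSmem χ hχ).1 (hSmem χ hχ).2.1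
      rw [(hjZ χ (hSmem χ hχ).1 (hSmem χ hχ).2.2).2.2] at hz
      have h1 : (H.index : ℤ) * jZ χ = dZ χ + (numInv H : ℤ) * z := by exact_mod_cast hz
      exact ⟨z - w * jZ χ, by rw [hw] at h1; linarith⟩
    cong0 := fun h => by
      obtain ⟨z, hz⟩ := hEcong χ₀ hχ₀
      rw [(hjZ χ₀ (hEirr χ₀ hχ₀) (by exact_mod_cast h)).2.2] at hz
      have h1 : (H.index : ℤ) * jZ χ₀ = e + 2 * (k : ℤ) * δ + (numInv H : ℤ) * z := by
        exact_mod_cast hz
      exact ⟨z - w * jZ χ₀, by rw [hw] at h1; linarith⟩ }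

end CfsgLib.Bender.Commuting
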