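import Cfsg.Agent.Bender.Commuting.Kernel
import Cfsg.Agent.Solvable.CoprimeAct
import Cfsg.Agent.Solvable.Fitting
import Cfsg.Agent.Turull.TowerExist
import Cfsg.Agent.S0205

/-!
Bender's theorem, commuting branch: if the 2-elements fixing a point generate a 2-group, this group
is transitive on the other points.
-/

set_option autoImplicit false
set_option linter.unusedSectionVars false
set_option linter.style.haveILetI false

namespace CfsgLib.Bender.Commuting

open Subgroup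
open CfsgLib.FusionLift (cj mem_cj card_cj)
open CfsgLib.Bender.GSide
open CfsgLib.Bender.Core.CSix (vee invol_mem_vee)

universe u

/-- A quotient in which all 2-elements become trivial has odd order. -/
theorem odd_card_quotient {K : Type u} [Group K] [Finite K] (M : Subgroup K) [M.Normal]
    (h : ∀ g : K, (∃ i : ℕ, g ^ 2 ^ i = 1) → g ∈ M) : Odd (Nat.card (K ⧸ M)) := by
  haveI : Fact (Nat.Prime 2) := ⟨Nat.prime_two⟩
  by_contra hev
  obtain ⟨x, hx⟩ := exists_prime_orderOf_dvd_card' (G := K ⧸ M) 2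
    (even_iff_two_dvd.1 (Nat.not_odd_iff_even.1 hev))
  obtain ⟨g, rfl⟩ := QuotientGroup.mk_surjective x
  obtain ⟨i, r, hr, hgr⟩ := Nat.exists_eq_two_pow_mul_odd (orderOf_pos g).ne'
  have hg : g ^ r ∈ M := h _ ⟨i, by rw [← pow_mul, mul_comm, ← hgr, pow_orderOf_eq_one]⟩
  have h1 : (g : K ⧸ M) ^ r = 1 := by
    rw [← QuotientGroup.mk_pow]; exact (QuotientGroup.eq_one_iff _).2 hg
  exact Nat.not_even_iff_odd.2 hr (even_iff_two_dvd.2 (hx ▸ orderOf_dvd_of_pow_eq_one h1))

variable {G : Type u} [Group G] [Finite G] {H : Subgroup G}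

/-- The elements of odd order centralizing the 2-part of a point stabilizer are trivial. -/
theorem Hyp.eq_one_of_centralizes_twoPart (hH : Hyp H) {a : G ⧸ H} {g : G} (hga : g ∈ st a)
    (hgT : g ∈ centralizer (twoPart (st a) : Set G)) (hg : Odd (orderOf g)) : g = 1 := by
  set C := st a ⊓ centralizer (twoPart (st a) : Set G) with hC
  have hCn : ∀ k ∈ st a, ∀ c ∈ C, k * c * k⁻¹ ∈ C := fun k hk c hc =>
    mem_inf.2 ⟨mul_mem (mul_mem hk (mem_inf.1 hc).1) (inv_mem hk), mem_centralizer_iff.2 fun t ht => by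
      have hk' : k⁻¹ ∈ normalizer (twoPart (st a) : Set G) :=
        inv_mem (le_normalizer_twoPart (K := st a) le_normalizer hk)
      have ht' : k⁻¹ * t * k ∈ twoPart (st a) := by
        simpa using (mem_normalizer_iff.1 hk' t).1 ht
      calc t * (k * c * k⁻¹) = k * ((k⁻¹ * t * k) * c) * k⁻¹ := by group
        _ = k * (c * (k⁻¹ * t * k)) * k⁻¹ := by rw [mem_centralizer_iff.1 hc.2 _ ht']
        _ = k * c * k⁻¹ * t := by group⟩
  have he : Odd (center C).index := by
    rw [Subgroup.index]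
    refine odd_card_quotient (center C) fun w hw => mem_center_iff.2 fun c => Subtype.ext ?_
    obtain ⟨i, hi⟩ := hw
    exact (mem_centralizer_iff.1 c.2.2 w (mem_twoPart w.2.1 ⟨i, congrArg Subtype.val hi⟩)).symm
  have hmul : ∀ x y : C, Odd (orderOf x) → Odd (orderOf y) → Odd (orderOf (x * y)) := by
    intro x y hx hy
    set e := (center C).index with he'
    have h1 : (x * y) ^ e = x ^ e * y ^ e :=
      congrArg Subtype.val (map_mul (MonoidHom.transferCenterPow C) x y)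
    have hc : Commute (x ^ e) (y ^ e) :=
      (mem_center_iff.1 ((center C).pow_index_mem x) (y ^ e)).symm
    have h2 : Odd (orderOf ((x * y) ^ e)) := by
      rw [h1]
      exact ((hx.of_dvd_nat (orderOf_pow_dvd e)).mul (hy.of_dvd_nat (orderOf_pow_dvd e))).of_dvd_nat
        hc.orderOf_mul_dvd_mul_orderOf
    refine (he.mul h2).of_dvd_nat (orderOf_dvd_of_pow_eq_one ?_)
    rw [pow_mul, pow_orderOf_eq_one]
  let U : Subgroup G :=
    { carrier := {x | x ∈ C ∧ Odd (orderOf x)}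
      one_mem' := ⟨one_mem _, by rw [orderOf_one]; exact odd_one⟩
      mul_mem' := fun {x y} hx hy => ⟨mul_mem hx.1 hy.1, by
        rw [← Subgroup.orderOf_mk (a := x * y) (ha := mul_mem hx.1 hy.1)]
        exact hmul ⟨x, hx.1⟩ ⟨y, hy.1⟩ (by rw [Subgroup.orderOf_mk]; exact hx.2)
          (by rw [Subgroup.orderOf_mk]; exact hy.2)⟩
      inv_mem' := fun {x} hx => ⟨inv_mem hx.1, by rw [orderOf_inv]; exact hx.2⟩ }
  have hU : U = ⊥ := by
    refine hH.eq_bot_of_normal_at (a := a) (fun x hx => hx.1.1) (fun k hk => ?_) ?_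
    · refine mem_norm_iff.2 (cj_eq_of_le (cj_le_iff.2 fun x hx => ?_) le_rfl)
      exact ⟨hCn k hk x hx.1, by rw [Invol.orderOf_conj_eq]; exact hx.2⟩
    · haveI : Fact (Nat.Prime 2) := ⟨Nat.prime_two⟩
      by_contra hev
      obtain ⟨x, hx⟩ := exists_prime_orderOf_dvd_card' (G := U) 2
        (even_iff_two_dvd.1 (Nat.not_odd_iff_even.1 hev))
      have := x.2.2
      rw [Subgroup.orderOf_coe, hx] at this
      exact absurd this (by decide)
  exact mem_bot.1 (hU ▸ (⟨⟨hga, hgT⟩, hg⟩ : g ∈ U))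

/-- An element of prime order `p` fixing only two points centralizes an abelian `q`-subgroup which
it normalizes, if `q ≠ p` and the product with the 2-part of the point stabilizer is a subgroup. -/
theorem Hyp.commute_of_two_fix (hH : Hyp H) {a b : G ⧸ H} (hab : a ≠ b) {p q : ℕ} (hp : p.Prime)
    [Fact q.Prime] (hqp : q ≠ p) (hq2 : q ≠ 2) (hT : IsPGroup 2 (twoPart (st a))) {y : G}
    (hy : orderOf y = p) (hya : y ∈ st a) (hyb' : y ∈ st b) (hfix : ∀ c : G ⧸ H, y • c = c → c = a ∨ c = b)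
    {Z : Subgroup G} (hZa : Z ≤ st a) (hZq : IsPGroup q Z)
    (hab' : ∀ z ∈ Z, ∀ z' ∈ Z, z * z' = z' * z) (hyZ : y ∈ normalizer (Z : Set G)) :
    ∀ z ∈ Z, Commute y z := by
  haveI : Fact (Nat.Prime 2) := ⟨Nat.prime_two⟩
  set T := twoPart (st a) with hTdef
  have hTn : st a ≤ normalizer (T : Set G) := le_normalizer_twoPart le_normalizer
  have hconj : ∀ z ∈ Z, y * z * y⁻¹ ∈ Z := fun z hz => (mem_normalizer_iff.1 hyZ z).1 hz
  let I : Subgroup G :=
    { carrier := {g | ∃ z ∈ Z, y * z * y⁻¹ * z⁻¹ = g}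
      one_mem' := ⟨1, one_mem _, by group⟩
      mul_mem' := by
        rintro _ _ ⟨z, hz, rfl⟩ ⟨w, hw, rfl⟩
        refine ⟨z * w, mul_mem hz hw, ?_⟩
        calc y * (z * w) * y⁻¹ * (z * w)⁻¹
            = y * z * y⁻¹ * (y * w * y⁻¹ * w⁻¹ * z⁻¹) := by group
          _ = y * z * y⁻¹ * (z⁻¹ * (y * w * y⁻¹ * w⁻¹)) := by
              rw [hab' _ (inv_mem hz) _ (mul_mem (hconj w hw) (inv_mem hw))]
          _ = y * z * y⁻¹ * z⁻¹ * (y * w * y⁻¹ * w⁻¹) := by group
      inv_mem' := by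
        rintro _ ⟨z, hz, rfl⟩
        refine ⟨z⁻¹, inv_mem hz, ?_⟩
        rw [inv_inv, hab' _ (hconj _ (inv_mem hz)) _ hz]
        group }
  have hIZ : I ≤ Z := by
    rintro _ ⟨z, hz, rfl⟩
    exact mul_mem (hconj z hz) (inv_mem hz)
  have hIfix : ∀ g ∈ I, Commute y g → g = 1 := by
    rintro g ⟨z, hz, hg⟩ hc
    have hn : ∀ n : ℕ, y ^ n * z * (y ^ n)⁻¹ = g ^ n * z := by
      intro n
      induction n with
      | zero => simp
      | succ n ih =>
        calc y ^ (n + 1) * z * (y ^ (n + 1))⁻¹ = y * (y ^ n * z * (y ^ n)⁻¹) * y⁻¹ := by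
              rw [pow_succ']; group
          _ = y * (g ^ n * z) * y⁻¹ := by rw [ih]
          _ = (y * g ^ n) * (z * y⁻¹) := by group
          _ = (g ^ n * y) * (z * y⁻¹) := by rw [(hc.pow_right n).eq]
          _ = g ^ n * (y * z * y⁻¹ * z⁻¹ * z) := by group
          _ = g ^ (n + 1) * z := by rw [hg, pow_succ]; group
    have h1 := hn p
    rw [← hy, pow_orderOf_eq_one, one_mul, inv_one, mul_one, eq_comm, mul_eq_right, hy] at h1
    have hgZ : g ∈ Z := hg ▸ mul_mem (hconj z hz) (inv_mem hz)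
    obtain ⟨j, hj⟩ := hZq ⟨g, hgZ⟩
    have h2 := Nat.dvd_gcd (orderOf_dvd_of_pow_eq_one h1)
      (orderOf_dvd_of_pow_eq_one (show g ^ q ^ j = 1 from congrArg Subtype.val hj))
    rw [Nat.Coprime.gcd_eq_one (((Nat.coprime_primes hp Fact.out).2 hqp.symm).pow_right j),
      Nat.dvd_one, orderOf_eq_one_iff] at h2
    exact h2
  have hIT : I ≤ normalizer (T : Set G) := hIZ.trans (hZa.trans hTn)
  have hmemK : ∀ g ∈ T ⊔ I, ∃ w ∈ T, ∃ i ∈ I, w * i = g := by
    intro g hg
    have h := Subgroup.coe_mul_of_right_le_normalizer_left T I hIT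
    have hg' : g ∈ (↑(T ⊔ I) : Set G) := hg
    rw [h] at hg'
    exact Set.mem_mul.1 hg'
  have hyI : cj y I = I := by
    refine cj_eq_of_le (cj_le_iff.2 ?_) le_rfl
    rintro _ ⟨z, hz, rfl⟩
    exact ⟨y * z * y⁻¹, hconj z hz, by group⟩
  have hyK : y ∈ normalizer ((T ⊔ I : Subgroup G) : Set G) := by
    refine mem_norm_iff.2 ?_
    show Subgroup.map _ _ = _
    rw [Subgroup.map_sup]
    exact congrArg₂ (· ⊔ ·) (mem_norm_iff.1 (hTn hya)) hyI
  have hTI : Disjoint T I :=
    IsPGroup.disjoint_of_ne (p₁ := 2) (p₂ := q) hq2.symm _ _ hT (hZq.to_le hIZ)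
  have hTfix : ∀ w ∈ T, Commute y w → w = 1 := by
    intro w hw hc
    have hwa : w • a = a := twoPart_le _ hw
    have h1 : y • (w • b) = w • b := by
      have hyb : y • b = b := hyb'
      rw [smul_smul, hc.eq, mul_smul, hyb]
    rcases hfix _ h1 with h | h
    · exact absurd (MulAction.injective w (hwa.trans h.symm)) hab
    · obtain ⟨j, hj⟩ := hT ⟨w, hw⟩
      exact orderOf_eq_one_iff.1 (Nat.dvd_one.1 (by
        have h2 := Nat.dvd_gcd (orderOf_dvd_of_pow_eq_one
            (show w ^ 2 ^ j = 1 from congrArg Subtype.val hj))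
          (Subgroup.orderOf_dvd_natCard _ (show w ∈ st a ⊓ st b from ⟨hwa, h⟩))
        rwa [Nat.Coprime.gcd_eq_one
          ((Nat.coprime_two_left.2 (odd_pair hH.se hab)).pow_left j)] at h2))
  let c : MulAut (T ⊔ I : Subgroup G) := (T ⊔ I).normalizerMonoidHom ⟨y, hyK⟩
  haveI hnil : Group.IsNilpotent (T ⊔ I : Subgroup G) := by
    refine ThompsonNil.isNilpotent hp c ?_ fun g hg => ?_
    · show (T ⊔ I).normalizerMonoidHom ⟨y, hyK⟩ ^ p = 1
      rw [← map_pow, show (⟨y, hyK⟩ : normalizer ((T ⊔ I : Subgroup G) : Set G)) ^ p = 1 from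
        Subtype.ext (by rw [SubmonoidClass.coe_pow, ← hy, pow_orderOf_eq_one]; rfl), map_one]
    · have h1 : y * (g : G) * y⁻¹ = g := congrArg Subtype.val hg
      obtain ⟨w, hw, i, hi, hwi⟩ := hmemK g g.2
      have hw' : y * w * y⁻¹ ∈ T := (mem_normalizer_iff.1 (hTn hya) w).1 hw
      have hi' : y * i * y⁻¹ ∈ I := hyI ▸ ⟨i, hi, rfl⟩
      have h2 : (y * w * y⁻¹) * (y * i * y⁻¹) = w * i := by
        rw [hwi, ← h1, ← hwi]; group
      have hinj := Subgroup.mul_injective_of_disjoint hTI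
        (a₁ := (⟨_, hw'⟩, ⟨_, hi'⟩)) (a₂ := (⟨w, hw⟩, ⟨i, hi⟩)) h2
      have hw1 := hTfix w hw (mul_inv_eq_iff_eq_mul.1 (congrArg (fun x => (x.1 : G)) hinj))
      have hi1 := hIfix i hi (mul_inv_eq_iff_eq_mul.1 (congrArg (fun x => (x.2 : G)) hinj))
      exact Subtype.ext (by rw [← hwi, hw1, hi1, one_mul]; rfl)
  intro z hz
  have hgI : y * z * y⁻¹ * z⁻¹ ∈ I := ⟨z, hz, rfl⟩
  set K := T ⊔ I with hK
  have hgC : y * z * y⁻¹ * z⁻¹ ∈ centralizer (T : Set G) := by
    refine mem_centralizer_iff.2 fun w hw => ?_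
    haveI : (T.subgroupOf K).Normal :=
      (normal_subgroupOf_iff_le_normalizer le_sup_left).2 (sup_le le_normalizer hIT)
    obtain ⟨S, hS⟩ := (((hZq.to_le hIZ).comap_subtype :
      IsPGroup q (I.subgroupOf K))).exists_le_sylow
    haveI : (S : Subgroup K).Characteristic := Sylow.characteristic_of_normal S inferInstance
    have hd : Disjoint (T.subgroupOf K) (S : Subgroup K) :=
      IsPGroup.disjoint_of_ne (p₁ := 2) (p₂ := q) hq2.symm _ _ hT.comap_subtype S.isPGroup'
    exact congrArg Subtype.val (Subgroup.commute_of_normal_of_disjoint _ _ inferInstance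
      inferInstance hd (⟨w, le_sup_left (a := T) hw⟩ : K) ⟨_, le_sup_right (a := T) hgI⟩
      (mem_subgroupOf.2 hw) (hS (mem_subgroupOf.2 hgI))).eq
  have hodd : Odd (orderOf (y * z * y⁻¹ * z⁻¹)) := by
    obtain ⟨j, hj⟩ := hZq ⟨_, hIZ hgI⟩
    exact (((Fact.out : q.Prime).odd_of_ne_two hq2).pow).of_dvd_nat
      (orderOf_dvd_of_pow_eq_one (congrArg Subtype.val hj))
  have h1 := hH.eq_one_of_centralizes_twoPart (hZa (hIZ hgI)) hgC hodd
  rw [mul_inv_eq_one, mul_inv_eq_iff_eq_mul] at h1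
  exact h1

/-- If the 2-elements at a point generate a 2-group, it is transitive on the other points. -/
theorem Hyp.trans_twoPart (hH : Hyp H) (ih : ShapeBelow.{u} (Nat.card G)) {a b : G ⧸ H}
    (hab : a ≠ b) (hT : IsPGroup 2 (twoPart (st a))) :
    ∀ c : G ⧸ H, c ≠ a → ∃ w ∈ twoPart (st a), w • b = c := by
  haveI : Fact (Nat.Prime 2) := ⟨Nat.prime_two⟩
  set T := twoPart (st a) with hTdef
  have hTa : T ≤ st a := twoPart_le _
  have hTn : st a ≤ normalizer (T : Set G) := le_normalizer_twoPart le_normalizer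
  have hinvT : ∀ t : G, orderOf t = 2 → t • a = a → t ∈ T := fun t ht hta =>
    mem_twoPart hta ⟨1, by rw [pow_one, sq, Invol.mul_self_eq_one ht]⟩
  have hD := transOdd_pair hH.se hab
  have hTV : ∀ w ∈ T, ∀ t : G, orderOf t = 2 → t • a = a → Commute w t := by
    intro w hw t ht hta
    haveI : Nontrivial T := ⟨⟨⟨t, hinvT t ht hta⟩, 1, fun h => by
      rw [show t = 1 from congrArg Subtype.val h, orderOf_one] at ht
      exact absurd ht (by decide)⟩⟩
    haveI := hT.center_nontrivial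
    obtain ⟨l, hl⟩ := IsPGroup.iff_card.1 (hT.to_subgroup (center T))
    have hdvd : 2 ∣ Nat.card (center T) := by
      rcases l with _ | l
      · rw [pow_zero] at hl
        exact absurd hl (ne_of_gt Finite.one_lt_card)
      · exact hl ▸ dvd_pow_self 2 (Nat.succ_ne_zero l)
    obtain ⟨z, hz⟩ := exists_prime_orderOf_dvd_card' 2 hdvd
    obtain ⟨d, hd, hdz⟩ := hD.2.2 ((z : T) : G) t (hTa (z : T).2)
      (by rw [Subgroup.orderOf_coe, Subgroup.orderOf_coe, hz]) hta ht
    have hw' : d⁻¹ * w * d ∈ T := by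
      simpa using (mem_normalizer_iff.1 (inv_mem (hTn hd.1)) w).1 hw
    have hc : Commute (d⁻¹ * w * d) ((z : T) : G) :=
      congrArg Subtype.val (mem_center_iff.1 z.2 ⟨_, hw'⟩)
    rw [← hdz, Commute, SemiconjBy]
    calc w * (d * ((z : T) : G) * d⁻¹) = d * ((d⁻¹ * w * d) * ((z : T) : G)) * d⁻¹ := by group
      _ = d * (((z : T) : G) * (d⁻¹ * w * d)) * d⁻¹ := by rw [hc.eq]
      _ = d * ((z : T) : G) * d⁻¹ * w := by group
  haveI hTN : (T.subgroupOf (st a)).Normal := (normal_subgroupOf_iff_le_normalizer hTa).2 hTn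
  set π := QuotientGroup.mk' (T.subgroupOf (st a)) with hπ
  have hQodd : Odd (Nat.card (st a ⧸ T.subgroupOf (st a))) :=
    odd_card_quotient _ fun g ⟨i, hi⟩ =>
      mem_subgroupOf.2 (mem_twoPart g.2 ⟨i, congrArg Subtype.val hi⟩)
  rcases subsingleton_or_nontrivial (st a ⧸ T.subgroupOf (st a)) with hsub | hnt
  · intro c hc
    obtain ⟨g, hga, hgb⟩ := hH.exists_move hab hc.symm
    exact ⟨g, mem_subgroupOf.1 ((QuotientGroup.eq_one_iff (⟨g, hga⟩ : st a)).1
      (Subsingleton.elim _ _)), hgb⟩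
  haveI hsol : Group.IsSolvable (st a ⧸ T.subgroupOf (st a)) := Cfsg.Agent.S0205.result hQodd
  obtain ⟨q, hq, hq1⟩ := CfsgLib.Turull.exists_pCore_ne_bot hsol
  haveI : Fact q.Prime := ⟨hq⟩
  set O := Cfsg.pCore q (st a ⧸ T.subgroupOf (st a))
  haveI hOn : O.Normal := CfsgLib.Solvable.pCore_normal q
  have hOp : IsPGroup q O := CfsgLib.Solvable.isPGroup_pCore q
  haveI := hOp.isNilpotent
  haveI := (nontrivial_iff_ne_bot O).2 hq1
  set U := (center O).map O.subtype with hUdef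
  haveI hUn : U.Normal := ConjAct.normal_of_characteristic_of_normal
  have hU1 : U ≠ ⊥ := by
    rw [Ne, hUdef, map_eq_bot_iff_of_injective _ O.subtype_injective]
    exact Group.IsNilpotent.center_ne_bot O
  have hUq : IsPGroup q U := (hOp.to_subgroup _).map _
  have hUab : ∀ x ∈ U, ∀ y ∈ U, x * y = y * x := by
    rintro _ ⟨x, hx, rfl⟩ _ ⟨y, hy, rfl⟩
    rw [← map_mul, ← map_mul, mem_center_iff.1 hy x]
  obtain ⟨k, hk⟩ := IsPGroup.iff_card.1 hUq
  have hk0 : k ≠ 0 := by
    rintro rfl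
    exact hU1 (card_eq_one.1 (by rw [hk, pow_zero]))
  have hq2 : q ≠ 2 := by
    rintro rfl
    refine absurd (hQodd.of_dvd_nat (card_subgroup_dvd_card U)) ?_
    rw [hk]
    exact Nat.not_odd_iff_even.2 (even_two.pow_of_ne_zero hk0)
  set M := (U.comap π).map (st a).subtype with hMdef
  have hMa : M ≤ st a := map_subtype_le _
  have hMn : st a ≤ normalizer (M : Set G) := fun g hg => by
    refine mem_norm_iff.2 (cj_eq_of_le (cj_le_iff.2 ?_) le_rfl)
    rintro _ ⟨x, hx, rfl⟩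
    exact ⟨⟨g, hg⟩ * x * ⟨g, hg⟩⁻¹, (inferInstance : (U.comap π).Normal).conj_mem x hx _, rfl⟩
  have hTM : T ≤ M := fun w hw => ⟨⟨w, hTa hw⟩, by
    show π _ ∈ U
    rw [hπ, QuotientGroup.mk'_apply, (QuotientGroup.eq_one_iff _).2 (mem_subgroupOf.2 hw)]
    exact one_mem U, rfl⟩
  have hMcard : Nat.card M = Nat.card T * q ^ k := by
    rw [hMdef, card_map_of_injective (st a).subtype_injective, ← hk,
      ← Nat.card_congr (subgroupOfEquivOfLe hTa).toEquiv]
    exact (Nat.card_congr (QuotientGroup.preimageMkEquivSubgroupProdSet _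
      (U : Set (st a ⧸ T.subgroupOf (st a))))).trans
      (Nat.card_prod _ _)
  obtain ⟨l, hl⟩ := IsPGroup.iff_card.1 hT
  obtain ⟨p, y, hp, -, hyp, hyD, -, hfix⟩ := hH.exists_two_fix hab
  haveI : Fact p.Prime := ⟨hp⟩
  have hTdis : ∀ Z : Subgroup G, IsPGroup q Z → Disjoint T Z := fun Z hZ =>
    IsPGroup.disjoint_of_ne (p₁ := 2) (p₂ := q) hq2.symm _ _ hT hZ
  have hZab : ∀ Z : Subgroup G, Z ≤ M → IsPGroup q Z → ∀ z ∈ Z, ∀ z' ∈ Z, z * z' = z' * z := by
    intro Z hZM hZ z hz z' hz'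
    obtain ⟨x, hx, rfl⟩ := hZM hz
    obtain ⟨x', hx', rfl⟩ := hZM hz'
    have h1 : π (x * x' * (x' * x)⁻¹) = 1 := by
      rw [map_mul, map_inv, map_mul, map_mul, hUab _ hx _ hx', mul_inv_cancel]
    have h2 : (x : G) * x' * ((x' : G) * x)⁻¹ ∈ T := by
      simpa using mem_subgroupOf.1 ((QuotientGroup.eq_one_iff _).1 h1)
    exact mul_inv_eq_one.1 ((Subgroup.disjoint_def.1 (hTdis Z hZ)) h2
      (mul_mem (mul_mem hz hz') (inv_mem (mul_mem hz' hz))))
  -- a Sylow subgroup of `M` for the prime `q` fixing `b`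
  obtain ⟨Z, hZ, hZb⟩ : ∃ Z : Subgroup G, Syl q M Z ∧ Z ≤ st b := by
    by_cases hqp : q = p
    · subst hqp
      obtain ⟨P, hyP, hP⟩ := exists_syl (r := q) (zpowers_le.2 hyD)
        (IsPGroup.of_card (n := 1) (by rw [Nat.card_zpowers, hyp, pow_one]) : IsPGroup q (zpowers y))
      have hPa : Syl q (st a) P := by
        obtain ⟨P', hPP', hP'⟩ := exists_syl (r := q) (hP.1.trans inf_le_left) hP.2.1
        rcases hPP'.lt_or_eq with hlt | heq
        · exfalso
          obtain ⟨R, hPR, hRP', hRN⟩ := exists_between hlt hP'.2.1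
          have hRD : R ≤ st a ⊓ st b := fun g hg => by
            have hga : g • a = a := (hRP'.trans hP'.1) hg
            have h1 : y • (g • b) = g • b :=
              le_st_smul_of_norm (hRN hg) (hP.1.trans inf_le_right) (hyP (mem_zpowers y))
            rcases hfix _ h1 with h | h
            · exact absurd (MulAction.injective g (hga.trans h.symm)) hab
            · exact ⟨hga, h⟩
          exact (hP.2.2 R hRD (hP'.2.1.to_le hRP')).not_gt
            (lt_of_not_ge fun hge => hPR.ne (eq_of_le_of_card_ge hPR.le hge))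
        · exact heq ▸ hP'
      obtain ⟨Z₀, -, hZ₀⟩ := exists_syl (r := q) (bot_le (a := M)) IsPGroup.of_bot
      obtain ⟨d, hd, hdZ⟩ := syl_conj hPa (hZ₀.1.trans hMa) hZ₀.2.1
      exact ⟨cj d Z₀, ⟨(cj_mono d hZ₀.1).trans (mem_norm_iff.1 (hMn hd)).le, hZ₀.2.1.map _,
        fun R hR hRp => by rw [card_cj]; exact hZ₀.2.2 R hR hRp⟩,
        hdZ.trans (hP.1.trans inf_le_right)⟩
    · have hyM : zpowers y ≤ normalizer (M : Set G) := zpowers_le.2 (hMn hyD.1)
      have hp2 : p ≠ 2 := fun h => by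
        have := (odd_pair hH.se hab).of_dvd_nat (Subgroup.orderOf_dvd_natCard _ hyD)
        rw [hyp, h] at this
        exact absurd this (by decide)
      have hcop : (Nat.card (zpowers y)).Coprime (Nat.card M) := by
        rw [Nat.card_zpowers, hyp, hMcard, hl]
        exact Nat.Coprime.mul_right (((Nat.coprime_primes hp Nat.prime_two).2 hp2).pow_right l)
          (((Nat.coprime_primes hp hq).2 fun h => hqp h.symm).pow_right k)
      obtain ⟨P, hP⟩ := CfsgLib.CoprimeAct.exists_invariant_sylow hyM hcop (Or.inl inferInstance) q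
      set Z := (P : Subgroup M).map M.subtype with hZdef
      have hZ : Syl q M Z := ⟨map_subtype_le _, P.isPGroup'.map _, fun R hR hRp => by
        obtain ⟨P', hP'⟩ := (hRp.comap_subtype : IsPGroup q (R.subgroupOf M)).exists_le_sylow
        rw [← Nat.card_congr (subgroupOfEquivOfLe hR).toEquiv, hZdef,
          card_map_of_injective M.subtype_injective]
        exact (card_le_of_le hP').trans_eq (by rw [P'.card_eq_multiplicity, P.card_eq_multiplicity])⟩
      refine ⟨Z, hZ, fun z hz => ?_⟩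
      have hc := hH.commute_of_two_fix hab hp hqp hq2 hT hyp hyD.1 hyD.2 hfix (hZ.1.trans hMa) hZ.2.1
        (hZab Z hZ.1 hZ.2.1) (hP (mem_zpowers y)) z hz
      have h1 : y • (z • b) = z • b := by
        rw [smul_smul, hc.eq, mul_smul, show y • b = b from hyD.2]
      rcases hfix _ h1 with h | h
      · exact absurd (MulAction.injective z ((show z • a = a from hMa (hZ.1 hz)).trans h.symm)) hab
      · exact h
  have hZa : Z ≤ st a := hZ.1.trans hMa
  obtain ⟨j, hj⟩ := IsPGroup.iff_card.1 hZ.2.1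
  have hjk : j = k := by
    have hdvd : Nat.card Z * Z.relIndex M = Nat.card M := by
      rw [← relIndex_bot_left Z, ← relIndex_bot_left M]
      exact relIndex_mul_relIndex ⊥ Z M bot_le hZ.1
    have h2 : ¬ q ∣ 2 := fun h => hq2 ((Nat.prime_dvd_prime_iff_eq hq Nat.prime_two).1 h)
    have h1 := congrArg (fun n => n.factorization q) hdvd
    rw [hMcard, hj, hl, Nat.factorization_mul (pow_ne_zero _ hq.ne_zero)
      (right_ne_zero_of_mul (hdvd.trans_ne Nat.card_pos.ne')),
      Nat.factorization_mul (pow_ne_zero _ two_ne_zero) (pow_ne_zero _ hq.ne_zero)] at h1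
    simpa [Nat.factorization_eq_zero_of_not_dvd (syl_not_dvd hZ),
      Nat.factorization_eq_zero_of_not_dvd h2, hq.factorization_self] using h1
  have hne : Z ≠ ⊥ := fun h => hk0 (by
    have h' := hj
    rw [h, card_bot, eq_comm, Nat.pow_eq_one] at h'
    exact hjk ▸ h'.resolve_left hq.one_lt.ne')
  have hTZ : ∀ m ∈ M, ∃ w ∈ T, ∃ z ∈ Z, w * z = m := by
    intro m hm
    let f : T × Z → M := fun wz => ⟨wz.1.1 * wz.2.1, mul_mem (hTM wz.1.2) (hZ.1 wz.2.2)⟩
    have hf : Function.Injective f := fun x y h =>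
      Subgroup.mul_injective_of_disjoint (hTdis Z hZ.2.1) (congrArg Subtype.val h)
    have hb : Function.Bijective f := (Nat.bijective_iff_injective_and_card f).2
      ⟨hf, by rw [Nat.card_prod, hj, hjk, hMcard]⟩
    obtain ⟨⟨w, z⟩, hwz⟩ := hb.2 ⟨m, hm⟩
    exact ⟨w, w.2, z, z.2, congrArg Subtype.val hwz⟩
  have hfrat : ∀ g ∈ st a, ∃ w ∈ T, ∃ n ∈ st a, n ∈ normalizer (Z : Set G) ∧ w * n = g := by
    intro g hg
    obtain ⟨m, hm, hmZ⟩ := syl_conj hZ
      (show cj g Z ≤ M from (cj_mono g hZ.1).trans (mem_norm_iff.1 (hMn hg)).le) (hZ.2.1.map _)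
    rw [cj_cj] at hmZ
    have hn : m * g ∈ normalizer (Z : Set G) := mem_norm_iff.2 (cj_eq_of_le hmZ le_rfl)
    obtain ⟨w, hw, z, hz, hwz⟩ := hTZ m⁻¹ (inv_mem hm)
    exact ⟨w, hw, z * (m * g), mul_mem (hZa hz) (mul_mem (hMa hm) hg),
      mul_mem (le_normalizer hz) hn, by rw [← mul_assoc, hwz, inv_mul_cancel_left]⟩
  -- the normalizer of `Z` moves `b` only inside the orbit of `T`
  have hN : ∀ n ∈ st a, n ∈ normalizer (Z : Set G) → ∃ w ∈ T, w • b = n • b := by
    intro n hn hnZ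
    have hnb : Z ≤ st (n • b) := le_st_smul_of_norm hnZ hZb
    have hnba : n • b ≠ a := fun h =>
      hab (MulAction.injective n ((show n • a = a from hn).trans h.symm))
    by_cases hc : Centre Z a
    · obtain ⟨t, ht, hta, htZ⟩ := hc
      have hZV : Z ≤ centralizer (vee hH.comm a : Set G) := fun z hz => by
        refine mem_centralizer_iff.2 fun v hv => ?_
        by_cases hv1 : v = 1
        · rw [hv1, one_mul, mul_one]
        obtain ⟨d, hd, hdt⟩ := hD.2.2 t v hta ht hv.2 (Invol.orderOf_eq_two hv.1 hv1)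
        obtain ⟨w, hw, m, hm, hmZ, hwm⟩ := hfrat d hd.1
        have hmt : orderOf (m * t * m⁻¹) = 2 := by rw [Invol.orderOf_conj_eq, ht]
        have hma : (m * t * m⁻¹) • a = a := by
          rw [mul_smul, mul_smul, inv_smul_eq_iff.2 (show m • a = a from hm).symm, hta]
          exact hm
        have hvm : v = m * t * m⁻¹ := by
          rw [← hdt, ← hwm]
          calc w * m * t * (w * m)⁻¹ = w * (m * t * m⁻¹) * w⁻¹ := by group
            _ = m * t * m⁻¹ := by rw [(hTV w hw _ hmt hma).eq, mul_inv_cancel_right]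
        have hz' : m⁻¹ * z * m ∈ Z := by
          simpa using (mem_normalizer_iff.1 (inv_mem hmZ) z).1 hz
        rw [hvm]
        calc m * t * m⁻¹ * z = m * (t * (m⁻¹ * z * m)) * m⁻¹ := by group
          _ = m * ((m⁻¹ * z * m) * t) * m⁻¹ := by rw [← mem_centralizer_iff.1 htZ _ hz']
          _ = z * (m * t * m⁻¹) := by group
      obtain ⟨T₀, hT₀, hT₀le, htr, -, -⟩ :=
        hH.two_elements ih hZ.2.1 hne hab hZa hZb (hH.pairAt_of_le hZV)
      obtain ⟨w, hw, hwb⟩ := htr _ hnb hnba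
      exact ⟨w, le_twoPart_of_isPGroup hT₀ (hT₀le.trans inf_le_right) hw, hwb⟩
    · exact ⟨1, one_mem _, by
        rw [one_smul, (hH.fix_two hZ.2.1 hne hab hZa hZb hc _ hnb).resolve_left hnba]⟩
  intro c hc
  obtain ⟨g, hga, hgb⟩ := hH.exists_move hab hc.symm
  obtain ⟨w, hw, n, hn, hnZ, hwn⟩ := hfrat g hga
  obtain ⟨w', hw', hw'b⟩ := hN n hn hnZ
  exact ⟨w * w', mul_mem hw hw', by rw [mul_smul, hw'b, ← mul_smul, hwn, hgb]⟩

/-- The end of the commuting branch. -/
theorem Hyp.shape_of_twoPart (hH : Hyp H) (ih : ShapeBelow.{u} (Nat.card G)) {a b : G ⧸ H}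
    (hab : a ≠ b) (h : IsPGroup 2 (twoPart (st a))) : Shape H := by
  obtain ⟨g, hg⟩ := exists_smul a (QuotientGroup.mk 1 : G ⧸ H)
  have hst : cj g (st a) = H := by rw [← st_smul, hg, st_one]
  refine ⟨cj g (twoPart (st a)), (cj_mono g (twoPart_le _)).trans hst.le, fun x hx => ?_,
    h.map _, fun g₁ g₂ h₁ h₂ => ?_⟩
  · rw [← hst, mem_cj] at hx
    refine mem_norm_iff.2 ?_
    have h1 := mem_norm_iff.1 (le_normalizer_twoPart le_normalizer hx :
      g⁻¹ * x * g ∈ normalizer (twoPart (st a) : Set G))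
    conv_rhs => rw [← h1]
    rw [cj_cj, cj_cj]
    congr 1
    group
  · have hne : ∀ k : G, k ∉ H → g⁻¹ • (QuotientGroup.mk k : G ⧸ H) ≠ a := fun k hk hka => hk (by
      rw [inv_smul_eq_iff, hg] at hka
      simpa using QuotientGroup.eq.1 hka.symm)
    obtain ⟨w₁, hw₁, e₁⟩ := hH.trans_twoPart ih hab h _ (hne g₁ h₁)
    obtain ⟨w₂, hw₂, e₂⟩ := hH.trans_twoPart ih hab h _ (hne g₂ h₂)
    refine ⟨g * (w₂ * w₁⁻¹) * g⁻¹, ⟨_, mul_mem hw₂ (inv_mem hw₁), rfl⟩, ?_⟩
    rw [← QuotientGroup.eq]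
    show (QuotientGroup.mk g₂ : G ⧸ H) = (g * (w₂ * w₁⁻¹) * g⁻¹) • QuotientGroup.mk g₁
    rw [mul_smul, mul_smul, mul_smul, inv_smul_eq_iff.2 e₁.symm, e₂, smul_inv_smul]

end CfsgLib.Bender.Commuting
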