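import Cfsg.Agent.Bender.Commuting.Kernel

/-!
Bender's theorem, commuting branch: if a nontrivial element fixing two points centralizes all
involutions at one of them, so do all elements of 2-power order there.
-/

set_option autoImplicit false
set_option linter.unusedSectionVars false
set_option linter.style.haveILetI false
set_option maxHeartbeats 1000000

namespace CfsgLib.Bender.Commuting

open Subgroup
open CfsgLib.Bender.GSide
open CfsgLib.Bender.Core.CSix (vee invol_mem_vee st_le_normalizer_vee)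

universe u

variable {G : Type u} [Group G] [Finite G] {H : Subgroup G}

/-- The elements of 2-power order at a point centralize the involutions there, if some nontrivial
element fixing a second point does. -/
theorem Hyp.factor (hH : Hyp H) (ih : ShapeBelow.{u} (Nat.card G)) {a b : G ⧸ H} (hab : a ≠ b)
    (hX : st a ⊓ st b ⊓ centralizer (vee hH.comm a : Set G) ≠ ⊥) :
    ∀ w ∈ st a, (∃ i : ℕ, w ^ 2 ^ i = 1) → w ∈ centralizer (vee hH.comm a : Set G) := by
  classical
  set C := st a ⊓ centralizer (vee hH.comm a : Set G) with hC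
  set X := st a ⊓ st b ⊓ centralizer (vee hH.comm a : Set G) with hXdef
  have hXC : X ≤ C := le_inf (inf_le_left.trans inf_le_left) inf_le_right
  have hXab : X ≤ st a ⊓ st b := inf_le_left
  have hCn : st a ≤ normalizer (C : Set G) := by
    intro g hg
    refine mem_norm_iff.2 (cj_eq_of_le (cj_le_iff.2 fun l hl => ?_) le_rfl)
    refine mem_inf.2 ⟨mul_mem (mul_mem hg (mem_inf.1 hl).1) (inv_mem hg),
      mem_centralizer_iff.2 fun v hv => ?_⟩
    have hv' := (mem_normalizer_iff.1 (inv_mem (st_le_normalizer_vee hH.comm a hg)) v).1 hv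
    rw [inv_inv] at hv'
    calc v * (g * l * g⁻¹) = g * (g⁻¹ * v * g * l) * g⁻¹ := by group
      _ = g * (l * (g⁻¹ * v * g)) * g⁻¹ := by rw [mem_centralizer_iff.1 (mem_inf.1 hl).2 _ hv']
      _ = g * l * g⁻¹ * v := by group
  -- a Sylow subgroup of `X`
  obtain ⟨q, hq, hqX⟩ := Nat.exists_prime_and_dvd fun h => hX (card_eq_one.1 h)
  haveI : Fact q.Prime := ⟨hq⟩
  obtain ⟨Q₁⟩ : Nonempty (Sylow q X) := inferInstance
  set Q : Subgroup G := (Q₁ : Subgroup X).map X.subtype with hQdef
  have hQX : Q ≤ X := map_subtype_le _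
  have hQ : IsPGroup q Q := Q₁.2.map _
  have hQc : Nat.card Q = q ^ (Nat.card X).factorization q :=
    (card_map_of_injective X.subtype_injective).trans Q₁.card_eq_multiplicity
  have hne : Q ≠ ⊥ := fun h => by
    rw [h, Subgroup.card_bot] at hQc
    have h1 := hq.factorization_pos_of_dvd Nat.card_pos.ne' hqX
    exact absurd ((Nat.pow_eq_one).1 hQc.symm) (by simp [hq.ne_one]; omega)
  have hQa : Q ≤ st a := hQX.trans (hXab.trans inf_le_left)
  have hQb : Q ≤ st b := hQX.trans (hXab.trans inf_le_right)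
  have hqodd : Odd q := hH.odd_prime hQ hne hab hQa hQb
  obtain ⟨T₀, hT2, hTle, htr, -, hcomm⟩ :=
    hH.two_elements ih hQ hne hab hQa hQb (hH.pairAt_of_le (hQX.trans inf_le_right))
  have hTC : T₀ ≤ twoPart C := by
    refine le_twoPart_of_isPGroup hT2 fun w hw => ⟨(mem_inf.1 (hTle hw)).2, mem_centralizer_iff.2 fun v hv => ?_⟩
    by_cases hv1 : v = 1
    · rw [hv1, one_mul, mul_one]
    · refine (hcomm w hw v (Invol.orderOf_eq_two hv.1 hv1) hv.2
        (mem_centralizer_iff.2 fun x hx => ?_)).eq.symm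
      exact (mem_centralizer_iff.1 (mem_inf.1 (hQX hx)).2 v hv).symm
  have hK2 := hH.kernel_two ih hab
  rw [← hC] at hK2
  -- the normalizer of `Q` at `a`
  have hdec : ∀ h ∈ st a, h ∈ normalizer (Q : Set G) → ∃ w ∈ T₀, w⁻¹ * h ∈ st a ⊓ st b := by
    intro h ha hn
    have hne' : h • b ≠ a := fun e => hab (MulAction.injective h ((show h • a = a from ha).trans e.symm))
    obtain ⟨w, hw, hwb⟩ := htr (h • b) (le_st_smul_of_norm hn hQb) hne'
    exact ⟨w, hw, mem_inf.2 ⟨mul_mem (inv_mem (mem_inf.1 (hTle hw)).2) ha,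
      show (w⁻¹ * h) • b = b by rw [mul_smul, ← hwb, inv_smul_smul]⟩⟩
  -- `Q` is a Sylow subgroup of `C`
  have hQC : ∀ R : Subgroup G, IsPGroup q R → Q ≤ R → R ≤ C → R = Q := by
    intro R hR hQR hRC
    by_contra hne'
    haveI : Group.IsNilpotent R := hR.isNilpotent
    have hlt : Q.subgroupOf R < ⊤ := lt_top_iff_ne_top.2 fun h =>
      hne' (le_antisymm (subgroupOf_eq_top.1 h) hQR)
    obtain ⟨y, hyn, hyQ⟩ := SetLike.exists_of_lt
      (Group.normalizerCondition_of_isNilpotent (Q.subgroupOf R) hlt)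
    have hyn' : (y : G) ∈ normalizer (Q : Set G) := by
      refine mem_normalizer_fintype fun x hx => ?_
      exact mem_subgroupOf.1 ((mem_normalizer_iff.1 hyn ⟨x, hQR hx⟩).1 hx)
    set R' : Subgroup G := Q ⊔ zpowers (y : G) with hR'
    have hR'R : R' ≤ R := sup_le hQR (zpowers_le.2 y.2)
    have hR'n : R' ≤ normalizer (Q : Set G) := sup_le le_normalizer (zpowers_le.2 hyn')
    have hR'q : IsPGroup q R' := hR.to_le hR'R
    -- `R'` embeds into `(X ⊓ N(Q))` modulo the normal 2-group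
    have hTn : st a ≤ normalizer (twoPart C : Set G) := le_normalizer_twoPart hCn
    have hsub : R' ≤ twoPart C ⊔ X := by
      intro r hr
      obtain ⟨w, hw, hd⟩ := hdec r (mem_inf.1 (hRC (hR'R hr))).1 (hR'n hr)
      rw [← mul_inv_cancel_left w r]
      refine Subgroup.mul_mem_sup (hTC hw) (mem_inf.2 ⟨hd, ?_⟩)
      exact mul_mem (inv_mem (mem_inf.1 (twoPart_le C (hTC hw))).2) (mem_inf.1 (hRC (hR'R hr))).2
    have hXn : X ≤ normalizer (twoPart C : Set G) := (hXab.trans inf_le_left).trans hTn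
    have hd := Solvable.card_sup_mul_card_inf hXn
    have h1 : Nat.card R' ∣ Nat.card X * Nat.card (twoPart C) :=
      (card_dvd_of_le (hsub.trans_eq (sup_comm _ _))).trans (hd ▸ dvd_mul_right _ _)
    obtain ⟨l, hl⟩ := IsPGroup.iff_card.1 hR'q
    obtain ⟨m, hm⟩ := IsPGroup.iff_card.1 hK2
    have hcop : Nat.Coprime (q ^ l) (2 ^ m) :=
      ((Nat.coprime_two_right.2 hqodd).pow l m)
    rw [hl, hm] at h1
    have hlQ : Nat.card R' ≤ Nat.card Q := by
      rw [hl, hQc]
      exact Nat.pow_le_pow_right hq.pos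
        ((hq.pow_dvd_iff_le_factorization Nat.card_pos.ne').1 (hcop.dvd_of_dvd_mul_right h1))
    have := eq_of_le_of_card_ge (le_sup_left : Q ≤ R') hlQ
    exact hyQ (mem_subgroupOf.2 (this.ge (mem_sup_right (mem_zpowers (y : G)))))
  -- Frattini
  haveI hCn' : (C.subgroupOf (st a)).Normal :=
    (normal_subgroupOf_iff_le_normalizer inf_le_left).2 hCn
  set π := QuotientGroup.mk' (C.subgroupOf (st a))
  have hQle : Q.subgroupOf (st a) ≤ C.subgroupOf (st a) := comap_mono (hQX.trans hXC)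
  let QC : Sylow q ↥(C.subgroupOf (st a)) :=
    { toSubgroup := (Q.subgroupOf (st a)).subgroupOf (C.subgroupOf (st a))
      isPGroup' := ((hQ.comap_of_injective _ (st a).subtype_injective)).comap_of_injective _
        (C.subgroupOf (st a)).subtype_injective
      is_maximal' := fun {R} hR hle => by
        set R₀ := (R.map (C.subgroupOf (st a)).subtype).map (st a).subtype
        have h1 : R₀ = Q := by
          refine hQC R₀ ((hR.map _).map _) (fun x hx => ?_) ?_
          · exact ⟨⟨x, hQa hx⟩, ⟨⟨⟨x, hQa hx⟩, hXC (hQX hx)⟩, hle hx, rfl⟩, rfl⟩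
          · rintro _ ⟨_, ⟨r, hr, rfl⟩, rfl⟩
            exact r.2
        refine le_antisymm (fun r hr => ?_) hle
        exact (h1.le ⟨_, ⟨r, hr, rfl⟩, rfl⟩ : (r : G) ∈ Q) }
  have hfr := Sylow.normalizer_sup_eq_top QC
  have hQmap : (QC : Subgroup _).map (C.subgroupOf (st a)).subtype = Q.subgroupOf (st a) := by
    show (((Q.subgroupOf (st a)).subgroupOf (C.subgroupOf (st a)))).map _ = _
    rw [subgroupOf_map_subtype, inf_eq_left.2 hQle]
  rw [hQmap] at hfr
  intro w hw hi
  obtain ⟨i, hi⟩ := hi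
  obtain ⟨n, hn, c, hc, hnc⟩ := Subgroup.mem_sup_of_normal_right.1 (hfr.ge (mem_top (⟨w, hw⟩ : st a)))
  have hn' : (n : G) ∈ normalizer (Q : Set G) := mem_normalizer_fintype fun x hx =>
    mem_subgroupOf.1 ((mem_normalizer_iff.1 hn ⟨x, hQa hx⟩).1 hx)
  obtain ⟨v, hv, hd⟩ := hdec n n.2 hn'
  set d : st a := ⟨v⁻¹ * n, hd.1⟩ with hddef
  have hwd : π ⟨w, hw⟩ = π d := by
    rw [← hnc, map_mul, show π c = 1 from (QuotientGroup.eq_one_iff c).2 hc, mul_one]
    refine QuotientGroup.eq.2 (mem_subgroupOf.2 ?_)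
    show (n : G)⁻¹ * (v⁻¹ * n) ∈ C
    have h := (mem_normalizer_iff.1 (inv_mem (hCn n.2)) v⁻¹).1
      (inv_mem (twoPart_le C (hTC hv)))
    rw [inv_inv] at h
    rwa [← mul_assoc]
  have hodd : Odd (orderOf (π ⟨w, hw⟩)) := by
    rw [hwd]
    refine (odd_pair hH.se hab).of_dvd_nat ((orderOf_map_dvd π d).trans ?_)
    rw [← Subgroup.orderOf_coe]
    exact Subgroup.orderOf_dvd_natCard _ hd
  have h1 : π ⟨w, hw⟩ = 1 := by
    refine orderOf_eq_one_iff.1 (Nat.eq_one_of_dvd_coprimes
      ((Nat.coprime_two_left.2 hodd).pow_left i) (orderOf_dvd_of_pow_eq_one ?_) dvd_rfl)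
    rw [← map_pow, show (⟨w, hw⟩ : st a) ^ 2 ^ i = 1 from Subtype.ext hi, map_one]
  exact (mem_inf.1 (mem_subgroupOf.1 ((QuotientGroup.eq_one_iff _).1 h1))).2

end CfsgLib.Bender.Commuting
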