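import Cfsg.Agent.Bender.Commuting.ConfigCore
import Cfsg.Agent.Bender.Commuting.Count
import Cfsg.Agent.Bender.Commuting.End
import Cfsg.Agent.Bender.Commuting.Factor

/-!
Bender's theorem, commuting branch: a strongly embedded subgroup with commuting involutions, in a
group with trivial odd core and two commuting involutions, has a normal 2-subgroup transitive on
the other cosets.
-/

set_option autoImplicit false
set_option linter.unusedSectionVars false
set_option linter.style.haveILetI false

namespace CfsgLib.Bender.Commuting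

open Subgroup
open CfsgLib.Bender.GSide

universe u

/-- The commuting branch, by induction on the order of the group. -/
theorem shapeBelow_all : ∀ n : ℕ, ShapeBelow.{u} n := by
  intro n
  induction n using Nat.strong_induction_on with
  | _ n IH =>
  intro X _ _ hcard K hK
  have ih : ShapeBelow.{u} (Nat.card X) := IH _ hcard
  obtain ⟨g, hg⟩ : ∃ g : X, g ∉ K := by
    by_contra h
    push Not at h
    exact hK.se.1 (eq_top_iff.2 fun x _ => h x)
  have hab : (QuotientGroup.mk 1 : X ⧸ K) ≠ QuotientGroup.mk g := fun h => hg (by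
    simpa using QuotientGroup.eq.1 h)
  rcases hK.twoPart_or_bad ih hab with h | h
  · exact hK.shape_of_twoPart ih hab h
  · obtain ⟨s, x, hs, hsm, hxt, hxb, hx1, hxo, hnp⟩ := h
    obtain ⟨k, C, y, v, cfg⟩ := hK.exists_config_of hab (hK.factor ih hab)
      (fun p _ Q hQ hne ha hb hp => hK.two_elements ih hQ hne hab ha hb hp)
      hs hsm hxt hxb hx1 hxo hnp
    exact cfg.false.elim

end CfsgLib.Bender.Commuting

namespace CfsgLib.Bender.Comm

open Subgroup
open CfsgLib.Bender.GSide

universe u

/-- A strongly embedded subgroup of a group with trivial odd core and two commuting involutions,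
whose involutions commute, has a normal 2-subgroup transitive on the other cosets. -/
theorem exists_regular {G : Type u} [Group G] [Finite G] (H : Subgroup G)
    (hH : Cfsg.IsStronglyEmbedded H) (hO : Cfsg.oddCore G = ⊥) (hp : CfsgLib.Bender.PairRank G)
    (hV : ∀ s t : G, s ∈ H → t ∈ H → orderOf s = 2 → orderOf t = 2 → Commute s t) :
    ∃ T : Subgroup G, T ≤ H ∧ (T.subgroupOf H).Normal ∧ IsPGroup 2 T ∧
      ∀ g1 g2 : G, g1 ∉ H → g2 ∉ H → ∃ u ∈ T, g2⁻¹ * (u * g1) ∈ H := by
  have hI : Core.CSix.InvolComm H := by
    intro x s t hs ht hsx htx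
    obtain ⟨g, rfl⟩ := QuotientGroup.mk_surjective x
    have hmem : ∀ w : G, w • (QuotientGroup.mk g : G ⧸ H) = QuotientGroup.mk g →
        g⁻¹ * w * g ∈ H := fun w hw => by
      have h1 : (QuotientGroup.mk (w * g) : G ⧸ H) = QuotientGroup.mk g := hw
      have h2 := QuotientGroup.eq.1 h1.symm
      rwa [← mul_assoc] at h2
    have hc := hV _ _ (hmem s hsx) (hmem t htx)
      (by simpa [hs] using Invol.orderOf_conj_eq g⁻¹ s) (by simpa [ht] using Invol.orderOf_conj_eq g⁻¹ t)
    simpa [mul_assoc] using Core.CSix.conj_commute (g := g) hc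
  obtain ⟨T, hTH, hn, h2, htr⟩ := Commuting.shapeBelow_all (Nat.card G + 1) G (Nat.lt_succ_self _) H
    ⟨hH, hp, hO, hI⟩
  exact ⟨T, hTH, (normal_subgroupOf_iff_le_normalizer hTH).2 hn, h2, htr⟩

end CfsgLib.Bender.Comm
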