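import Cfsg.Agent.Bender.Commuting.Defs
import Cfsg.Prelude.Def_Characters

/-!
Bender's theorem, commuting branch: the configuration left by the transfer arguments (a prime `k`,
a two-point stabilizer which is the semilinear group of degree one over the field of order `2 ^ k`,
a point stabilizer whose action on its involutions is not of odd order) and the class functions
used to refute it.
-/

set_option autoImplicit false
set_option linter.unusedSectionVars false

namespace CfsgLib.Bender.Commuting

open Subgroup
open CfsgLib.Bender.GSide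

universe u

variable {G : Type u} [Group G] [Finite G] {H : Subgroup G}

/-- The configuration refuted by characters. -/
structure Config (H : Subgroup G) (a b : G ⧸ H) (k : ℕ) (C : Subgroup G) (x v : G) : Prop where
  hyp : Hyp H
  ne : a ≠ b
  prime : k.Prime
  odd : Odd k
  card_inv : numInv H + 1 = 2 ^ k
  le : C ≤ st a ⊓ st b
  cyclic : IsCyclic C
  card : Nat.card C = numInv H
  /-- `C` is transitive on the involutions at `a`. -/
  trans : ∀ s t : G, orderOf s = 2 → s • a = a → orderOf t = 2 → t • a = a →
    ∃ c ∈ C, c * s * c⁻¹ = t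
  /-- `C` fixes no involution at `a`. -/
  free : ∀ c ∈ C, c ≠ 1 → ∀ t : G, orderOf t = 2 → t • a = a → ¬ Commute c t
  mem : x ∈ st a ⊓ st b
  order : orderOf x = k
  norm : x ∈ normalizer (C : Set G)
  /-- The two-point stabilizer is `C` extended by `x`. -/
  decomp : ∀ d ∈ st a ⊓ st b, ∃ c ∈ C, ∃ i : ℕ, d = c * x ^ i
  x_fpf : ∀ c ∈ C, Commute x c → c = 1
  /-- `x` centralizes exactly one involution at `a`. -/
  x_one : ∃ t : G, orderOf t = 2 ∧ t • a = a ∧ Commute x t ∧
    ∀ t' : G, orderOf t' = 2 → t' • a = a → Commute x t' → t' = t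
  invol : orderOf v = 2
  swap : v • a = b
  inverts : ∀ c ∈ C, v * c * v⁻¹ = c⁻¹
  commute : Commute v x
  /-- A nontrivial element of `C` fixes only `a` and `b`. -/
  fix_two : ∀ y ∈ C, y ≠ 1 → ∀ c : G ⧸ H, y • c = c → c = a ∨ c = b
  centralizer_eq : ∀ y ∈ C, y ≠ 1 → centralizer ({y} : Set G) = C
  normalizer_le : ∀ g ∈ normalizer (C : Set G), g ∈ st a ⊓ st b ∨ g * v ∈ st a ⊓ st b
  /-- Some 2-element at `a` moves an involution at `a`. -/
  even : ∃ w ∈ st a, (∃ i : ℕ, w ^ 2 ^ i = 1) ∧
    ∃ t : G, orderOf t = 2 ∧ t • a = a ∧ ¬ Commute w t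

/-- The permutation character of a point stabilizer on its involutions, minus one. -/
noncomputable def psi (a : G ⧸ H) : ↥(st a) → ℂ := fun g =>
  (Nat.card {t : G // orderOf t = 2 ∧ t • a = a ∧ Commute (g : G) t} : ℂ) - 1

/-- The induced class function. -/
noncomputable def indPsi [Fintype G] (a : G ⧸ H) : G → ℂ := Cfsg.indFun (st a) (psi a)

/-- The permutation character on the points, minus one. -/
noncomputable def stChar (H : Subgroup G) : G → ℂ := fun g =>
  (Nat.card {c : G ⧸ H // g • c = c} : ℂ) - 1

end CfsgLib.Bender.Commuting
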