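import Cfsg.Agent.Bender.Commuting.Local
import Cfsg.Agent.Bender.CoreV

/-!
Bender's theorem, commuting branch: semilinear coordinates for a two-point stabilizer acting
faithfully on the involutions at one of the points.
-/

set_option autoImplicit false
set_option linter.unusedSectionVars false
set_option linter.style.haveILetI false

namespace CfsgLib.Bender.Commuting

open Subgroup
open CfsgLib.Bender.GSide
open CfsgLib.Bender.Core.CSix (vee mem_vee invol_mem_vee)
open CfsgLib.Bender.Core.CSeven (act act_apply act_eq_one barD act_mem_barD exists_of_mem_barD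
  card_invol_add_one sq_vee)
open CfsgLib.Bender.Semilinear (Lin eq_one_rep frob_eq)
open CfsgLib.Bender.KSix (Rep)

universe u

variable {G : Type u} [Group G] [Finite G] {H : Subgroup G}

/-- Semilinear coordinates: `expo` gives the exponent of the field automorphism. -/
structure Coord (H : Subgroup G) (a b : G ⧸ H) (k : ℕ) where
  expo : G → ℕ
  two_le : 2 ≤ k
  card_inv : numInv H + 1 = 2 ^ k
  /-- The exponent is additive modulo `k`. -/
  expo_mul : ∀ c ∈ st a ⊓ st b, ∀ d ∈ st a ⊓ st b,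
    ((expo (c * d) : ℕ) : ZMod k) = (expo c : ZMod k) + (expo d : ZMod k)
  /-- Elements of exponent zero commute with each other. -/
  comm : ∀ c ∈ st a ⊓ st b, ∀ d ∈ st a ⊓ st b, k ∣ expo c → k ∣ expo d → Commute c d
  /-- Elements of exponent zero form a cyclic group. -/
  cyclic : ∀ P : Subgroup G, P ≤ st a ⊓ st b → (∀ d ∈ P, k ∣ expo d) → IsCyclic P
  /-- An element of exponent zero fixing an involution is trivial. -/
  free : ∀ d ∈ st a ⊓ st b, k ∣ expo d → ∀ t : G, orderOf t = 2 → t • a = a → Commute d t → d = 1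
  /-- An element fixing an involution whose exponent is a multiple of `g` fixes another one, such
  that whatever fixes both has exponent a multiple of `g`. -/
  sub : ∀ z ∈ st a ⊓ st b, ∀ t : G, orderOf t = 2 → t • a = a → Commute z t → ∀ g : ℕ, g ∣ k →
    g ∣ expo z → 2 ≤ g → ∃ t' : G, orderOf t' = 2 ∧ t' • a = a ∧ Commute z t' ∧ t' ≠ t ∧
      ∀ d ∈ st a ⊓ st b, Commute d t → Commute d t' → g ∣ expo d

/-- A power of two minus one divides another only if the exponents divide. -/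
theorem dvd_of_two_pow_sub_one_dvd {g i : ℕ} (h : 2 ^ g - 1 ∣ 2 ^ i - 1) : g ∣ i := by
  have h1 := Nat.gcd_eq_left h
  rw [Nat.pow_sub_one_gcd_pow_sub_one] at h1
  have h2 : 2 ^ Nat.gcd g i = 2 ^ g := by
    have a1 := Nat.one_le_two_pow (n := Nat.gcd g i)
    have a2 := Nat.one_le_two_pow (n := g)
    omega
  exact Nat.gcd_eq_left_iff_dvd.1 (Nat.pow_right_injective le_rfl h2)

variable (hH : Hyp H)
include hH

theorem Hyp.exists_coord {a b : G ⧸ H} (hab : a ≠ b)
    (hX : st a ⊓ st b ⊓ centralizer (vee hH.comm a : Set G) = ⊥) :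
    ∃ k, Nonempty (Coord H a b k) := by
  classical
  haveI : Fact (Nat.Prime 2) := ⟨Nat.prime_two⟩
  have hD := odd_pair hH.se hab
  have h2 : IsPGroup 2 (vee hH.comm a) := fun v => ⟨1, by rw [pow_one, sq]; exact sq_vee hH.comm a v⟩
  obtain ⟨k, hk⟩ := IsPGroup.iff_card.1 h2
  have hnum : numInv H + 1 = 2 ^ k := by
    rw [← hk, ← card_invol_add_one hH.comm a, numInv, StrongEmbed.card_fix]
  have hk2 : 2 ≤ k := by
    obtain ⟨u, v, hu, hv, hne, hc⟩ := hH.pair
    obtain ⟨e, he⟩ := StrongEmbed.exists_fix hH.se hu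
    have hve : v • e = e :=
      StrongEmbed.fix_unique hH.se hu (by rw [smul_smul, hc.eq, mul_smul, he]) he
    have h3 : 2 ≤ numInv H := by
      rw [numInv, ← StrongEmbed.card_fix e]
      haveI : Nontrivial {i : G // orderOf i = 2 ∧ i • e = e} :=
        ⟨⟨⟨u, hu, he⟩, ⟨v, hv, hve⟩, fun h => hne (congrArg Subtype.val h)⟩⟩
      exact Finite.one_lt_card
    rcases k with _ | _ | k
    · simp at hnum; omega
    · simp at hnum; omega
    · omega
  obtain ⟨F, _, _, e, hF, hrep⟩ := Semilinear.exists_coord (sq_vee hH.comm a) hk2 hk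
    (barD hH.comm a b)
    (hD.of_dvd_nat ((card_map_dvd _ _).trans (by
      rw [Nat.card_congr (subgroupOfEquivOfLe (inf_le_left : st a ⊓ st b ≤ st a)).toEquiv])))
    fun s t hs ht => by
      obtain ⟨d, hd, hdt⟩ := (transOdd_pair hH.se hab).2.2 (s : G) t s.2.2
        (Invol.orderOf_eq_two s.2.1 fun h => hs (Subtype.ext h)) t.2.2
        (Invol.orderOf_eq_two t.2.1 fun h => ht (Subtype.ext h))
      exact ⟨_, act_mem_barD hd, Subtype.ext hdt⟩
  have hrep' : ∀ d : G, ∃ i : ℕ, ∀ hd : d ∈ st a ⊓ st b, ∃ c,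
      Rep e (act hH.comm a ⟨d, (mem_inf.1 hd).1⟩) c i := fun d => by
    by_cases hd : d ∈ st a ⊓ st b
    · obtain ⟨c, i, h⟩ := hrep _ (act_mem_barD hd)
      exact ⟨i, fun _ => ⟨c, h⟩⟩
    · exact ⟨0, fun h => absurd h hd⟩
  choose ex hex using hrep'
  have hinj : ∀ d (hd : d ∈ st a ⊓ st b), act hH.comm a ⟨d, (mem_inf.1 hd).1⟩ = 1 → d = 1 :=
    fun d hd h => by
      have := mem_inf.2 ⟨hd, act_eq_one.1 h⟩
      rwa [hX, mem_bot] at this
  -- exponents are unique
  have huniq : ∀ (g : MulAut (vee hH.comm a)) (c c' : F) (i j : ℕ), Rep e g c i → Rep e g c' j →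
      (i : ZMod k) = j := by
    intro g c c' i j hi hj
    haveI : Finite (MulAut (vee hH.comm a)) := Finite.of_injective
      (fun f : MulAut (vee hH.comm a) => (f : vee hH.comm a → vee hH.comm a)) DFunLike.coe_injective
    obtain ⟨n, hn⟩ : ∃ n, orderOf g = n + 1 :=
      ⟨orderOf g - 1, by have := (isOfFinOrder_of_finite g).orderOf_pos; omega⟩
    obtain ⟨c₀, h0⟩ := hi.pow n
    have h1 := h0.mul hi
    have h2 := h0.mul hj
    rw [← pow_succ, ← hn, pow_orderOf_eq_one] at h1 h2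
    have e1 := (ZMod.natCast_eq_zero_iff _ _).2 (eq_one_rep hF hk2 h1).2
    have e2 := (ZMod.natCast_eq_zero_iff _ _).2 (eq_one_rep hF hk2 h2).2
    push_cast at e1 e2
    exact add_left_cancel (e1.trans e2.symm)
  have hlin : ∀ d (hd : d ∈ st a ⊓ st b), k ∣ ex d →
      Lin e (act hH.comm a ⟨d, (mem_inf.1 hd).1⟩) := fun d hd h => by
    obtain ⟨c, hc⟩ := hex d hd
    exact Semilinear.lin_of_dvd hF hc h
  refine ⟨k, ⟨ex, hk2, hnum, ?_, ?_, ?_, ?_, ?_⟩⟩
  · intro c hc d hd
    obtain ⟨α, hα⟩ := hex c hc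
    obtain ⟨β, hβ⟩ := hex d hd
    obtain ⟨γ, hγ⟩ := hex _ (mul_mem hc hd)
    have h1 := hα.mul hβ
    rw [← map_mul] at h1
    rw [huniq _ _ _ _ _ hγ h1, Nat.cast_add]
  · intro c hc d hd hkc hkd
    have h := ((hlin c hc hkc).commute (hlin d hd hkd)).eq
    rw [← map_mul, ← map_mul] at h
    have h1 := hinj _ (mul_mem (mul_mem hc hd) (inv_mem (mul_mem hd hc))) (by
      show act hH.comm a ((⟨c, (mem_inf.1 hc).1⟩ * ⟨d, (mem_inf.1 hd).1⟩) *
        (⟨d, (mem_inf.1 hd).1⟩ * ⟨c, (mem_inf.1 hc).1⟩)⁻¹) = 1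
      rw [map_mul, map_inv, h, mul_inv_cancel])
    exact mul_inv_eq_one.1 h1
  · intro P hP hPk
    let f : P →* MulAut (vee hH.comm a) :=
      (act hH.comm a).comp (Subgroup.inclusion (hP.trans inf_le_left))
    have hf : Function.Injective f := (injective_iff_map_eq_one f).2 fun p hp =>
      Subtype.ext (hinj p (hP p.2) hp)
    haveI : IsCyclic f.range := Semilinear.isCyclic_linPart _ fun g hg => by
      obtain ⟨p, rfl⟩ := hg
      exact hlin p (hP p.2) (hPk p p.2)
    exact isCyclic_of_injective (f.rangeRestrict) (fun p q h => hf (congrArg Subtype.val h))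
  · intro d hd hk' t ht hta hc
    refine hinj d hd (Semilinear.Lin.eq_one_of_fixed hF (hlin d hd hk')
      (t := ⟨t, invol_mem_vee ht hta⟩) ?_ (Subtype.ext ?_))
    · exact fun h => Invol.ne_one ht (congrArg Subtype.val h)
    · rw [act_apply]
      exact hc.mul_inv_cancel
  · intro z hz t ht hta hzt g hgk hgz hg2
    haveI := Fintype.ofFinite F
    set t₀ : vee hH.comm a := ⟨t, invol_mem_vee ht hta⟩
    have ht0 : e (Additive.ofMul t₀) ≠ 0 := fun h =>
      Invol.ne_one ht (congrArg Subtype.val (show t₀ = 1 from (e.map_eq_zero_iff.mp h : _)))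
    have hfix : ∀ d (hd : d ∈ st a ⊓ st b), Commute d t → ∀ c,
        Rep e (act hH.comm a ⟨d, (mem_inf.1 hd).1⟩) c (ex d) →
        c * e (Additive.ofMul t₀) ^ 2 ^ ex d = e (Additive.ofMul t₀) := fun d hd hdt c hc => by
      rw [← hc.2 t₀]
      congr 2
      exact Subtype.ext (by rw [act_apply]; exact hdt.mul_inv_cancel)
    obtain ⟨w, hw⟩ := IsCyclic.exists_monoid_generator (α := Fˣ)
    have hwo : orderOf w = 2 ^ k - 1 := by
      rw [orderOf_eq_card_of_forall_mem_zpowers fun x =>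
        Submonoid.powers_le.mpr (Subgroup.mem_zpowers w) (hw x), Nat.card_units, hF]
    obtain ⟨l, hl⟩ := Nat.pow_sub_one_dvd_pow_sub_one (x := 2) hgk
    have hg1 : 4 ≤ 2 ^ g := (Nat.pow_le_pow_right (by norm_num) hg2).trans' (by norm_num)
    have hl0 : l ≠ 0 := fun h => by
      rw [h, mul_zero] at hl
      have := (Nat.pow_le_pow_right (show 1 ≤ 2 by norm_num) hk2)
      omega
    have hlo : orderOf (w ^ l) = 2 ^ g - 1 := by
      rw [orderOf_pow' _ hl0, hwo, hl, Nat.gcd_eq_right (dvd_mul_left l _),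
        Nat.mul_div_cancel _ (Nat.pos_of_ne_zero hl0)]
    set μ : F := ((w ^ l : Fˣ) : F) with hμ
    have hμo : orderOf μ = 2 ^ g - 1 := by rw [hμ, orderOf_units, hlo]
    have hμ0 : μ ≠ 0 := Units.ne_zero _
    have hμ1 : μ ≠ 1 := fun h => by rw [h, orderOf_one] at hμo; omega
    have hpow : ∀ i, g ∣ i → μ ^ 2 ^ i = μ := fun i hi => by
      have h1 : μ ^ (2 ^ i - 1) = 1 := orderOf_dvd_iff_pow_eq_one.1
        (hμo ▸ Nat.pow_sub_one_dvd_pow_sub_one (x := 2) hi)
      have h2 : 2 ^ i = 2 ^ i - 1 + 1 := by have := Nat.one_le_two_pow (n := i); omega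
      rw [h2, pow_succ, h1, one_mul]
    set v : vee hH.comm a := Additive.toMul (e.symm (μ * e (Additive.ofMul t₀))) with hvdef
    have hev : e (Additive.ofMul v) = μ * e (Additive.ofMul t₀) := by
      rw [hvdef, ofMul_toMul, e.apply_symm_apply]
    have hv1 : v ≠ 1 := fun h => mul_ne_zero hμ0 ht0 (hev.symm.trans (by rw [h]; exact map_zero e))
    refine ⟨v, Invol.orderOf_eq_two v.2.1 fun h => hv1 (Subtype.ext h), v.2.2, ?_, ?_, ?_⟩
    · obtain ⟨c, hc⟩ := hex z hz
      have h1 : act hH.comm a ⟨z, (mem_inf.1 hz).1⟩ v = v := by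
        refine Additive.ofMul.injective (e.injective ?_)
        rw [hc.2, hev, mul_pow, hpow _ hgz, mul_left_comm, hfix z hz hzt c hc]
      exact mul_inv_eq_iff_eq_mul.1 ((act_apply _ _).symm.trans (congrArg Subtype.val h1))
    · intro h
      refine hμ1 (mul_right_cancel₀ ht0 ?_)
      rw [one_mul, ← hev, show v = t₀ from Subtype.ext h]
    · intro d hd hdt hdv
      obtain ⟨c, hc⟩ := hex d hd
      have h1 : act hH.comm a ⟨d, (mem_inf.1 hd).1⟩ v = v := Subtype.ext (by
        rw [act_apply]; exact hdv.mul_inv_cancel)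
      have h2 := hc.2 v
      rw [h1, hev, mul_pow, mul_left_comm, hfix d hd hdt c hc] at h2
      have h3 : μ ^ 2 ^ ex d = μ := (mul_right_cancel₀ ht0 h2).symm
      refine dvd_of_two_pow_sub_one_dvd (hμo ▸ orderOf_dvd_of_pow_eq_one ?_)
      refine mul_right_cancel₀ hμ0 ?_
      rw [one_mul, ← pow_succ, Nat.sub_add_cancel Nat.one_le_two_pow, h3]

end CfsgLib.Bender.Commuting
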