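import Cfsg.Agent.Bender.Commuting.Local
import Cfsg.Agent.FGSA.ThompsonNil
import Mathlib.GroupTheory.Transfer
import Mathlib.GroupTheory.Abelianization.Defs

/-!
Bender's theorem, commuting branch: a normal subgroup of a point stabilizer which is generated by
2-elements meets the other point stabilizers trivially, as soon as the centralizers of the elements
of prime power order in the intersection are transitive enough; and such a subgroup is a 2-group.
-/

set_option autoImplicit false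
set_option linter.unusedSectionVars false
set_option linter.style.haveILetI false

namespace CfsgLib.Bender.Commuting

open Subgroup
open CfsgLib.FusionLift (cj mem_cj card_cj)
open CfsgLib.Bender.GSide
open scoped Pointwise

universe u v

/-- The subgroup generated by the elements of `L` whose order is a power of two. -/
def twoPart {G : Type u} [Group G] (L : Subgroup G) : Subgroup G :=
  Subgroup.closure {w : G | w ∈ L ∧ ∃ i : ℕ, w ^ 2 ^ i = 1}

theorem twoPart_le {G : Type u} [Group G] (L : Subgroup G) : twoPart L ≤ L :=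
  (Subgroup.closure_le _).2 fun _ hw => hw.1

theorem mem_twoPart {G : Type u} [Group G] {L : Subgroup G} {w : G} (hw : w ∈ L)
    (h : ∃ i : ℕ, w ^ 2 ^ i = 1) : w ∈ twoPart L := Subgroup.subset_closure ⟨hw, h⟩

theorem twoPart_mono {G : Type u} [Group G] {L M : Subgroup G} (h : L ≤ M) :
    twoPart L ≤ twoPart M :=
  Subgroup.closure_mono fun _ hw => ⟨h hw.1, hw.2⟩

theorem le_closure_twoPart {G : Type u} [Group G] (L : Subgroup G) :
    twoPart L ≤ Subgroup.closure {w : G | w ∈ twoPart L ∧ ∃ i : ℕ, w ^ 2 ^ i = 1} :=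
  Subgroup.closure_mono fun _ hw => ⟨Subgroup.subset_closure hw, hw.2⟩

theorem le_normalizer_twoPart {G : Type u} [Group G] [Finite G] {K L : Subgroup G}
    (h : K ≤ normalizer (L : Set G)) : K ≤ normalizer (twoPart L : Set G) := by
  intro g hg
  refine mem_norm_iff.2 (cj_eq_of_le ?_ le_rfl)
  show (Subgroup.closure _).map _ ≤ _
  rw [MonoidHom.map_closure, Subgroup.closure_le]
  rintro _ ⟨w, ⟨hw, i, hi⟩, rfl⟩
  refine mem_twoPart ?_ ⟨i, ?_⟩
  · exact (mem_normalizer_iff.1 (h hg) w).1 hw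
  · rw [← map_pow, hi, map_one]

/-- The transfer of an element of prime power order all of whose proper powers transfer trivially
only counts fixed cosets. -/
theorem transfer_eq_pow_fixed {X : Type u} [Group X] [Finite X] {Y : Subgroup X} {A : Type v}
    [CommGroup A] (φ : Y →* A) {x : X} {s j : ℕ} (hs : s.Prime) (hx : orderOf x = s ^ j) (c : A)
    (hfix : ∀ (g : X) (h : g⁻¹ * x * g ∈ Y), φ ⟨_, h⟩ = c)
    (hmove : ∀ (g : X) (i : ℕ) (h : g⁻¹ * x ^ s ^ (i + 1) * g ∈ Y), φ ⟨_, h⟩ = 1) :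
    MonoidHom.transfer φ x = c ^ Nat.card {q : X ⧸ Y // x • q = q} := by
  classical
  let := Y.fintypeQuotientOfFiniteIndex
  rw [MonoidHom.transfer_eq_prod_quotient_orbitRel_zpowers_quot,
    ← Finset.prod_filter_mul_prod_filter_not Finset.univ
      (fun q : Quotient (MulAction.orbitRel (zpowers x) (X ⧸ Y)) => x • q.out = q.out),
    Finset.prod_congr rfl (g := fun _ => c) fun q hq => ?_, Finset.prod_const,
    Finset.prod_eq_one fun q hq => ?_, mul_one]
  · congr 1
    rw [← Fintype.card_subtype, ← Nat.card_eq_fintype_card]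
    refine Nat.card_congr
      { toFun := fun q => ⟨q.1.out, q.2⟩
        invFun := fun q => ⟨Quotient.mk _ q.1, ?_⟩
        left_inv := fun q => Subtype.ext (Quotient.out_eq q.1)
        right_inv := fun q => Subtype.ext ?_ }
    · have hout : (Quotient.mk (MulAction.orbitRel (zpowers x) (X ⧸ Y)) q.1).out = q.1 := by
        obtain ⟨⟨_, n, rfl⟩, hn⟩ :=
          Quotient.mk_out (s := MulAction.orbitRel (zpowers x) (X ⧸ Y)) q.1
        rw [← hn]
        exact MulAction.mem_stabilizer_iff.1 (zpow_mem (show x ∈ MulAction.stabilizer X q.1 from q.2) n)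
      rw [hout]
      exact q.2
    · obtain ⟨⟨_, n, rfl⟩, hn⟩ :=
        Quotient.mk_out (s := MulAction.orbitRel (zpowers x) (X ⧸ Y)) q.1
      show (Quotient.mk _ q.1).out = q.1
      rw [← hn]
      exact MulAction.mem_stabilizer_iff.1 (zpow_mem (show x ∈ MulAction.stabilizer X q.1 from q.2) n)
  · have hper : Function.minimalPeriod (x • ·) q.out ∣ orderOf x := by
      rw [← MulAction.pow_smul_eq_iff_minimalPeriod_dvd, pow_orderOf_eq_one, one_smul]
    rw [hx, Nat.dvd_prime_pow hs] at hper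
    obtain ⟨i, -, hi⟩ := hper
    cases i with
    | zero =>
      rw [pow_zero, Function.minimalPeriod_eq_one_iff_isFixedPt] at hi
      exact absurd hi (Finset.mem_filter.1 hq).2
    | succ i =>
      have hmem : q.out.out⁻¹ * x ^ s ^ (i + 1) * q.out.out ∈ Y := by
        have := QuotientGroup.out_conj_pow_minimalPeriod_mem Y x q.out
        rwa [hi] at this
      rw [← hmove _ i hmem]
      congr 1
      exact Subtype.ext (by simp [hi])
  · have h1 : Function.minimalPeriod (x • ·) q.out = 1 :=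
      Function.minimalPeriod_eq_one_iff_isFixedPt.2 (Finset.mem_filter.1 hq).2
    have hmem : q.out.out⁻¹ * x * q.out.out ∈ Y := by
      have := QuotientGroup.out_conj_pow_minimalPeriod_mem Y x q.out
      rwa [h1, pow_one] at this
    rw [← hfix _ hmem]
    congr 1
    exact Subtype.ext (by simp [h1])

/-- The derived series of a subgroup, inside the group. -/
def derivedIn {G : Type u} [Group G] (D : Subgroup G) : ℕ → Subgroup G
  | 0 => D
  | n + 1 => ⁅derivedIn D n, derivedIn D n⁆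

theorem derivedIn_eq {G : Type u} [Group G] (D : Subgroup G) :
    ∀ n, derivedIn D n = (derivedSeries D n).map D.subtype := by
  intro n
  induction n with
  | zero => rw [derivedSeries_zero, derivedIn, ← MonoidHom.range_eq_map, range_subtype]
  | succ n ih => rw [derivedSeries_succ, map_commutator, ← ih, derivedIn]

theorem derivedIn_le {G : Type u} [Group G] (D : Subgroup G) (n : ℕ) : derivedIn D n ≤ D := by
  rw [derivedIn_eq]
  exact map_subtype_le _

variable {G : Type u} [Group G] [Finite G] {H : Subgroup G}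

/-- A nontrivial subgroup of a solvable group lies in some term of the derived series whose
successor does not contain it. -/
theorem exists_derivedIn {D Q : Subgroup G} (hs : Group.IsSolvable D) (hle : Q ≤ D) (hne : Q ≠ ⊥) :
    ∃ n, Q ≤ derivedIn D n ∧ ¬ Q ≤ ⁅derivedIn D n, derivedIn D n⁆ := by
  classical
  obtain ⟨n, hn⟩ := (Group.isSolvable_def D).1 hs
  have h : ∃ n, ¬ Q ≤ derivedIn D n :=
    ⟨n, fun h => hne (le_bot_iff.1 (h.trans (by rw [derivedIn_eq, hn, Subgroup.map_bot])))⟩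
  obtain ⟨i, hi⟩ : ∃ i, Nat.find h = i + 1 := ⟨Nat.find h - 1, by
    have : Nat.find h ≠ 0 := fun h0 => by
      have := Nat.find_spec h
      rw [h0] at this
      exact this hle
    omega⟩
  exact ⟨i, not_not.1 (Nat.find_min h (by omega)), by
    have := Nat.find_spec h
    rwa [hi, derivedIn] at this⟩

section Hyp

variable (hH : Hyp H)
include hH

/-- An odd order subgroup normalized by a point stabilizer is trivial. -/
theorem Hyp.eq_bot_of_normal_at {a : G ⧸ H} {U : Subgroup G} (hU : U ≤ st a)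
    (hn : st a ≤ normalizer (U : Set G)) (hodd : Odd (Nat.card U)) : U = ⊥ := by
  obtain ⟨g, hg⟩ := exists_smul a (QuotientGroup.mk 1 : G ⧸ H)
  have hst : cj g (st a) = H := by rw [← st_smul, hg, st_one]
  have h : cj g U = ⊥ := by
    refine hH.eq_bot_of_normal (hst ▸ cj_mono g hU) (fun h hh => mem_norm_iff.2 ?_)
      (by rw [card_cj]; exact hodd)
    rw [← hst, mem_cj] at hh
    have h1 := mem_norm_iff.1 (hn hh)
    rw [cj_cj, show h * g = g * (g⁻¹ * h * g) by group, ← cj_cj, h1]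
  rw [← cj_inv g U, h]
  exact Subgroup.map_bot _

/-- The number of involutions divides the order of a two-point stabilizer. -/
theorem Hyp.numInv_dvd {a b : G ⧸ H} (hab : a ≠ b) : numInv H ∣ Nat.card ↥(st a ⊓ st b) := by
  obtain ⟨u, hu, hua⟩ := StrongEmbed.exists_swap hH.se hab
  have h := card_orbit_mul (st a ⊓ st b) u (fun x => orderOf x = 2 ∧ x • a = b) fun x =>
    ⟨fun hx => trans_swap hH.se hab hu hx.1 hua hx.2, by
      rintro ⟨k, hk, rfl⟩
      exact ⟨by rw [Invol.orderOf_conj_eq, hu],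
        by rw [mul_smul, mul_smul, inv_smul_eq_iff.2 hk.1.symm, hua, hk.2]⟩⟩
  rw [StrongEmbed.card_swap hH.se hab] at h
  exact Dvd.intro _ h

/-- There are at least two involutions at every point. -/
theorem Hyp.two_le_numInv : 2 ≤ numInv H := by
  obtain ⟨u, v, hu, hv, hne, hc⟩ := hH.pair
  obtain ⟨e, he⟩ := StrongEmbed.exists_fix hH.se hu
  have hve : v • e = e :=
    StrongEmbed.fix_unique hH.se hu (by rw [smul_smul, hc.eq, mul_smul, he]) he
  rw [numInv, ← StrongEmbed.card_fix e]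
  haveI : Nontrivial {i : G // orderOf i = 2 ∧ i • e = e} :=
    ⟨⟨⟨u, hu, he⟩, ⟨v, hv, hve⟩, fun h => hne (congrArg Subtype.val h)⟩⟩
  exact Finite.one_lt_card

/-- An involution normalizing `Q` which moves one of its fixed points fixes none if `Q` is
inverted by it and has no fixed point with two centralizing involutions. -/
theorem Hyp.exists_two_fix {a b : G ⧸ H} (hab : a ≠ b) :
    ∃ (p : ℕ) (y : G), p.Prime ∧ p ∣ numInv H ∧ orderOf y = p ∧ y ∈ st a ⊓ st b ∧
      ¬ Centre (zpowers y) a ∧ ∀ c : G ⧸ H, y • c = c → c = a ∨ c = b := by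
  obtain ⟨p, hp, hpm⟩ := Nat.exists_prime_and_dvd (by have := hH.two_le_numInv; omega : numInv H ≠ 1)
  haveI : Fact p.Prime := ⟨hp⟩
  set D := st a ⊓ st b with hD
  have hDodd := odd_pair hH.se hab
  obtain ⟨u, hu, hua⟩ := StrongEmbed.exists_swap hH.se hab
  have hub := swap_back hu hua
  have huD : u ∈ normalizer (D : Set G) := by
    refine mem_norm_iff.2 (cj_eq_of_le (le_inf ?_ ?_) le_rfl)
    · exact hub ▸ le_st_smul inf_le_right
    · exact hua ▸ le_st_smul inf_le_left
  obtain ⟨P, hP⟩ := CoprimeAct.exists_invariant_sylow (A := zpowers u) (K := D)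
    (zpowers_le.2 huD) (by rw [Nat.card_zpowers, hu]; exact Nat.coprime_two_left.2 hDodd)
    (Or.inr (OddEnd.odd_solvable D hDodd)) p
  set P' := (P : Subgroup D).map D.subtype with hP'
  have hsyl : Syl p D P' := ⟨map_subtype_le _, P.isPGroup'.map _, fun Q hQ hQp => by
    obtain ⟨P₂, hP₂⟩ := (hQp.comap_subtype : IsPGroup p (Q.subgroupOf D)).exists_le_sylow
    rw [hP', card_map_of_injective D.subtype_injective,
      ← Nat.card_congr (subgroupOfEquivOfLe hQ).toEquiv, P.card_eq_multiplicity,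
      ← P₂.card_eq_multiplicity]
    exact card_le_of_le hP₂⟩
  have huP : u ∈ normalizer (P' : Set G) := hP (mem_zpowers u)
  obtain ⟨e, hue⟩ := StrongEmbed.exists_fix hH.se hu
  have hea : e ≠ a := fun h => hab (by rw [← hua, ← h, hue])
  have hnc : ∃ y ∈ P', ¬ Commute u y := by
    by_contra hcon
    push Not at hcon
    have hPe : P' ≤ st e := fun y hy =>
      StrongEmbed.fix_unique hH.se hu (by rw [smul_smul, (hcon y hy).eq, mul_smul, hue]) hue
    exact hH.not_centre_syl hpm hea (hH.syl_pair hab hea hsyl hPe (hsyl.1.trans inf_le_left))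
      ⟨u, hu, hue, mem_centralizer_iff.2 fun y hy => (hcon y hy).eq.symm⟩
  obtain ⟨y, hy, hyp, hinv⟩ :=
    Core.exists_inverted_prime (hDodd.of_dvd_nat (card_dvd_of_le hsyl.1)) hu huP hnc
  have hyp' : orderOf y = p := by
    obtain ⟨k, hk⟩ := hsyl.2.1 ⟨y, hy⟩
    have h1 : y ^ p ^ k = 1 := congrArg Subtype.val hk
    obtain ⟨i, -, hi⟩ := (Nat.dvd_prime_pow hp).1 (orderOf_dvd_of_pow_eq_one h1)
    have hprime : (p ^ i).Prime := hi ▸ hyp
    rw [hi, (Nat.Prime.eq_one_of_pow hprime), pow_one]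
  have hy1 : y ≠ 1 := fun h => hp.one_lt.ne' (by rw [← hyp', h, orderOf_one])
  have hne : zpowers y ≠ ⊥ := by simpa using hy1
  have hyD : zpowers y ≤ D := zpowers_le.2 (hsyl.1 hy)
  have hyQ : IsPGroup p (zpowers y) :=
    IsPGroup.of_card (n := 1) (by rw [Nat.card_zpowers, hyp', pow_one])
  have hoddY : Odd (Nat.card (zpowers y)) := hDodd.of_dvd_nat (card_dvd_of_le hyD)
  have huN : u ∈ normalizer (zpowers y : Set G) := mem_normalizer_iff_map_conj_eq.2 (by
    rw [MonoidHom.map_zpowers]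
    show zpowers (u * y * u⁻¹) = zpowers y
    rw [hinv, zpowers_inv])
  have hnca : ¬ Centre (zpowers y) a := by
    intro hc
    obtain ⟨t, t', hne', ⟨ht, hta, htQ⟩, ht', hta', htQ'⟩ :=
      hH.pairAt_of_dvd hpm hyQ (hyD.trans inf_le_left) hc
    set N := normalizer (zpowers y : Set G)
    have htN : t ∈ N := centralizer_le_normalizer _ htQ
    have htN' : t' ∈ N := centralizer_le_normalizer _ htQ'
    have hp' : Core.HasPair N :=
      ⟨t, t', htN, htN', ht, ht', hne', hH.comm a t t' ht ht' hta hta'⟩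
    obtain ⟨z, hz, hz2, hzu, hcz⟩ := hp'.exists_partner huN hu
    have hye : zpowers y ≤ st e :=
      Core.odd_le_st hH.se hoddY hu hz2 hzu.symm hcz huN hz hue
    have huC := mem_centralizer_of_normalizes hH.comm hoddY hye hu hue huN
    exact hy1 (Core.eq_one_of_inverted_commute (hyp' ▸ hoddY.of_dvd_nat (by
      rw [Nat.card_zpowers, hyp'])) hinv (mem_centralizer_iff.1 huC y (mem_zpowers y)).symm)
  refine ⟨p, y, hp, hpm, hyp', hsyl.1 hy, hnca, fun c hc => ?_⟩
  exact hH.fix_two hyQ hne hab (hyD.trans inf_le_left) (hyD.trans inf_le_right) hnca c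
    (zpowers_le.2 hc)

/-- A normal subgroup of a point stabilizer meeting another one trivially is a 2-group. -/
theorem Hyp.isPGroup_of_inf {a b : G ⧸ H} (hab : a ≠ b) {N : Subgroup G} (hNa : N ≤ st a)
    (hn : st a ≤ normalizer (N : Set G)) (hN : N ⊓ st b = ⊥) : IsPGroup 2 N := by
  obtain ⟨p, y, hp, -, hyp, hyD, -, hfix⟩ := hH.exists_two_fix hab
  have hyN : y ∈ normalizer (N : Set G) := hn hyD.1
  let c : MulAut N := N.normalizerMonoidHom ⟨y, hyN⟩
  haveI : Group.IsNilpotent N := by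
    refine ThompsonNil.isNilpotent hp c ?_ fun g hg => ?_
    · show N.normalizerMonoidHom ⟨y, hyN⟩ ^ p = 1
      rw [← map_pow, show (⟨y, hyN⟩ : normalizer (N : Set G)) ^ p = 1 from
        Subtype.ext (by rw [SubmonoidClass.coe_pow, ← hyp, pow_orderOf_eq_one]; rfl), map_one]
    · have h1 : y * (g : G) * y⁻¹ = g := congrArg Subtype.val hg
      have h2 : y • ((g : G) • b) = (g : G) • b := by
        rw [smul_smul, mul_inv_eq_iff_eq_mul.1 h1, mul_smul, show y • b = b from hyD.2]
      have hga : (g : G) • a = a := hNa g.2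
      rcases hfix _ h2 with h | h
      · exact absurd (MulAction.injective (g : G) (hga.trans h.symm)) hab
      · exact Subtype.ext (mem_bot.1 (hN ▸ (⟨g.2, h⟩ : (g : G) ∈ N ⊓ st b)))
  refine IsPGroup.of_card (n := (Nat.card N).primeFactorsList.length)
    (Nat.eq_prime_pow_of_unique_prime_dvd Nat.card_pos.ne' fun {q} hq hqd => ?_)
  by_contra hq2
  haveI : Fact q.Prime := ⟨hq⟩
  obtain ⟨P⟩ : Nonempty (Sylow q N) := inferInstance
  haveI : (P : Subgroup N).Characteristic := Sylow.characteristic_of_normal P inferInstance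
  have hPodd : Odd (Nat.card ((P : Subgroup N).map N.subtype)) := by
    rw [card_map_of_injective N.subtype_injective, P.card_eq_multiplicity]
    exact (hq.odd_of_ne_two hq2).pow
  have hbot := hH.eq_bot_of_normal_at ((map_subtype_le _).trans hNa)
    (hn.trans (CfsgLib.OddLocal.UTool.normalizer_le_normalizer_map N (P : Subgroup N) inferInstance))
    hPodd
  have h1 := P.dvd_card_of_dvd_card hqd
  rw [(map_eq_bot_iff_of_injective _ N.subtype_injective).1 hbot, Subgroup.card_bot] at h1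
  exact hq.one_lt.ne' (Nat.dvd_one.1 h1)

/-- The transfer argument. -/
theorem Hyp.inf_eq_bot {a b : G ⧸ H} (hab : a ≠ b) {N : Subgroup G} (hNa : N ≤ st a)
    (hn : st a ≤ normalizer (N : Set G))
    (hgen : N ≤ Subgroup.closure {w : G | w ∈ N ∧ ∃ i : ℕ, w ^ 2 ^ i = 1})
    (hgood : ∀ (s : ℕ) [Fact s.Prime] (x : G), x ∈ N → x ∈ st b → x ≠ 1 →
      (∃ j, orderOf x = s ^ j) → Centre (zpowers x) a →
      ∃ T₀ : Subgroup G, T₀ ≤ N ⊓ centralizer (zpowers x : Set G) ∧
        (∀ c : G ⧸ H, zpowers x ≤ st c → c ≠ a → ∃ w ∈ T₀, w • b = c) ∧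
        ∃ i, Nat.card {c : G ⧸ H // zpowers x ≤ st c ∧ c ≠ a} = 2 ^ i) :
    N ⊓ st b = ⊥ := by
  classical
  by_contra hne
  set D := st a ⊓ st b with hD
  have hDodd := odd_pair hH.se hab
  have hQD : N ⊓ st b ≤ D := le_inf (inf_le_left.trans hNa) inf_le_right
  obtain ⟨n, hQE, hQE'⟩ := exists_derivedIn (OddEnd.odd_solvable D hDodd) hQD hne
  set E := derivedIn D n with hE
  have hED : E ≤ D := derivedIn_le D n
  have hEn : E ≤ normalizer (N : Set G) := hED.trans (inf_le_left.trans hn)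
  set X₀ := E ⊔ N with hX₀
  have hX₀a : X₀ ≤ st a := sup_le (hED.trans inf_le_left) hNa
  have hX₀b : ∀ g ∈ X₀, g • b = b → g ∈ E := by
    intro g hg hgb
    rw [hX₀, ← SetLike.mem_coe, coe_mul_of_left_le_normalizer_right E N hEn] at hg
    obtain ⟨e, he, w, hw, rfl⟩ := Set.mem_mul.1 hg
    have hwb : w • b = b := by
      rw [mul_smul] at hgb
      exact MulAction.injective e (hgb.trans (hED he).2.symm)
    exact mul_mem he (hQE ⟨hw, hwb⟩)
  let ψ : E →* Abelianization E := Abelianization.of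
  have hker : ∀ q : E, ψ q = 1 → (q : G) ∈ ⁅E, E⁆ := fun q hq => by
    rw [← Subgroup.map_subtype_commutator E]
    exact ⟨q, by rw [← Abelianization.ker_of]; exact hq, rfl⟩
  -- an element of prime power order with nontrivial image
  obtain ⟨q, hq, hq1⟩ : ∃ q : E, (q : G) ∈ N ⊓ st b ∧ ψ q ≠ 1 := by
    by_contra hcon
    push Not at hcon
    exact hQE' fun q hq => hker ⟨q, hQE hq⟩ (hcon ⟨q, hQE hq⟩ hq)
  obtain ⟨s, hs, hsd⟩ := Nat.exists_prime_and_dvd (fun h => hq1 (orderOf_eq_one_iff.1 h))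
  haveI : Fact s.Prime := ⟨hs⟩
  obtain ⟨e, f, hf, hef⟩ := Nat.exists_eq_pow_mul_and_not_dvd (orderOf_pos q).ne' s hs.ne_one
  have hex : ∃ l, ∃ x : E, (x : G) ∈ N ⊓ st b ∧ orderOf x = s ^ l ∧ ψ x ≠ 1 := by
    refine ⟨e, q ^ f, pow_mem hq f, ?_, fun h => ?_⟩
    · have hf0 : f ≠ 0 := fun h0 => hf (h0 ▸ dvd_zero s)
      rw [orderOf_pow' q hf0, hef, Nat.gcd_eq_right (dvd_mul_left f _),
        Nat.mul_div_cancel _ (Nat.pos_of_ne_zero hf0)]
    · rw [map_pow] at h
      exact hf (hsd.trans (orderOf_dvd_of_pow_eq_one h))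
  obtain ⟨x, hxQ, hxo, hx1⟩ := Nat.find_spec hex
  set j := Nat.find hex with hj
  have hmin : ∀ i < j, ∀ z : E, (z : G) ∈ N ⊓ st b → orderOf z = s ^ i → ψ z = 1 :=
    fun i hi z hz hzo => by
      by_contra h
      exact Nat.find_min hex hi ⟨z, hz, hzo, h⟩
  have hxne : (x : G) ≠ 1 := fun h => hx1 (by rw [show x = 1 from Subtype.ext h, map_one])
  have hxN : (x : G) ∈ N := hxQ.1
  have hxb : (x : G) • b = b := hxQ.2
  have hxa : (x : G) • a = a := hNa hxN
  have hxX : (x : G) ∈ X₀ := (le_sup_right : N ≤ X₀) hxN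
  let Y : Subgroup X₀ := E.subgroupOf X₀
  let φ : Y →* Abelianization E := ψ.comp (subgroupOfEquivOfLe (le_sup_left : E ≤ X₀)).toMonoidHom
  let x₀ : X₀ := ⟨x, hxX⟩
  have hx₀o : orderOf x₀ = s ^ j := by
    rw [Subgroup.orderOf_mk, Subgroup.orderOf_coe, hxo]
  have hmove : ∀ (g : X₀) (i : ℕ) (h : g⁻¹ * x₀ ^ s ^ (i + 1) * g ∈ Y), φ ⟨_, h⟩ = 1 := by
    intro g i h
    have hz : ((g : G)⁻¹ * (x : G) ^ s ^ (i + 1) * g) ∈ E := by
      have := mem_subgroupOf.1 h
      simpa [x₀] using this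
    have hzN : ((g : G)⁻¹ * (x : G) ^ s ^ (i + 1) * g) ∈ N := by
      have := (mem_normalizer_iff.1 (inv_mem (hn (hX₀a g.2))) ((x : G) ^ s ^ (i + 1))).1
        (pow_mem hxN _)
      simpa using this
    have hzord : orderOf ((g : G)⁻¹ * (x : G) ^ s ^ (i + 1) * g) = orderOf ((x : G) ^ s ^ (i + 1)) := by
      simpa using Invol.orderOf_conj_eq (g : G)⁻¹ ((x : G) ^ s ^ (i + 1))
    have hdvd : orderOf ((x : G) ^ s ^ (i + 1)) ∣ s ^ (j - 1) := by
      refine orderOf_dvd_of_pow_eq_one ?_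
      rw [← pow_mul, ← pow_add, ← orderOf_dvd_iff_pow_eq_one, Subgroup.orderOf_coe, hxo]
      exact pow_dvd_pow s (by omega)
    obtain ⟨l, hl, hlo⟩ := (Nat.dvd_prime_pow hs).1 hdvd
    have hj0 : j ≠ 0 := fun h0 => hxne (orderOf_eq_one_iff.1 (by
      rw [Subgroup.orderOf_coe, hxo, h0, pow_zero]))
    have := hmin l (by omega) ⟨_, hz⟩ ⟨hzN, (hED hz).2⟩
      (by rw [Subgroup.orderOf_mk, hzord, hlo])
    exact (congrArg ψ (Subtype.ext rfl)).trans this
  -- the fixed cosets
  have hfixq : ∀ g : X₀, g⁻¹ * x₀ * g ∈ Y → zpowers (x : G) ≤ st ((g : G) • b) ∧ (g : G) • b ≠ a := by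
    intro g h
    have hz : ((g : G)⁻¹ * (x : G) * g) ∈ E := by
      have := mem_subgroupOf.1 h
      simpa [x₀] using this
    refine ⟨zpowers_le.2 ?_, fun h' => hab ?_⟩
    · show (x : G) • (g : G) • b = (g : G) • b
      calc (x : G) • (g : G) • b = (g : G) • ((g : G)⁻¹ * x * g) • b := by
            rw [smul_smul, smul_smul]; group
        _ = (g : G) • b := by rw [(hED hz).2]
    · exact MulAction.injective (g : G) ((hX₀a g.2 : (g : G) • a = a).trans h'.symm)
  have hxs : IsPGroup s (zpowers (x : G)) :=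
    IsPGroup.of_card (n := j) (by rw [Nat.card_zpowers, Subgroup.orderOf_coe, hxo])
  have hxzne : zpowers (x : G) ≠ ⊥ := by simpa using hxne
  obtain ⟨hval, hcnt⟩ : (∀ (g : X₀) (h : g⁻¹ * x₀ * g ∈ Y), φ ⟨_, h⟩ = ψ x) ∧
      ¬ s ∣ Nat.card {q : X₀ ⧸ Y // x₀ • q = q} := by
    have hconj : ∀ (g : X₀) (h : g⁻¹ * x₀ * g ∈ Y) (w : G), Commute w x → w ∈ X₀ →
        w • b = (g : G) • b → φ ⟨_, h⟩ = ψ x := by
      intro g h w hwx hw hwb
      have he : w⁻¹ * (g : G) ∈ E := hX₀b _ (mul_mem (inv_mem hw) g.2)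
        (by rw [mul_smul, inv_smul_eq_iff, hwb])
      have : (subgroupOfEquivOfLe (le_sup_left : E ≤ X₀)) ⟨_, h⟩ =
          (⟨_, he⟩ : E)⁻¹ * x * ⟨_, he⟩ := Subtype.ext (by
        show (g : G)⁻¹ * x * g = (w⁻¹ * g)⁻¹ * x * (w⁻¹ * g)
        calc (g : G)⁻¹ * x * g = (g : G)⁻¹ * (x * w) * (w⁻¹ * g) := by group
          _ = (g : G)⁻¹ * (w * x) * (w⁻¹ * g) := by rw [hwx.eq]
          _ = (w⁻¹ * g)⁻¹ * x * (w⁻¹ * g) := by group)
      show ψ _ = ψ x
      rw [MulEquiv.coe_toMonoidHom, this, map_mul, map_mul, map_inv, mul_comm _ (ψ x),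
        mul_assoc, inv_mul_cancel, mul_one]
    have hmemY : ∀ g : X₀, x₀ • (g : X₀ ⧸ Y) = g ↔ g⁻¹ * x₀ * g ∈ Y := fun g => by
      show ((x₀ * g : X₀) : X₀ ⧸ Y) = g ↔ _
      rw [eq_comm, QuotientGroup.eq, mul_assoc]
    by_cases hc : Centre (zpowers (x : G)) a
    · obtain ⟨T₀, hT₀, htr, i, hi⟩ := hgood s x hxN hxb hxne
        ⟨j, by rw [Subgroup.orderOf_coe, hxo]⟩ hc
      refine ⟨fun g h => ?_, ?_⟩
      · obtain ⟨w, hw, hwb⟩ := htr _ (hfixq g h).1 (hfixq g h).2
        exact hconj g h w (mem_centralizer_iff.1 (hT₀ hw).2 _ (mem_zpowers _)).symm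
          ((le_sup_right : N ≤ X₀) (hT₀ hw).1) hwb
      · have hout : ∀ q : {q : X₀ ⧸ Y // x₀ • q = q}, q.1.out⁻¹ * x₀ * q.1.out ∈ Y := fun q =>
          (hmemY _).1 (by rw [QuotientGroup.out_eq']; exact q.2)
        let e : {q : X₀ ⧸ Y // x₀ • q = q} → {c : G ⧸ H // zpowers (x : G) ≤ st c ∧ c ≠ a} :=
          fun q => ⟨(q.1.out : G) • b, hfixq _ (hout q)⟩
        have hbij : Function.Bijective e := by
          constructor
          · intro q r h
            have h' : (q.1.out : G) • b = (r.1.out : G) • b := congrArg Subtype.val h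
            have : (q.1.out : G)⁻¹ * r.1.out ∈ E := hX₀b _
              (mul_mem (inv_mem q.1.out.2) r.1.out.2) (by rw [mul_smul, inv_smul_eq_iff, h'])
            apply Subtype.ext
            rw [← QuotientGroup.out_eq' q.1, ← QuotientGroup.out_eq' r.1, QuotientGroup.eq]
            exact mem_subgroupOf.2 this
          · rintro ⟨c, hc1, hc2⟩
            obtain ⟨w, hw, hwb⟩ := htr c hc1 hc2
            let g : X₀ := ⟨w, (le_sup_right : N ≤ X₀) (hT₀ hw).1⟩
            have hwx : (x : G) * w = w * x := mem_centralizer_iff.1 (hT₀ hw).2 _ (mem_zpowers _)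
            have hgY : g⁻¹ * x₀ * g ∈ Y := mem_subgroupOf.2 (by
              show w⁻¹ * (x : G) * w ∈ E
              rw [mul_assoc, hwx, inv_mul_cancel_left]
              exact x.2)
            refine ⟨⟨g, (hmemY g).2 hgY⟩, Subtype.ext ?_⟩
            show (((g : X₀ ⧸ Y).out : X₀) : G) • b = c
            obtain ⟨⟨d, hd⟩, hd'⟩ := QuotientGroup.mk_out_eq_mul Y g
            rw [hd', Subgroup.coe_mul, mul_smul, (hED (mem_subgroupOf.1 hd)).2]
            exact hwb
        rw [Nat.card_eq_of_bijective e hbij, hi]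
        intro hdvd
        have hodd : Odd s := hH.odd_prime hxs hxzne hab (zpowers_le.2 hxa) (zpowers_le.2 hxb)
        exact Nat.not_even_iff_odd.2 hodd (even_iff_two_dvd.2
          (by rw [(Nat.prime_dvd_prime_iff_eq hs Nat.prime_two).1 (hs.dvd_of_dvd_pow hdvd)]))
    · have hb' : ∀ g : X₀, g⁻¹ * x₀ * g ∈ Y → (g : G) • b = b := fun g h =>
        (hH.fix_two hxs hxzne hab (zpowers_le.2 hxa) (zpowers_le.2 hxb) hc _
          (hfixq g h).1).resolve_left (hfixq g h).2
      refine ⟨fun g h => hconj g h 1 (Commute.one_left _) (one_mem _)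
        (by rw [one_smul, hb' g h]), ?_⟩
      haveI : Unique {q : X₀ ⧸ Y // x₀ • q = q} :=
        { default := ⟨((1 : X₀) : X₀ ⧸ Y), (hmemY 1).2 (by
            rw [inv_one, one_mul, mul_one]
            exact mem_subgroupOf.2 x.2)⟩
          uniq := fun q => Subtype.ext (by
            have h1 := hb' q.1.out ((hmemY _).1 (by rw [QuotientGroup.out_eq']; exact q.2))
            show q.1 = ((1 : X₀) : X₀ ⧸ Y)
            rw [← QuotientGroup.out_eq' q.1, QuotientGroup.eq, mul_one]
            exact inv_mem (mem_subgroupOf.2 (hX₀b _ q.1.out.2 h1))) }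
      rw [Nat.card_unique]
      exact fun h => hs.one_lt.ne' (Nat.dvd_one.1 h)
  -- the transfer kills `x`
  have hker' : MonoidHom.transfer φ x₀ = 1 := by
    set τ := MonoidHom.transfer φ
    have hle : Subgroup.closure {w : G | w ∈ N ∧ ∃ i : ℕ, w ^ 2 ^ i = 1} ≤ τ.ker.map X₀.subtype := by
      rw [Subgroup.closure_le]
      rintro w ⟨hw, i, hi⟩
      refine ⟨⟨w, (le_sup_right : N ≤ X₀) hw⟩, ?_, rfl⟩
      rw [SetLike.mem_coe, MonoidHom.mem_ker]
      have hoddA : Odd (Nat.card (Abelianization E)) :=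
        (hDodd.of_dvd_nat (card_dvd_of_le hED)).of_dvd_nat
          (Subgroup.card_dvd_of_surjective Abelianization.of QuotientGroup.mk_surjective)
      refine orderOf_eq_one_iff.1 (Nat.eq_one_of_dvd_coprimes (a := 2 ^ i)
        ((Nat.coprime_two_left.2 hoddA).pow_left i) ?_ (orderOf_dvd_natCard _))
      refine orderOf_dvd_of_pow_eq_one ?_
      rw [← map_pow, ← map_one τ]
      exact congrArg τ (Subtype.ext hi)
    obtain ⟨z, hz, hzx⟩ := hle (hgen hxN)
    rw [show x₀ = z from Subtype.ext hzx.symm]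
    exact hz
  rw [transfer_eq_pow_fixed φ hs hx₀o (ψ x) hval hmove] at hker'
  have h1 : orderOf (ψ x) ∣ s ^ j := hxo ▸ orderOf_map_dvd ψ x
  obtain ⟨l, -, hl⟩ := (Nat.dvd_prime_pow hs).1 h1
  cases l with
  | zero => exact hx1 (orderOf_eq_one_iff.1 (by rw [hl, pow_zero]))
  | succ l => exact hcnt ((dvd_pow_self s (Nat.succ_ne_zero l)).trans
      (hl ▸ orderOf_dvd_of_pow_eq_one hker'))

end Hyp

end CfsgLib.Bender.Commuting
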