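import Cfsg.Agent.Bender.Commuting.Config
import Cfsg.Agent.Bender.Commuting.Coord
import Cfsg.Agent.Bender.Commuting.Transfer

/-!
Bender's theorem, commuting branch: the case left by the kernel transfer leads to the configuration
refuted by characters. An element `x` of prime power order of a two-point stabilizer which
centralizes exactly one involution at `a` has order `k`, and the transfer to the field automorphisms
of order `s` shows that `k` is prime.
-/

set_option autoImplicit false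
set_option linter.unusedSectionVars false
set_option linter.style.haveILetI false

namespace CfsgLib.Bender.Commuting

open Subgroup
open CfsgLib.FusionLift (cj mem_cj card_cj)
open CfsgLib.Bender.GSide
open CfsgLib.Bender.Core.CSix (vee mem_vee invol_mem_vee)

universe u

variable {G : Type u} [Group G] [Finite G] {H : Subgroup G} {a b : G ⧸ H} {k r : ℕ}

/-- The exponent modulo a divisor of `k` is additive. -/
theorem Coord.expo_mul_of_dvd (co : Coord H a b k) (hr : r ∣ k) {c d : G}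
    (hc : c ∈ st a ⊓ st b) (hd : d ∈ st a ⊓ st b) :
    ((co.expo (c * d) : ℕ) : ZMod r) = (co.expo c : ZMod r) + (co.expo d : ZMod r) := by
  have h := congrArg (ZMod.castHom hr (ZMod r)) (co.expo_mul c hc d hd)
  rw [map_natCast, map_add, map_natCast, map_natCast] at h
  exact h

theorem Coord.expo_one (co : Coord H a b k) (hr : r ∣ k) : ((co.expo 1 : ℕ) : ZMod r) = 0 := by
  have h := co.expo_mul_of_dvd hr (one_mem (st a ⊓ st b)) (one_mem (st a ⊓ st b))
  rw [one_mul] at h
  exact left_eq_add.1 h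

theorem Coord.expo_pow (co : Coord H a b k) (hr : r ∣ k) {d : G} (hd : d ∈ st a ⊓ st b) (n : ℕ) :
    ((co.expo (d ^ n) : ℕ) : ZMod r) = n * (co.expo d : ZMod r) := by
  induction n with
  | zero => rw [pow_zero, co.expo_one hr, Nat.cast_zero, zero_mul]
  | succ n ih =>
    rw [pow_succ, co.expo_mul_of_dvd hr (pow_mem hd n) hd, ih]
    push_cast
    ring

/-- The exponent modulo a divisor of `k`, as a homomorphism. -/
def Coord.hom (co : Coord H a b k) (hr : r ∣ k) : ↥(st a ⊓ st b) →* Multiplicative (ZMod r) where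
  toFun d := Multiplicative.ofAdd (co.expo (d : G) : ZMod r)
  map_one' := by rw [OneMemClass.coe_one, co.expo_one hr, ofAdd_zero]
  map_mul' c d := by rw [Subgroup.coe_mul, co.expo_mul_of_dvd hr c.2 d.2, ofAdd_add]

theorem Coord.hom_apply (co : Coord H a b k) (hr : r ∣ k) (d : ↥(st a ⊓ st b)) :
    co.hom hr d = Multiplicative.ofAdd (co.expo (d : G) : ZMod r) := rfl

/-- An `s`-group fixes as many points of an invariant set, modulo `s`. -/
theorem card_modEq_fixed {s : ℕ} [Fact s.Prime] {R : Subgroup G} (hR : IsPGroup s R)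
    (P : G ⧸ H → Prop) (hP : ∀ g ∈ R, ∀ c, P c → P (g • c)) :
    Nat.card {c // P c} ≡ Nat.card {c // P c ∧ R ≤ st c} [MOD s] := by
  letI : MulAction R {c // P c} :=
    { smul := fun g c => ⟨(g : G) • c.1, hP g g.2 c c.2⟩
      one_smul := fun c => Subtype.ext (by
        show ((1 : R) : G) • c.1 = c.1
        simp)
      mul_smul := fun g g' c => Subtype.ext (by
        show ((g * g' : R) : G) • c.1 = (g : G) • (g' : G) • c.1
        rw [coe_mul, mul_smul]) }
  have h := hR.card_modEq_card_fixedPoints {c // P c}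
  have e : MulAction.fixedPoints R {c // P c} ≃ {c // P c ∧ R ≤ st c} :=
    { toFun := fun c => ⟨c.1.1, c.1.2, fun g hg => congrArg Subtype.val (c.2 ⟨g, hg⟩)⟩
      invFun := fun c => ⟨⟨c.1, c.2.1⟩, fun g => Subtype.ext (c.2.2 g.2)⟩
      left_inv := fun _ => rfl
      right_inv := fun _ => rfl }
  rwa [Nat.card_congr e] at h

theorem mem_centralizer_zpowers {x t : G} (h : Commute x t) :
    t ∈ centralizer (zpowers x : Set G) := by
  refine mem_centralizer_iff.2 fun y hy => ?_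
  obtain ⟨n, rfl⟩ := mem_zpowers_iff.1 hy
  exact (h.zpow_left n).eq

theorem commute_of_mem_centralizer {x t : G} (h : t ∈ centralizer (zpowers x : Set G)) :
    Commute x t :=
  mem_centralizer_iff.1 h x (mem_zpowers x)

variable (hH : Hyp H)
include hH

/-- There are two involutions at every point. -/
theorem Hyp.exists_two_invol (a : G ⧸ H) :
    ∃ t t' : G, t ≠ t' ∧ (orderOf t = 2 ∧ t • a = a) ∧ orderOf t' = 2 ∧ t' • a = a := by
  obtain ⟨u, v, hu, hv, hne, hc⟩ := hH.pair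
  obtain ⟨e, he⟩ := StrongEmbed.exists_fix hH.se hu
  have hve : v • e = e :=
    StrongEmbed.fix_unique hH.se hu (by rw [smul_smul, hc.eq, mul_smul, he]) he
  obtain ⟨g, hg⟩ := exists_smul e a
  refine ⟨g * u * g⁻¹, g * v * g⁻¹, fun h => hne ?_, ⟨?_, ?_⟩, ?_, ?_⟩
  · exact mul_left_cancel (mul_right_cancel h)
  · rw [Invol.orderOf_conj_eq, hu]
  · rw [← hg, mul_smul, mul_smul, inv_smul_smul, he]
  · rw [Invol.orderOf_conj_eq, hv]
  · rw [← hg, mul_smul, mul_smul, inv_smul_smul, hve]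

/-- If the transfer of the elements of `2`-power order leaves an element with one involution, some
element of `2`-power order moves an involution. -/
theorem Hyp.exists_moving {x : G} (hx : x ∈ twoPart (st a))
    (hnp : ¬ PairAt (zpowers x) a) :
    ∃ w ∈ st a, (∃ i : ℕ, w ^ 2 ^ i = 1) ∧
      ∃ t : G, orderOf t = 2 ∧ t • a = a ∧ ¬ Commute w t := by
  by_contra hcon
  push Not at hcon
  obtain ⟨t, t', hne, ⟨ht, hta⟩, ht', hta'⟩ := hH.exists_two_invol a
  have hle : ∀ t : G, orderOf t = 2 → t • a = a → Commute x t := fun t ht hta => by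
    have h : twoPart (st a) ≤ centralizer ({t} : Set G) := (Subgroup.closure_le _).2
      fun w hw => mem_centralizer_singleton_iff.2 (hcon w hw.1 hw.2 t ht hta).eq
    exact mem_centralizer_singleton_iff.1 (h hx)
  exact hnp ⟨t, t', hne, ⟨ht, hta, mem_centralizer_zpowers (hle t ht hta)⟩,
    ht', hta', mem_centralizer_zpowers (hle t' ht' hta')⟩

/-- `s` is the only possible order of `x`: the transfer to the automorphisms of order `s`. -/
theorem Hyp.exponent_eq_one (hab : a ≠ b) (co : Coord H a b k) {s j : ℕ} [Fact s.Prime] {x t : G}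
    (hxt : x ∈ twoPart (st a)) (hxD : x ∈ st a ⊓ st b) (hxk : orderOf x = k) (hkj : k = s ^ j)
    (hodd : Odd s) (hcop : Nat.Coprime (co.expo x) k)
    (ht : orderOf t = 2) (hta : t • a = a) (hc : Commute x t)
    (htwo : ∀ Q : Subgroup G, IsPGroup s Q → Q ≠ ⊥ → Q ≤ st a → Q ≤ st b → PairAt Q a →
      ∃ T₀ : Subgroup G, IsPGroup 2 T₀ ∧ T₀ ≤ centralizer (Q : Set G) ⊓ st a ∧
        (∀ c : G ⧸ H, Q ≤ st c → c ≠ a → ∃ w ∈ T₀, w • b = c) ∧
        (∃ i, Nat.card {c : G ⧸ H // Q ≤ st c ∧ c ≠ a} = 2 ^ i) ∧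
        ∀ w ∈ T₀, ∀ t : G, orderOf t = 2 → t • a = a → t ∈ centralizer (Q : Set G) → Commute w t) :
    j = 1 := by
  classical
  have hs : s.Prime := Fact.out
  set D := st a ⊓ st b with hD
  rcases j with _ | _ | j
  · exact absurd co.two_le (by rw [hkj, pow_zero]; omega)
  · rfl
  exfalso
  have hsk : s ∣ k := hkj ▸ dvd_pow_self s (by omega)
  have hphix : (co.expo x : ZMod s) ≠ 0 := fun h => by
    have h1 := Nat.dvd_gcd ((ZMod.natCast_eq_zero_iff _ _).1 h) hsk
    rw [Nat.Coprime.gcd_eq_one hcop] at h1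
    exact hs.one_lt.ne' (Nat.dvd_one.1 h1)
  -- the power of order `s ^ (j + 1)`
  set z := x ^ s with hz
  have hzD : z ∈ D := pow_mem hxD s
  have hzord : orderOf z = s ^ (j + 1) := by
    rw [hz, orderOf_pow' x hs.ne_zero, hxk, hkj, pow_succ _ (j + 1),
      Nat.gcd_eq_right (dvd_mul_left s _), Nat.mul_div_cancel _ hs.pos]
  have hzne : zpowers z ≠ ⊥ := by
    intro h
    rw [zpowers_eq_bot] at h
    rw [h, orderOf_one] at hzord
    exact (Nat.one_lt_pow (Nat.succ_ne_zero j) hs.one_lt).ne hzord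
  have hzs : s ∣ co.expo z := (ZMod.natCast_eq_zero_iff _ _).1 (by
    rw [hz, co.expo_pow hsk hxD, ZMod.natCast_self, zero_mul])
  obtain ⟨t', ht', hta', hzt', hne, hsub⟩ :=
    co.sub z hzD t ht hta (hc.pow_left s) s hsk hzs hs.two_le
  obtain ⟨T₀, -, hT₀, htr, ⟨l, hl⟩, hTcomm⟩ := htwo (zpowers z)
    (IsPGroup.of_card (n := j + 1) (by rw [Nat.card_zpowers, hzord])) hzne
    (zpowers_le.2 hzD.1) (zpowers_le.2 hzD.2)
    ⟨t', t, hne, ⟨ht', hta', mem_centralizer_zpowers hzt'⟩,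
      ht, hta, mem_centralizer_zpowers (hc.pow_left s)⟩
  have hle : zpowers z ≤ zpowers x := zpowers_le.2 (pow_mem (mem_zpowers x) s)
  -- fixed points are reached by elements not changing the exponent
  have hkey : ∀ c : G ⧸ H, x • c = c → c ≠ a → ∃ w ∈ st a, w • b = c ∧
      ∃ hy : w⁻¹ * x * w ∈ D, (co.expo (w⁻¹ * x * w) : ZMod s) = co.expo x := by
    intro c hxc hca
    obtain ⟨w, hw, hwb⟩ := htr c (hle.trans (zpowers_le.2 hxc)) hca
    have hwa : w ∈ st a := (hT₀ hw).2
    have hya : w⁻¹ * x * w ∈ st a := mul_mem (mul_mem (inv_mem hwa) hxD.1) hwa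
    have hy : w⁻¹ * x * w ∈ D := ⟨hya, by
      show (w⁻¹ * x * w) • b = b
      rw [mul_smul, mul_smul, hwb, hxc, ← hwb, inv_smul_smul]⟩
    refine ⟨w, hwa, hwb, hy, ?_⟩
    set d := x⁻¹ * (w⁻¹ * x * w) with hd
    have hdD : d ∈ D := mul_mem (inv_mem hxD) hy
    have hwt : Commute w t := hTcomm w hw t ht hta (mem_centralizer_zpowers (hc.pow_left s))
    have hdt : Commute d t :=
      hc.inv_left.mul_left ((hwt.inv_left.mul_left hc).mul_left hwt)
    have hdt' : Commute d t' := by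
      have hxa : x • a = a := hxD.1
      have hwt' : Commute w t' := hTcomm w hw t' ht' hta' (mem_centralizer_zpowers hzt')
      have hzx : Commute z x := Commute.pow_self x s
      have hwt'' : Commute w (x * t' * x⁻¹) := hTcomm w hw _
        (by rw [Invol.orderOf_conj_eq, ht'])
        (by rw [mul_smul, mul_smul, inv_smul_eq_iff.2 hxa.symm, hta', hxa])
        (mem_centralizer_zpowers ((hzx.mul_right hzt').mul_right hzx.inv_right))
      show d * t' = t' * d
      calc x⁻¹ * (w⁻¹ * x * w) * t' = x⁻¹ * w⁻¹ * x * (w * t') := by group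
        _ = x⁻¹ * (w⁻¹ * (x * t' * x⁻¹)) * x * w := by rw [hwt'.eq]; group
        _ = x⁻¹ * ((x * t' * x⁻¹) * w⁻¹) * x * w := by rw [hwt''.inv_left.eq]
        _ = t' * (x⁻¹ * (w⁻¹ * x * w)) := by group
    have h0 : (co.expo d : ZMod s) = 0 :=
      (ZMod.natCast_eq_zero_iff _ _).2 (hsub d hdD hdt hdt')
    have h1 := co.expo_mul_of_dvd hsk hxD hdD
    rwa [h0, add_zero, hd, mul_inv_cancel_left] at h1
  -- the transfer
  let Y : Subgroup ↥(st a) := D.subgroupOf (st a)
  let φ : Y →* Multiplicative (ZMod s) :=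
    (co.hom hsk).comp (subgroupOfEquivOfLe (inf_le_left : D ≤ st a)).toMonoidHom
  have hφ : ∀ y : Y, φ y = Multiplicative.ofAdd (co.expo ((y : ↥(st a)) : G) : ZMod s) :=
    fun _ => rfl
  let x₀ : ↥(st a) := ⟨x, hxD.1⟩
  have hx₀o : orderOf x₀ = s ^ (j + 2) := by rw [Subgroup.orderOf_mk, hxk, hkj]
  have hfixq : ∀ g : ↥(st a), g⁻¹ * x₀ * g ∈ Y →
      x • (g : G) • b = (g : G) • b ∧ (g : G) • b ≠ a := by
    intro g h
    have hzD' : ((g : G)⁻¹ * x * g) ∈ D := mem_subgroupOf.1 h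
    refine ⟨?_, fun h' => hab ?_⟩
    · calc x • (g : G) • b = (g : G) • ((g : G)⁻¹ * x * g) • b := by
            rw [smul_smul, smul_smul]; group
        _ = (g : G) • b := by rw [show _ • b = b from hzD'.2]
    · exact MulAction.injective (g : G) ((g.2 : (g : G) • a = a).trans h'.symm)
  have hval : ∀ (g : ↥(st a)) (h : g⁻¹ * x₀ * g ∈ Y),
      φ ⟨_, h⟩ = Multiplicative.ofAdd (co.expo x : ZMod s) := by
    intro g h
    obtain ⟨w, hwa, hwb, hy, hye⟩ := hkey _ (hfixq g h).1 (hfixq g h).2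
    have hea : w⁻¹ * (g : G) ∈ st a := mul_mem (inv_mem hwa) g.2
    have he : w⁻¹ * (g : G) ∈ D := ⟨hea, by
      show (w⁻¹ * (g : G)) • b = b
      rw [mul_smul, ← hwb, inv_smul_smul]⟩
    have heq : (subgroupOfEquivOfLe (inf_le_left : D ≤ st a)) ⟨_, h⟩ =
        (⟨_, he⟩ : D)⁻¹ * ⟨_, hy⟩ * ⟨_, he⟩ := Subtype.ext (by
      show (g : G)⁻¹ * x * g = (w⁻¹ * g)⁻¹ * (w⁻¹ * x * w) * (w⁻¹ * g)
      group)
    show co.hom hsk ((subgroupOfEquivOfLe (inf_le_left : D ≤ st a)) ⟨_, h⟩) = _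
    rw [heq, map_mul, map_mul, map_inv, inv_mul_cancel_comm]
    exact congrArg Multiplicative.ofAdd hye
  have hmove : ∀ (g : ↥(st a)) (i : ℕ) (h : g⁻¹ * x₀ ^ s ^ (i + 1) * g ∈ Y), φ ⟨_, h⟩ = 1 := by
    intro g i h
    set u : G := (g : G)⁻¹ * x ^ s ^ (i + 1) * g with hu
    have huD : u ∈ D := mem_subgroupOf.1 h
    have hu1 : u ^ s ^ (j + 1) = 1 := by
      refine orderOf_dvd_iff_pow_eq_one.1 ?_
      have h1 : orderOf u = orderOf (x ^ s ^ (i + 1)) := by
        simpa [hu] using Invol.orderOf_conj_eq (g : G)⁻¹ (x ^ s ^ (i + 1))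
      rw [h1]
      refine orderOf_dvd_of_pow_eq_one ?_
      rw [← pow_mul, ← pow_add, ← orderOf_dvd_iff_pow_eq_one, hxk, hkj]
      exact pow_dvd_pow s (by omega)
    have h2 := co.expo_pow (dvd_refl k) huD (s ^ (j + 1))
    rw [hu1, co.expo_one (dvd_refl k), ← Nat.cast_mul, eq_comm, ZMod.natCast_eq_zero_iff] at h2
    have h3 : s ∣ co.expo u :=
      Nat.dvd_of_mul_dvd_mul_left (pow_pos hs.pos (j + 1)) (by rwa [← pow_succ, ← hkj])
    rw [hφ]
    show Multiplicative.ofAdd (co.expo u : ZMod s) = 1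
    rw [(ZMod.natCast_eq_zero_iff _ _).2 h3, ofAdd_zero]
  have hker : MonoidHom.transfer φ x₀ = 1 := by
    set τ := MonoidHom.transfer φ
    have hclo : twoPart (st a) ≤ τ.ker.map (st a).subtype := by
      refine (Subgroup.closure_le _).2 ?_
      rintro w ⟨hw, i, hi⟩
      refine ⟨⟨w, hw⟩, ?_, rfl⟩
      rw [SetLike.mem_coe, MonoidHom.mem_ker]
      have hoddA : Odd (Nat.card (Multiplicative (ZMod s))) := by
        rwa [Nat.card_congr Multiplicative.toAdd, Nat.card_zmod]
      refine orderOf_eq_one_iff.1 (Nat.eq_one_of_dvd_coprimes (a := 2 ^ i)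
        ((Nat.coprime_two_left.2 hoddA).pow_left i) ?_ (orderOf_dvd_natCard _))
      refine orderOf_dvd_of_pow_eq_one ?_
      rw [← map_pow, ← map_one τ]
      exact congrArg τ (Subtype.ext hi)
    obtain ⟨y, hy, hyx⟩ := hclo hxt
    rw [show x₀ = y from Subtype.ext hyx.symm]
    exact hy
  rw [transfer_eq_pow_fixed φ hs hx₀o _ hval hmove] at hker
  have hmemY : ∀ g : ↥(st a), x₀ • (g : ↥(st a) ⧸ Y) = g ↔ g⁻¹ * x₀ * g ∈ Y := fun g => by
    show ((x₀ * g : ↥(st a)) : ↥(st a) ⧸ Y) = g ↔ _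
    rw [eq_comm, QuotientGroup.eq, mul_assoc]
  have hout : ∀ q : {q : ↥(st a) ⧸ Y // x₀ • q = q}, q.1.out⁻¹ * x₀ * q.1.out ∈ Y := fun q =>
    (hmemY _).1 (by rw [QuotientGroup.out_eq']; exact q.2)
  let e : {q : ↥(st a) ⧸ Y // x₀ • q = q} →
      {c : G ⧸ H // (zpowers z ≤ st c ∧ c ≠ a) ∧ zpowers x ≤ st c} := fun q =>
    ⟨(q.1.out : G) • b,
      ⟨hle.trans (zpowers_le.2 (hfixq _ (hout q)).1), (hfixq _ (hout q)).2⟩,
      zpowers_le.2 (hfixq _ (hout q)).1⟩
  have hbij : Function.Bijective e := by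
    constructor
    · intro q q' h
      have h' : (q.1.out : G) • b = (q'.1.out : G) • b := congrArg Subtype.val h
      have hqa : (q.1.out : G)⁻¹ * q'.1.out ∈ st a := mul_mem (inv_mem q.1.out.2) q'.1.out.2
      have : (q.1.out : G)⁻¹ * q'.1.out ∈ D := ⟨hqa, by
        show ((q.1.out : G)⁻¹ * q'.1.out) • b = b
        rw [mul_smul, inv_smul_eq_iff, h']⟩
      apply Subtype.ext
      rw [← QuotientGroup.out_eq' q.1, ← QuotientGroup.out_eq' q'.1, QuotientGroup.eq]
      exact mem_subgroupOf.2 this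
    · rintro ⟨c, ⟨-, hca⟩, hxc⟩
      obtain ⟨w, hwa, hwb, hy, -⟩ := hkey c (zpowers_le.1 hxc) hca
      let g : ↥(st a) := ⟨w, hwa⟩
      have hgY : g⁻¹ * x₀ * g ∈ Y := mem_subgroupOf.2 hy
      refine ⟨⟨g, (hmemY g).2 hgY⟩, Subtype.ext ?_⟩
      show (((g : ↥(st a) ⧸ Y).out : ↥(st a)) : G) • b = c
      obtain ⟨⟨d, hd⟩, hd'⟩ := QuotientGroup.mk_out_eq_mul Y g
      rw [hd', Subgroup.coe_mul, mul_smul, show (d : G) • b = b from (mem_subgroupOf.1 hd).2]
      exact hwb
  rw [Nat.card_eq_of_bijective e hbij] at hker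
  have hxs : IsPGroup s (zpowers x) :=
    IsPGroup.of_card (n := j + 2) (by rw [Nat.card_zpowers, hxk, hkj])
  have hmod := card_modEq_fixed hxs (fun c : G ⧸ H => zpowers z ≤ st c ∧ c ≠ a) fun g hg c hc' => by
    have hga : g • a = a := (zpowers_le.2 hxD.1 : zpowers x ≤ st a) hg
    refine ⟨le_st_smul_of_norm (centralizer_le_normalizer _ (mem_centralizer_zpowers ?_)) hc'.1,
      fun h => hc'.2 (MulAction.injective g (h.trans hga.symm))⟩
    obtain ⟨n, rfl⟩ := mem_zpowers_iff.1 hg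
    exact (Commute.pow_self x s).zpow_right n
  rw [hl] at hmod
  have hco : orderOf (Multiplicative.ofAdd (co.expo x : ZMod s)) = s := by
    refine orderOf_eq_prime ?_ fun h => hphix (by simpa using h)
    rw [← ofAdd_nsmul, nsmul_eq_mul, ZMod.natCast_self, zero_mul, ofAdd_zero]
  have h0 := Nat.modEq_zero_iff_dvd.1
    (hmod.trans (Nat.modEq_zero_iff_dvd.2 (hco ▸ orderOf_dvd_of_pow_eq_one hker)))
  exact Nat.not_even_iff_odd.2 hodd (even_iff_two_dvd.2
    (by rw [(Nat.prime_dvd_prime_iff_eq hs Nat.prime_two).1 (hs.dvd_of_dvd_pow h0)]))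

/-- The configuration refuted by characters, from the case left by the transfer. -/
theorem Hyp.exists_config_of (hab : a ≠ b)
    (hfac : st a ⊓ st b ⊓ centralizer (vee hH.comm a : Set G) ≠ ⊥ →
      ∀ w ∈ st a, (∃ i : ℕ, w ^ 2 ^ i = 1) → w ∈ centralizer (vee hH.comm a : Set G))
    (htwo : ∀ (s : ℕ) [Fact s.Prime] (Q : Subgroup G), IsPGroup s Q → Q ≠ ⊥ → Q ≤ st a →
      Q ≤ st b → PairAt Q a →
      ∃ T₀ : Subgroup G, IsPGroup 2 T₀ ∧ T₀ ≤ centralizer (Q : Set G) ⊓ st a ∧
        (∀ c : G ⧸ H, Q ≤ st c → c ≠ a → ∃ w ∈ T₀, w • b = c) ∧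
        (∃ i, Nat.card {c : G ⧸ H // Q ≤ st c ∧ c ≠ a} = 2 ^ i) ∧
        ∀ w ∈ T₀, ∀ t : G, orderOf t = 2 → t • a = a → t ∈ centralizer (Q : Set G) → Commute w t)
    {s : ℕ} (hs : s.Prime) (hsm : ¬ s ∣ numInv H) {x : G} (hxt : x ∈ twoPart (st a))
    (hxb : x ∈ st b) (hx1 : x ≠ 1) (hxo : ∃ j, orderOf x = s ^ j)
    (hnp : ¬ PairAt (zpowers x) a) :
    ∃ k C x v, Config H a b k C x v := by
  classical
  haveI : Fact s.Prime := ⟨hs⟩
  obtain ⟨j, hj⟩ := hxo
  set D := st a ⊓ st b with hD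
  have hxD : x ∈ D := ⟨twoPart_le _ hxt, hxb⟩
  obtain ⟨w₀, hw₀, hw₀2, t₀, ht₀, ht₀a, hw₀t⟩ := hH.exists_moving hxt hnp
  have hX : D ⊓ centralizer (vee hH.comm a : Set G) = ⊥ := by
    by_contra hne
    exact hw₀t (mem_centralizer_iff.1 (hfac hne w₀ hw₀ hw₀2) t₀ (invol_mem_vee ht₀ ht₀a)).symm
  obtain ⟨k, ⟨co⟩⟩ := hH.exists_coord hab hX
  have hQ : IsPGroup s (zpowers x) := IsPGroup.of_card (n := j) (by rw [Nat.card_zpowers, hj])
  have hQne : zpowers x ≠ ⊥ := by simpa using hx1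
  have hQa : zpowers x ≤ st a := zpowers_le.2 hxD.1
  have hQb : zpowers x ≤ st b := zpowers_le.2 hxD.2
  obtain ⟨t, ht, hta, htQ⟩ := hH.centre_of_not_dvd hsm hQ hQa
  have hxc : Commute x t := commute_of_mem_centralizer htQ
  have hone : ∀ t' : G, orderOf t' = 2 → t' • a = a → Commute x t' → t' = t := fun t' ht' hta' hc =>
    by_contra fun h => hnp ⟨t', t, h, ⟨ht', hta', mem_centralizer_zpowers hc⟩, ht, hta, htQ⟩
  have hcop : Nat.Coprime (co.expo x) k := by
    by_contra hg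
    have h0 : Nat.gcd (co.expo x) k ≠ 0 := fun h => by
      have := (Nat.gcd_eq_zero_iff.1 h).2
      have := co.two_le
      omega
    have hg1 : Nat.gcd (co.expo x) k ≠ 1 := hg
    obtain ⟨t', ht', hta', hc', hne', -⟩ := co.sub x hxD t ht hta hxc _ (Nat.gcd_dvd_right _ _)
      (Nat.gcd_dvd_left _ _) (by omega)
    exact hne' (hone t' ht' hta' hc')
  have hk1 : k ∣ orderOf x := by
    have h := co.expo_pow (dvd_refl k) hxD (orderOf x)
    rw [pow_orderOf_eq_one, co.expo_one (dvd_refl k), ← Nat.cast_mul, eq_comm,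
      ZMod.natCast_eq_zero_iff] at h
    exact hcop.symm.dvd_of_dvd_mul_right h
  have hk2 : orderOf x ∣ k := by
    refine orderOf_dvd_of_pow_eq_one (co.free _ (pow_mem hxD k) ?_ t ht hta (hxc.pow_left k))
    rw [← ZMod.natCast_eq_zero_iff, co.expo_pow (dvd_refl k) hxD, ZMod.natCast_self, zero_mul]
  have hxk : orderOf x = k := Nat.dvd_antisymm hk2 hk1
  have hodd : Odd s := hH.odd_prime hQ hQne hab hQa hQb
  have hj1 : j = 1 := hH.exponent_eq_one hab co hxt hxD hxk (hxk.symm.trans hj) hodd hcop ht hta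
    hxc fun Q => htwo s Q
  subst hj1
  obtain rfl : s = k := by rw [← hxk, hj, pow_one]
  clear hj
  -- the elements of exponent zero
  let f := co.hom (dvd_refl s)
  let C : Subgroup G := f.ker.map D.subtype
  have hmemC : ∀ d, d ∈ C ↔ d ∈ D ∧ s ∣ co.expo d := by
    intro d
    constructor
    · rintro ⟨d', hd', rfl⟩
      have h : f d' = 1 := hd'
      exact ⟨d'.2, (ZMod.natCast_eq_zero_iff _ _).1 (by
        simpa [f, Coord.hom_apply] using h)⟩
    · rintro ⟨hd, hdk⟩
      refine ⟨⟨d, hd⟩, ?_, rfl⟩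
      show f ⟨d, hd⟩ = 1
      rw [Coord.hom_apply, (ZMod.natCast_eq_zero_iff _ _).2 hdk, ofAdd_zero]
  have hCle : C ≤ D := map_subtype_le _
  have hcomm : ∀ c ∈ C, ∀ d ∈ C, Commute c d := fun c hc d hd =>
    co.comm c (hCle hc) d (hCle hd) ((hmemC c).1 hc).2 ((hmemC d).1 hd).2
  have hfree : ∀ c ∈ C, ∀ t : G, orderOf t = 2 → t • a = a → Commute c t → c = 1 :=
    fun c hc => co.free c (hCle hc) ((hmemC c).1 hc).2
  have hxnd : ¬ s ∣ co.expo x := fun h => by
    have h1 := Nat.dvd_gcd h (dvd_refl s)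
    rw [hcop.gcd_eq_one] at h1
    exact hs.one_lt.ne' (Nat.dvd_one.1 h1)
  have hcardA : Nat.card (Multiplicative (ZMod s)) = s := by
    rw [Nat.card_congr Multiplicative.toAdd, Nat.card_zmod]
  -- its order
  have hcard : Nat.card C = numInv H := by
    have hrange : f.range = ⊤ := by
      haveI : Fact (Nat.card (Multiplicative (ZMod s))).Prime := ⟨by rwa [hcardA]⟩
      refine (eq_bot_or_eq_top_of_prime_card f.range).resolve_left fun h => hxnd ?_
      have h1 : f ⟨x, hxD⟩ ∈ f.range := ⟨_, rfl⟩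
      rw [h, mem_bot] at h1
      exact (ZMod.natCast_eq_zero_iff _ _).1 (by simpa [f, Coord.hom_apply] using h1)
    have h1 : Nat.card C * s = Nat.card D := by
      rw [card_map_of_injective D.subtype_injective, ← f.ker.card_mul_index, index_ker, hrange,
        card_top, hcardA]
    have h2 := card_orbit_mul D t (fun u => orderOf u = 2 ∧ u • a = a) fun u =>
      ⟨fun hu => (transOdd_pair hH.se hab).2.2 t u hta ht hu.2 hu.1, by
        rintro ⟨d, hd, rfl⟩
        exact ⟨by rw [Invol.orderOf_conj_eq, ht],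
          by rw [mul_smul, mul_smul, inv_smul_eq_iff.2 hd.1.symm, hta, hd.1]⟩⟩
    have h3 : Nat.card ↥(centralizer ({t} : Set G) ⊓ D) = s := by
      refine le_antisymm ?_ ?_
      · refine hcardA ▸ Nat.card_le_card_of_injective
          (f.comp (Subgroup.inclusion (inf_le_right : centralizer ({t} : Set G) ⊓ D ≤ D)))
          ((injective_iff_map_eq_one _).2 fun d hd => Subtype.ext ?_)
        refine co.free _ d.2.2 ((ZMod.natCast_eq_zero_iff _ _).1 ?_) t ht hta
          (mem_centralizer_singleton_iff.1 d.2.1)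
        simpa [f, Coord.hom_apply] using hd
      · have hle : zpowers x ≤ centralizer ({t} : Set G) ⊓ D :=
          zpowers_le.2 ⟨mem_centralizer_singleton_iff.2 hxc.eq, hxD⟩
        have h := Nat.le_of_dvd Nat.card_pos (card_dvd_of_le hle)
        rwa [Nat.card_zpowers, hxk] at h
    rw [StrongEmbed.card_fix a, h3, ← h1] at h2
    exact (Nat.eq_of_mul_eq_mul_right hs.pos h2).symm
  have htrans : ∀ u u' : G, orderOf u = 2 → u • a = a → orderOf u' = 2 → u' • a = a →
      ∃ c ∈ C, c * u * c⁻¹ = u' := by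
    intro u u' hu hua hu' hua'
    let e : C → {i : G // orderOf i = 2 ∧ i • a = a} := fun c => ⟨c * u * (c : G)⁻¹,
      by rw [Invol.orderOf_conj_eq, hu],
      by rw [mul_smul, mul_smul, inv_smul_eq_iff.2 (hCle c.2).1.symm, hua, (hCle c.2).1]⟩
    have hinj : Function.Injective e := by
      intro c d h
      have h' : (c : G) * u * (c : G)⁻¹ = d * u * (d : G)⁻¹ := congrArg Subtype.val h
      have hdc : Commute ((d : G)⁻¹ * c) u := by
        show (d : G)⁻¹ * c * u = u * ((d : G)⁻¹ * c)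
        calc (d : G)⁻¹ * c * u = (d : G)⁻¹ * ((c : G) * u * (c : G)⁻¹) * c := by group
          _ = u * ((d : G)⁻¹ * c) := by rw [h']; group
      exact (Subtype.ext (inv_mul_eq_one.1 (hfree _ (mul_mem (inv_mem d.2) c.2) u hu hua hdc))).symm
    have hbij : Function.Bijective e := (Nat.bijective_iff_injective_and_card e).2 ⟨hinj, by
      rw [hcard, numInv, StrongEmbed.card_fix a]⟩
    obtain ⟨c, hc⟩ := hbij.2 ⟨u', hu', hua'⟩
    exact ⟨c, c.2, congrArg Subtype.val hc⟩
  have hdecomp : ∀ d ∈ D, ∃ c ∈ C, ∃ i : ℕ, d = c * x ^ i := by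
    intro d hd
    haveI : NeZero s := ⟨hs.ne_zero⟩
    set i := ((co.expo d : ZMod s) * (co.expo x : ZMod s)⁻¹).val with hi
    refine ⟨d * (x ^ i)⁻¹, ?_, i, by group⟩
    have hmem : d * (x ^ i)⁻¹ ∈ D := mul_mem hd (inv_mem (pow_mem hxD i))
    refine (hmemC _).2 ⟨hmem, (ZMod.natCast_eq_zero_iff _ _).1 ?_⟩
    have h := co.expo_mul_of_dvd (dvd_refl s) hmem (pow_mem hxD i)
    rw [inv_mul_cancel_right, co.expo_pow (dvd_refl s) hxD, hi, ZMod.natCast_zmod_val,
      inv_mul_cancel_right₀ (by rwa [Ne, ZMod.natCast_eq_zero_iff])] at h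
    exact right_eq_add.1 h
  have hfpf : ∀ c ∈ C, Commute x c → c = 1 := by
    intro c hc hxcc
    have h := hone (c * t * c⁻¹) (by rw [Invol.orderOf_conj_eq, ht])
      (by rw [mul_smul, mul_smul, inv_smul_eq_iff.2 (hCle hc).1.symm, hta, (hCle hc).1])
      ((hxcc.mul_right hxc).mul_right hxcc.inv_right)
    exact hfree c hc t ht hta (mul_inv_eq_iff_eq_mul.1 h)
  have hfix2 : ∀ y ∈ C, y ≠ 1 → ∀ c : G ⧸ H, y • c = c → c = a ∨ c = b := by
    intro y hy hy1 c hc
    obtain ⟨q, hq, hqd⟩ := Nat.exists_prime_and_dvd fun h => hy1 (orderOf_eq_one_iff.1 h)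
    haveI : Fact q.Prime := ⟨hq⟩
    set y' := y ^ (orderOf y / q) with hy'
    have hy'o : orderOf y' = q := by
      rw [hy', orderOf_pow_orderOf_div (orderOf_pos y).ne' hqd]
    have hy'ne : zpowers y' ≠ ⊥ := by
      intro h
      rw [zpowers_eq_bot] at h
      rw [h, orderOf_one] at hy'o
      exact hq.one_lt.ne hy'o
    have hy'C : y' ∈ C := pow_mem hy _
    refine hH.fix_two (IsPGroup.of_card (n := 1) (by rw [Nat.card_zpowers, hy'o, pow_one])) hy'ne hab
      (zpowers_le.2 (hCle hy'C).1) (zpowers_le.2 (hCle hy'C).2) ?_ c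
      (zpowers_le.2 (pow_mem (show y ∈ st c from hc) _))
    rintro ⟨u, hu, hua, huQ⟩
    have := hfree y' hy'C u hu hua (commute_of_mem_centralizer huQ)
    exact hy'ne (by simpa using this)
  -- the involution
  obtain ⟨v, hv, hva, hvQ⟩ := hH.swap_of_not_dvd hsm hQ hab hQa hQb
  have hvx : Commute v x := (commute_of_mem_centralizer hvQ).symm
  have hvi : v⁻¹ = v := Invol.inv_eq_self hv
  have hvv : v * v = 1 := Invol.mul_self_eq_one hv
  have hvb : v • b = a := by rw [← hva, smul_smul, hvv, one_smul]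
  have hpowC : ∀ d ∈ D, d ^ numInv H = 1 → d ∈ C := fun d hd h => by
    refine (hmemC d).2 ⟨hd, ?_⟩
    have h1 := co.expo_pow (dvd_refl s) hd (numInv H)
    rw [h, co.expo_one (dvd_refl s), ← Nat.cast_mul, eq_comm, ZMod.natCast_eq_zero_iff] at h1
    exact ((Nat.Prime.dvd_mul hs).1 h1).resolve_left hsm
  have hvC : ∀ c ∈ C, v * c * v⁻¹ ∈ C := by
    intro c hc
    refine hpowC _ ⟨?_, ?_⟩ ?_
    · show (v * c * v⁻¹) • a = a
      rw [hvi, mul_smul, mul_smul, hva, (hCle hc).2, hvb]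
    · show (v * c * v⁻¹) • b = b
      rw [hvi, mul_smul, mul_smul, hvb, (hCle hc).1, hva]
    · rw [conj_pow, orderOf_dvd_iff_pow_eq_one.1 (hcard ▸ orderOf_dvd_natCard C hc), mul_one,
        mul_inv_cancel]
  have hvfpf : ∀ c ∈ C, Commute v c → c = 1 := by
    intro c hc hvc
    by_contra hc1
    obtain ⟨e, he⟩ := StrongEmbed.exists_fix hH.se hv
    have hce : c • e = e :=
      StrongEmbed.fix_unique hH.se hv (by rw [smul_smul, hvc.eq, mul_smul, he]) he
    rcases hfix2 c hc hc1 e hce with rfl | rfl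
    · exact hab (he.symm.trans hva)
    · exact hab (hvb.symm.trans he)
  have hinv : ∀ c ∈ C, v * c * v⁻¹ = c⁻¹ := by
    intro c hc
    refine eq_inv_of_mul_eq_one_left ?_
    refine hvfpf _ (mul_mem (hvC c hc) hc) ?_
    have hcc := (hcomm _ (hvC c hc) c hc).eq
    show v * (v * c * v⁻¹ * c) = v * c * v⁻¹ * c * v
    calc v * (v * c * v⁻¹ * c) = v * v * c * v⁻¹ * c := by group
      _ = c * (v * c * v⁻¹) * v := by rw [hvv, hvi, one_mul]; simp [mul_assoc, hvv]
      _ = v * c * v⁻¹ * c * v := by rw [hcc]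
  -- centralizers and normalizer
  have hperm : ∀ g y : G, y ∈ C → y ≠ 1 → g * y * g⁻¹ ∈ C → g ∈ D ∨ g * v ∈ D := by
    intro g y hy hy1 hgy
    have hgy1 : g * y * g⁻¹ ≠ 1 := fun h => hy1 (by
      rwa [mul_inv_eq_one, mul_eq_left] at h)
    have hga := hfix2 _ hgy hgy1 (g • a) (by
      rw [mul_smul, mul_smul, inv_smul_smul, (hCle hy).1])
    have hgb := hfix2 _ hgy hgy1 (g • b) (by
      rw [mul_smul, mul_smul, inv_smul_smul, (hCle hy).2])
    rcases hga with h | h
    · exact Or.inl ⟨h, hgb.resolve_left fun h' => hab (MulAction.injective g (h.trans h'.symm))⟩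
    · refine Or.inr ⟨?_, ?_⟩
      · show (g * v) • a = a
        rw [mul_smul, hva, hgb.resolve_right fun h' => hab (MulAction.injective g (h.trans h'.symm))]
      · show (g * v) • b = b
        rw [mul_smul, hvb, h]
  have hcent : ∀ y ∈ C, y ≠ 1 → centralizer ({y} : Set G) = C := by
    intro y hy hy1
    refine le_antisymm (fun g hg => ?_)
      fun c hc => mem_centralizer_singleton_iff.2 (hcomm c hc y hy).eq
    have hgy : Commute g y := mem_centralizer_singleton_iff.1 hg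
    have hgy' : g * y * g⁻¹ = y := hgy.mul_inv_cancel
    rcases hperm g y hy hy1 (by rwa [hgy']) with hgD | hgD
    · obtain ⟨c, hc, i, rfl⟩ := hdecomp g hgD
      by_cases hi : s ∣ i
      · rwa [orderOf_dvd_iff_pow_eq_one.1 (hxk.symm ▸ hi), mul_one]
      · exfalso
        have hxi : Commute (x ^ i) y := by
          have h1 := (hcomm c hc y hy).inv_left.mul_left hgy
          rwa [inv_mul_cancel_left] at h1
        obtain ⟨n, hn⟩ := exists_pow_eq_self_of_coprime (x := x) (n := i)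
          (by rw [hxk]; exact ((hs.coprime_iff_not_dvd).2 hi).symm)
        exact hy1 (hfpf y hy (hn ▸ hxi.pow_left n))
    · exfalso
      have h1 : g * v * y * (g * v)⁻¹ = y⁻¹ := by
        calc g * v * y * (g * v)⁻¹ = g * (v * y * v⁻¹) * g⁻¹ := by group
          _ = (g * y * g⁻¹)⁻¹ := by rw [hinv y hy]; group
          _ = y⁻¹ := by rw [hgy']
      have h2 : Commute ((g * v) ^ 2) y := by
        rw [Commute, SemiconjBy, ← mul_inv_eq_iff_eq_mul]
        calc (g * v) ^ 2 * y * ((g * v) ^ 2)⁻¹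
            = g * v * (g * v * y * (g * v)⁻¹) * (g * v)⁻¹ := by rw [sq]; group
          _ = (g * v * y * (g * v)⁻¹)⁻¹ := by nth_rewrite 1 [h1]; group
          _ = y := by rw [h1, inv_inv]
      have hoD := odd_pair hH.se hab
      obtain ⟨n, hn⟩ := exists_pow_eq_self_of_coprime (x := g * v) (n := 2)
        (Nat.coprime_two_left.2 (hoD.of_dvd_nat (orderOf_dvd_natCard D hgD)))
      have h3 : Commute (g * v) y := hn ▸ h2.pow_left n
      rw [h3.mul_inv_cancel, eq_inv_iff_mul_eq_one, ← sq] at h1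
      refine hy1 (orderOf_eq_one_iff.1 (Nat.eq_one_of_dvd_coprimes (Nat.coprime_two_left.2
        (hoD.of_dvd_nat (orderOf_dvd_natCard D (hCle hy)))) (orderOf_dvd_of_pow_eq_one h1) ?_))
      exact dvd_rfl
  refine ⟨s, C, x, v, ?_⟩
  exact {
    hyp := hH
    ne := hab
    prime := hs
    odd := hodd
    card_inv := co.card_inv
    le := hCle
    cyclic := co.cyclic C hCle fun d hd => ((hmemC d).1 hd).2
    card := hcard
    trans := htrans
    free := fun c hc hc1 u hu hua hcu => hc1 (hfree c hc u hu hua hcu)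
    mem := hxD
    order := hxk
    norm := mem_norm_iff.2 (cj_eq_of_le (cj_le_iff.2 fun c hc => hpowC _
      (mul_mem (mul_mem hxD (hCle hc)) (inv_mem hxD)) (by
        rw [conj_pow, orderOf_dvd_iff_pow_eq_one.1 (hcard ▸ orderOf_dvd_natCard C hc), mul_one,
          mul_inv_cancel])) le_rfl)
    decomp := hdecomp
    x_fpf := hfpf
    x_one := ⟨t, ht, hta, hxc, hone⟩
    invol := hv
    swap := hva
    inverts := hinv
    commute := hvx
    fix_two := hfix2
    centralizer_eq := hcent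
    normalizer_le := fun g hg => by
      have : Nontrivial C := Finite.one_lt_card_iff_nontrivial.1 (by
        rw [hcard]
        have h4 : 2 ^ 2 ≤ 2 ^ s := Nat.pow_le_pow_right (by norm_num) co.two_le
        have := co.card_inv
        omega)
      obtain ⟨⟨y, hy⟩, hy1⟩ := exists_ne (1 : C)
      exact hperm g y hy (fun h => hy1 (Subtype.ext h)) ((mem_normalizer_iff.1 hg y).1 hy)
    even := ⟨w₀, hw₀, hw₀2, t₀, ht₀, ht₀a, hw₀t⟩ }

end CfsgLib.Bender.Commuting
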