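import Cfsg.Agent.Bender.CoreC6
import Cfsg.Agent.Bender.CoreTop
import Cfsg.Agent.S1221

/-!
Bender's theorem, commuting branch: a strongly embedded subgroup of a group without normal
subgroups of odd order whose involutions commute with each other. The setting and the counts of
involutions fixed by a subgroup of prime power order.
-/

set_option autoImplicit false
set_option linter.unusedSectionVars false
set_option linter.style.haveILetI false

namespace CfsgLib.Bender.Commuting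

open Subgroup
open CfsgLib.FusionLift (cj mem_cj card_cj)
open CfsgLib.Bender.GSide

universe u

/-- A strongly embedded subgroup with commuting involutions in a group without odd core. -/
structure Hyp {G : Type u} [Group G] [Finite G] (H : Subgroup G) : Prop where
  se : Cfsg.IsStronglyEmbedded H
  pair : PairRank G
  odd : Cfsg.oddCore G = ⊥
  comm : Core.CSix.InvolComm H

/-- `H` has a normal `2`-subgroup which is transitive on the other cosets. -/
def Shape {G : Type u} [Group G] (H : Subgroup G) : Prop :=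
  ∃ T : Subgroup G, T ≤ H ∧ H ≤ normalizer (T : Set G) ∧ IsPGroup 2 T ∧
    ∀ g₁ g₂ : G, g₁ ∉ H → g₂ ∉ H → ∃ w ∈ T, g₂⁻¹ * (w * g₁) ∈ H

/-- The statement of the commuting branch for groups of order less than `n`. -/
def ShapeBelow (n : ℕ) : Prop :=
  ∀ (X : Type u) [Group X] [Finite X], Nat.card X < n → ∀ K : Subgroup X, Hyp K → Shape K

variable {G : Type u} [Group G] [Finite G] {H : Subgroup G}

/-- The number of involutions of `H`. -/
noncomputable def numInv (H : Subgroup G) : ℕ := Nat.card {t : G // orderOf t = 2 ∧ t ∈ H}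

/-- `c` is the fixed point of an involution centralizing `Q`. -/
def Centre (Q : Subgroup G) (c : G ⧸ H) : Prop :=
  ∃ t : G, orderOf t = 2 ∧ t • c = c ∧ t ∈ centralizer (Q : Set G)

/-- `c` is the fixed point of two involutions centralizing `Q`. -/
def PairAt (Q : Subgroup G) (c : G ⧸ H) : Prop :=
  ∃ t t' : G, t ≠ t' ∧ (orderOf t = 2 ∧ t • c = c ∧ t ∈ centralizer (Q : Set G)) ∧
    (orderOf t' = 2 ∧ t' • c = c ∧ t' ∈ centralizer (Q : Set G))

theorem PairAt.centre {Q : Subgroup G} {c : G ⧸ H} (h : PairAt Q c) : Centre Q c := by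
  obtain ⟨t, -, -, ht, -⟩ := h
  exact ⟨t, ht⟩

theorem Centre.mono {Q R : Subgroup G} {c : G ⧸ H} (h : Centre R c) (hle : Q ≤ R) : Centre Q c := by
  obtain ⟨t, ht, htc, htR⟩ := h
  exact ⟨t, ht, htc, centralizer_le (fun _ hx => hle hx) htR⟩

theorem PairAt.mono {Q R : Subgroup G} {c : G ⧸ H} (h : PairAt R c) (hle : Q ≤ R) : PairAt Q c := by
  obtain ⟨t, t', hne, ⟨ht, htc, htR⟩, ht', htc', htR'⟩ := h
  exact ⟨t, t', hne, ⟨ht, htc, centralizer_le (fun _ hx => hle hx) htR⟩,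
    ht', htc', centralizer_le (fun _ hx => hle hx) htR'⟩

/-- Elements of a normalizer move centres to centres. -/
theorem Centre.smul {Q : Subgroup G} {c : G ⧸ H} (h : Centre Q c) {g : G}
    (hg : g ∈ normalizer (Q : Set G)) : Centre Q (g • c) := by
  obtain ⟨t, ht, htc, htQ⟩ := h
  refine ⟨g * t * g⁻¹, by rw [Invol.orderOf_conj_eq, ht],
    by rw [mul_smul, mul_smul, inv_smul_smul, htc], mem_centralizer_iff.2 fun q hq => ?_⟩
  have hq' : g⁻¹ * q * g ∈ (Q : Set G) := by
    have := (mem_normalizer_iff.1 (inv_mem hg) q).1 hq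
    simpa using this
  calc q * (g * t * g⁻¹) = g * ((g⁻¹ * q * g) * t) * g⁻¹ := by group
    _ = g * (t * (g⁻¹ * q * g)) * g⁻¹ := by rw [mem_centralizer_iff.1 htQ _ hq']
    _ = g * t * g⁻¹ * q := by group

/-- An `s`-group acting by conjugation on a set fixes as many of its elements, modulo `s`. -/
theorem card_modEq_centralizer {s : ℕ} [Fact s.Prime] {Q : Subgroup G} (hQ : IsPGroup s Q)
    (P : G → Prop) (hP : ∀ q ∈ Q, ∀ x, P x → P (q * x * q⁻¹)) :
    Nat.card {x // P x} ≡ Nat.card {x // P x ∧ x ∈ centralizer (Q : Set G)} [MOD s] := by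
  letI : MulAction Q {x // P x} :=
    { smul := fun q x => ⟨(q : G) * x.1 * (q : G)⁻¹, hP q q.2 x x.2⟩
      one_smul := fun x => Subtype.ext (by
        show ((1 : Q) : G) * x.1 * ((1 : Q) : G)⁻¹ = x.1
        simp)
      mul_smul := fun p q x => Subtype.ext (by
        show ((p * q : Q) : G) * x.1 * ((p * q : Q) : G)⁻¹ =
          (p : G) * ((q : G) * x.1 * (q : G)⁻¹) * (p : G)⁻¹
        rw [coe_mul]
        group) }
  have h := hQ.card_modEq_card_fixedPoints {x // P x}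
  have e : MulAction.fixedPoints Q {x // P x} ≃ {x // P x ∧ x ∈ centralizer (Q : Set G)} :=
      { toFun := fun x => ⟨x.1.1, x.1.2, mem_centralizer_iff.2 fun q hq => by
          have h1 : q * x.1.1 * q⁻¹ = x.1.1 := congrArg Subtype.val (x.2 ⟨q, hq⟩)
          calc q * x.1.1 = q * x.1.1 * q⁻¹ * q := by group
            _ = x.1.1 * q := by rw [h1]⟩
        invFun := fun x => ⟨⟨x.1, x.2.1⟩, fun q => Subtype.ext (by
          show (q : G) * x.1 * (q : G)⁻¹ = x.1
          rw [mem_centralizer_iff.1 x.2.2 q q.2, mul_inv_cancel_right])⟩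
        left_inv := fun _ => rfl
        right_inv := fun _ => rfl }
  rwa [Nat.card_congr e] at h

/-- `Q` fixing `c` and normalized by an involution at `c` is centralized by it. -/
theorem mem_centralizer_of_normalizes (hV : Core.CSix.InvolComm H) {Q : Subgroup G}
    (hodd : Odd (Nat.card Q)) {c : G ⧸ H} (hQc : Q ≤ st c) {v : G} (hv : orderOf v = 2)
    (hvc : v • c = c) (hvQ : v ∈ normalizer (Q : Set G)) : v ∈ centralizer (Q : Set G) := by
  refine mem_centralizer_iff.2 fun q hq => ?_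
  have hqc : q • c = c := hQc hq
  have hw2 : orderOf (q * v * q⁻¹) = 2 := by rw [Invol.orderOf_conj_eq, hv]
  have hwc : (q * v * q⁻¹) • c = c := by
    rw [mul_smul, mul_smul, inv_smul_eq_iff.2 hqc.symm, hvc, hqc]
  have hc := hV c _ _ hw2 hv hwc hvc
  have hx2 : (q * v * q⁻¹ * v) ^ 2 = 1 := by
    rw [hc.mul_pow, sq, sq, Invol.mul_self_eq_one hw2, Invol.mul_self_eq_one hv, one_mul]
  have hxQ : q * v * q⁻¹ * v ∈ Q := by
    have h1 := (mem_normalizer_iff.1 hvQ q⁻¹).1 (inv_mem hq)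
    rw [Invol.inv_eq_self hv] at h1
    rw [mul_assoc q v q⁻¹, mul_assoc q]
    exact mul_mem hq h1
  have hx1 : q * v * q⁻¹ * v = 1 := by
    obtain ⟨l, hl⟩ := hodd.of_dvd_nat (orderOf_dvd_natCard Q hxQ)
    have h1 := pow_orderOf_eq_one (q * v * q⁻¹ * v)
    rwa [hl, pow_succ, pow_mul, hx2, one_pow, one_mul] at h1
  rw [mul_eq_one_iff_eq_inv, Invol.inv_eq_self hv, mul_inv_eq_iff_eq_mul] at hx1
  exact hx1

section Hyp

variable (hH : Hyp H)
include hH

/-- A strongly embedded subgroup contains no nontrivial normal subgroup. -/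
theorem Hyp.normalCore_eq_bot : H.normalCore = ⊥ := by
  obtain ⟨g, hg⟩ : ∃ g : G, g ∉ H := by
    by_contra h
    push Not at h
    exact hH.se.1 (eq_top_iff.2 fun x _ => h x)
  refine le_bot_iff.1 (hH.odd ▸ Core.le_oddCore H.normalCore_normal ?_)
  refine (hH.se.2.2 g hg).of_dvd_nat (card_dvd_of_le fun x hx => ⟨H.normalCore_le hx, ?_⟩)
  exact ⟨g⁻¹ * x * g, H.normalCore_le (by simpa using H.normalCore_normal.conj_mem x hx g⁻¹),
    by simp [mul_assoc]⟩

/-- The odd core of `H` is trivial. -/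
theorem Hyp.oddCore_eq_bot : Cfsg.oddCore H = ⊥ := by
  have h := Cfsg.Agent.S1221.result H hH.se
  rw [hH.odd, le_bot_iff] at h
  exact (map_eq_bot_iff_of_injective _ H.subtype_injective).1 h

/-- An odd normal subgroup of `H` is trivial. -/
theorem Hyp.eq_bot_of_normal {U : Subgroup G} (hU : U ≤ H) (hn : H ≤ normalizer (U : Set G))
    (hodd : Odd (Nat.card U)) : U = ⊥ := by
  haveI : (U.subgroupOf H).Normal := (normal_subgroupOf_iff_le_normalizer hU).2 hn
  have h : U.subgroupOf H ≤ Cfsg.oddCore H := Core.le_oddCore inferInstance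
    (by rwa [Nat.card_congr (subgroupOfEquivOfLe hU).toEquiv])
  rw [hH.oddCore_eq_bot, le_bot_iff, subgroupOf_eq_bot, disjoint_of_le_iff_left_eq_bot hU] at h
  exact h

/-- A nontrivial subgroup of a point stabilizer does not fix all points. -/
theorem Hyp.exists_not_fixed {Q : Subgroup G} (hne : Q ≠ ⊥) : ∃ x : G ⧸ H, ¬ Q ≤ st x := by
  by_contra h
  push Not at h
  refine hne (le_bot_iff.1 (hH.normalCore_eq_bot ▸ fun q hq g => ?_))
  have h1 : q • (g⁻¹ • (QuotientGroup.mk 1 : G ⧸ H)) = g⁻¹ • QuotientGroup.mk 1 := h _ hq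
  rw [← StrongEmbed.smul_mk_one_iff (H := H), mul_smul, mul_smul, h1, smul_inv_smul]

/-- The normalizer of a nontrivial subgroup of a point stabilizer is proper. -/
theorem Hyp.normalizer_ne_top {Q : Subgroup G} (hne : Q ≠ ⊥) {x : G ⧸ H} (hx : Q ≤ st x) :
    normalizer (Q : Set G) ≠ ⊤ := by
  intro h
  obtain ⟨y, hy⟩ := hH.exists_not_fixed hne
  obtain ⟨g, rfl⟩ := exists_smul x y
  exact hy (le_st_smul_of_norm (h ▸ mem_top g) hx)

/-- The centralizer of a nontrivial subgroup of a point stabilizer is proper. -/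
theorem Hyp.centralizer_ne_top {Q : Subgroup G} (hne : Q ≠ ⊥) {x : G ⧸ H} (hx : Q ≤ st x) :
    centralizer (Q : Set G) ≠ ⊤ := fun h =>
  hH.normalizer_ne_top hne hx (eq_top_iff.2 (h ▸ centralizer_le_normalizer (Q : Set G)))

theorem Hyp.odd_card {Q : Subgroup G} {a b : G ⧸ H} (hab : a ≠ b) (ha : Q ≤ st a) (hb : Q ≤ st b) :
    Odd (Nat.card Q) :=
  (odd_pair hH.se hab).of_dvd_nat (card_dvd_of_le (le_inf ha hb))

/-- The prime of a nontrivial subgroup fixing two points is odd. -/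
theorem Hyp.odd_prime {s : ℕ} [Fact s.Prime] {Q : Subgroup G} (hQ : IsPGroup s Q) (hne : Q ≠ ⊥)
    {a b : G ⧸ H} (hab : a ≠ b) (ha : Q ≤ st a) (hb : Q ≤ st b) : Odd s := by
  obtain ⟨l, hl⟩ := IsPGroup.iff_card.1 hQ
  have hodd := hH.odd_card hab ha hb
  rcases Nat.eq_zero_or_pos l with rfl | hl0
  · exact absurd (card_eq_one.1 (by rw [hl, pow_zero])) hne
  · exact hodd.of_dvd_nat (hl ▸ dvd_pow_self s hl0.ne')

theorem Hyp.numInv_pos : 0 < numInv H := by
  obtain ⟨t, ht, ht2⟩ := StrongEmbed.exists_invol hH.se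
  haveI : Nonempty {t : G // orderOf t = 2 ∧ t ∈ H} := ⟨⟨t, ht2, ht⟩⟩
  exact Nat.card_pos

/-- Involutions centralizing `Q` at a fixed point of `Q`, modulo `s`. -/
theorem Hyp.card_centre_modEq {s : ℕ} [Fact s.Prime] {Q : Subgroup G} (hQ : IsPGroup s Q)
    {c : G ⧸ H} (hQc : Q ≤ st c) :
    numInv H ≡ Nat.card {t : G // (orderOf t = 2 ∧ t • c = c) ∧ t ∈ centralizer (Q : Set G)}
      [MOD s] := by
  rw [numInv, ← StrongEmbed.card_fix c]
  refine card_modEq_centralizer hQ _ fun q hq t ht => ?_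
  have hqc : q • c = c := hQc hq
  exact ⟨by rw [Invol.orderOf_conj_eq, ht.1],
    by rw [mul_smul, mul_smul, inv_smul_eq_iff.2 hqc.symm, ht.2, hqc]⟩

/-- If `s` does not divide the number of involutions, every fixed point is a centre. -/
theorem Hyp.centre_of_not_dvd {s : ℕ} [Fact s.Prime] (hs : ¬ s ∣ numInv H) {Q : Subgroup G}
    (hQ : IsPGroup s Q) {c : G ⧸ H} (hQc : Q ≤ st c) : Centre Q c := by
  have h := hH.card_centre_modEq hQ hQc
  obtain ⟨hne, -⟩ : Nonempty _ ∧ Finite _ := Nat.card_pos_iff.1 (Nat.pos_of_ne_zero fun h0 => hs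
    (Nat.modEq_zero_iff_dvd.1 (by rw [h0] at h; exact h)))
  obtain ⟨t, ⟨ht, htc⟩, htQ⟩ := hne
  exact ⟨t, ht, htc, htQ⟩

/-- If `s` does not divide the number of involutions, an involution centralizing `Q` swaps any two
fixed points. -/
theorem Hyp.swap_of_not_dvd {s : ℕ} [Fact s.Prime] (hs : ¬ s ∣ numInv H) {Q : Subgroup G}
    (hQ : IsPGroup s Q) {a b : G ⧸ H} (hab : a ≠ b) (ha : Q ≤ st a) (hb : Q ≤ st b) :
    ∃ v : G, orderOf v = 2 ∧ v • a = b ∧ v ∈ centralizer (Q : Set G) := by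
  have h := card_modEq_centralizer hQ (fun x => orderOf x = 2 ∧ x • a = b) fun q hq t ht =>
    ⟨by rw [Invol.orderOf_conj_eq, ht.1], by
      rw [mul_smul, mul_smul, inv_smul_eq_iff.2 (ha hq : q • a = a).symm, ht.2]
      exact hb hq⟩
  rw [StrongEmbed.card_swap hH.se hab] at h
  obtain ⟨hne, -⟩ : Nonempty {x : G // (orderOf x = 2 ∧ x • a = b) ∧ x ∈ centralizer (Q : Set G)} ∧
      Finite _ := Nat.card_pos_iff.1 (Nat.pos_of_ne_zero fun h0 => hs
    (Nat.modEq_zero_iff_dvd.1 (by rw [h0] at h; exact h)))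
  obtain ⟨t, ⟨ht, htc⟩, htQ⟩ := hne
  exact ⟨t, ht, htc, htQ⟩

/-- If `s` divides the number of involutions, a centre is the fixed point of two involutions. -/
theorem Hyp.pairAt_of_dvd {s : ℕ} [Fact s.Prime] (hs : s ∣ numInv H) {Q : Subgroup G}
    (hQ : IsPGroup s Q) {c : G ⧸ H} (hQc : Q ≤ st c) (hc : Centre Q c) : PairAt Q c := by
  obtain ⟨t, ht, htc, htQ⟩ := hc
  have h := (Nat.modEq_zero_iff_dvd.1 ((hH.card_centre_modEq hQ hQc).symm.trans
    (Nat.modEq_zero_iff_dvd.2 hs)))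
  haveI : Nonempty {t : G // (orderOf t = 2 ∧ t • c = c) ∧ t ∈ centralizer (Q : Set G)} :=
    ⟨⟨t, ⟨ht, htc⟩, htQ⟩⟩
  have h2 : 2 ≤ Nat.card {t : G // (orderOf t = 2 ∧ t • c = c) ∧ t ∈ centralizer (Q : Set G)} :=
    (Fact.out : s.Prime).two_le.trans (Nat.le_of_dvd Nat.card_pos h)
  haveI := (Finite.one_lt_card_iff_nontrivial).1 h2
  obtain ⟨⟨t', ⟨ht', htc'⟩, htQ'⟩, hne⟩ := exists_ne
    (⟨t, ⟨ht, htc⟩, htQ⟩ : {t : G // (orderOf t = 2 ∧ t • c = c) ∧ t ∈ centralizer (Q : Set G)})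
  exact ⟨t', t, fun h => hne (Subtype.ext h), ⟨ht', htc', htQ'⟩, ht, htc, htQ⟩

/-- A Sylow subgroup of a two-point stabilizer has no centre if `s` divides the number of
involutions. -/
theorem Hyp.not_centre_syl {s : ℕ} [Fact s.Prime] (hs : s ∣ numInv H) {Q : Subgroup G}
    {a b : G ⧸ H} (hab : a ≠ b) (hQ : Syl s (st a ⊓ st b) Q) : ¬ Centre Q a := by
  rintro ⟨t, ht, hta, htQ⟩
  have h := card_orbit_mul (st a ⊓ st b) t (fun x => orderOf x = 2 ∧ x • a = a) fun x =>
    ⟨fun hx => (transOdd_pair hH.se hab).2.2 t x hta ht hx.2 hx.1, by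
      rintro ⟨k, hk, rfl⟩
      exact ⟨by rw [Invol.orderOf_conj_eq, ht],
        by rw [mul_smul, mul_smul, inv_smul_eq_iff.2 hk.1.symm, hta, hk.1]⟩⟩
  rw [StrongEmbed.card_fix a, show Nat.card {t : G // orderOf t = 2 ∧ t ∈ H} = numInv H from rfl]
    at h
  have hQC : Q ≤ centralizer ({t} : Set G) ⊓ (st a ⊓ st b) := le_inf
    (fun q hq => mem_centralizer_singleton_iff.2 (mem_centralizer_iff.1 htQ q hq)) hQ.1
  refine syl_not_dvd hQ ?_
  obtain ⟨e, he⟩ := card_dvd_of_le hQC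
  have h1 : Q.relIndex (st a ⊓ st b) * Nat.card Q = Nat.card ↥(st a ⊓ st b) := by
    rw [← relIndex_bot_left Q, ← relIndex_bot_left (st a ⊓ st b), mul_comm]
    exact relIndex_mul_relIndex ⊥ Q _ bot_le hQ.1
  obtain ⟨l, hl⟩ := hs
  refine ⟨l * e, Nat.eq_of_mul_eq_mul_right (Nat.card_pos (α := Q)) ?_⟩
  rw [h1, ← h, he, hl]
  ring

end Hyp

end CfsgLib.Bender.Commuting
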