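import Cfsg.Agent.Bender.Commuting.Config
import Cfsg.Agent.Bender.Dichotomy
import Cfsg.Agent.Char.PermChar
import Cfsg.Agent.Char.Generalized
import Cfsg.Agent.Char.ClassProducts

/-!
Bender's theorem, commuting branch: the class function induced from the permutation character of a
point stabilizer on its involutions, in the configuration left by the transfer arguments.
-/

set_option autoImplicit false
set_option linter.unusedSectionVars false
set_option linter.style.haveILetI false

namespace CfsgLib.Bender.Commuting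

open Subgroup
open CfsgLib.Bender.GSide
open CfsgLib.Char
open scoped ComplexConjugate

universe u

section General

variable {G : Type u} [Group G]

/-- The permutation character of a transitive action, minus one, is a character. -/
theorem isCharacter_fix_sub_one [Fintype G] {X : Type*} [MulAction G X] [Finite X]
    [MulAction.IsPretransitive G X] (x : X) :
    Cfsg.IsCharacter G (fun g => (Nat.card (MulAction.fixedBy X g) : ℂ) - 1) := by
  classical
  set K := MulAction.stabilizer G x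
  have e : Cfsg.indFun K (fun _ => 1) = fun g : G => (Nat.card (MulAction.fixedBy X g) : ℂ) :=
    indFun_one_stabilizer x
  have hπ : Cfsg.IsCharacter G (Cfsg.indFun K (fun _ => 1)) := IsCharacter.indFun isCharacter_one
  rw [show (fun g => (Nat.card (MulAction.fixedBy X g) : ℂ) - 1) =
    Cfsg.indFun K (fun _ => 1) - (fun _ : G => (1 : ℂ)) by rw [e]; rfl]
  refine isCharacter_of_classInner_nat (IsGeneralized.isClassFunction
    (IsGeneralized.sub (IsCharacter.isGeneralized hπ) isGeneralized_one)) fun χ hχ => ?_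
  rw [classInner_sub_left]
  by_cases h : χ = fun _ => (1 : ℂ)
  · refine ⟨0, ?_⟩
    subst h
    rw [classInner_indFun _ (IsIrrCharacter.isClassFunction hχ),
      classInner_one_one (G := K), classInner_one_one (G := G), sub_self, Nat.cast_zero]
  · rw [IsIrrCharacter.classInner_of_ne isIrrCharacter_one hχ (Ne.symm h), sub_zero]
    exact IsCharacter.exists_classInner_eq_natCast' hπ (IsIrrCharacter.isCharacter hχ)

variable {K : Subgroup G}

/-- The extension of a class function by zero is invariant under conjugation by the subgroup. -/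
theorem extendByZero_conj {θ : K → ℂ} (hθ : Cfsg.IsClassFunction K θ) {h : G} (hh : h ∈ K) (g : G) :
    Cfsg.extendByZero K θ (h⁻¹ * g * h) = Cfsg.extendByZero K θ g := by
  by_cases hg : g ∈ K
  · rw [extendByZero_of_mem θ hg, extendByZero_of_mem θ (mul_mem (mul_mem (inv_mem hh) hg) hh),
      ← hθ ⟨g, hg⟩ ⟨h, hh⟩⁻¹]
    congr 1
    ext
    simp
  · rw [extendByZero_of_not_mem θ hg, extendByZero_of_not_mem θ fun hc => hg ?_]
    simpa [mul_assoc] using mul_mem (mul_mem hh hc) (inv_mem hh)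

/-- The number of elements of a coset. -/
theorem sum_coset [Fintype G] (K : Subgroup G) (g : G) [DecidablePred (· ∈ K)] (z : ℂ) :
    (∑ x : G, if g⁻¹ * x ∈ K then z else 0) = (Nat.card K : ℂ) * z := by
  rw [← Equiv.sum_comp (Equiv.mulLeft g) (fun x => if g⁻¹ * x ∈ K then z else 0)]
  simp only [Equiv.coe_mulLeft, inv_mul_cancel_left]
  rw [← Finset.sum_filter, Finset.sum_const, nsmul_eq_mul, Nat.card_eq_fintype_card,
    Fintype.card_subtype]

/-- The norm of an induced class function when there are two double cosets. -/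
theorem classInner_indFun_two [Fintype G] [Fintype K] {θ : K → ℂ}
    (hθ : Cfsg.IsClassFunction K θ) (v : G)
    (hdc : ∀ g : G, g ∉ K → ∃ h ∈ K, ∃ h' ∈ K, g = h * v * h') {d : ℕ}
    (hd : (K.index - 1) * d = Nat.card K) :
    Cfsg.classInner (Cfsg.indFun K θ) (Cfsg.indFun K θ) = Cfsg.classInner θ θ +
      (d : ℂ)⁻¹ * ∑ h : K, θ h * conj (Cfsg.extendByZero K θ (v⁻¹ * h * v)) := by
  classical
  set F : G → ℂ := fun x => ∑ h : K, θ h * conj (Cfsg.extendByZero K θ (x⁻¹ * h * x)) with hF
  have hin : ∀ x ∈ K, F x = ∑ h : K, θ h * conj (θ h) := fun x hx =>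
    Finset.sum_congr rfl fun h _ => by
      rw [extendByZero_conj hθ hx, extendByZero_of_mem θ h.2]
  have hout : ∀ x, x ∉ K → F x = F v := fun x hx => by
    obtain ⟨h₁, hh₁, h₂, hh₂, rfl⟩ := hdc x hx
    refine Fintype.sum_equiv (MulAut.conj (⟨h₁, hh₁⟩ : K)⁻¹).toEquiv _
      (fun h : K => θ h * conj (Cfsg.extendByZero K θ (v⁻¹ * h * v))) fun h => ?_
    have e1 : ((MulAut.conj (⟨h₁, hh₁⟩ : K)⁻¹).toEquiv h : G) = h₁⁻¹ * h * h₁ := by simp
    have e2 : θ ((MulAut.conj (⟨h₁, hh₁⟩ : K)⁻¹).toEquiv h) = θ h := by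
      simpa using hθ h (⟨h₁, hh₁⟩ : K)⁻¹
    rw [show (h₁ * v * h₂)⁻¹ * (h : G) * (h₁ * v * h₂) =
      h₂⁻¹ * (v⁻¹ * (h₁⁻¹ * h * h₁) * v) * h₂ by group, extendByZero_conj hθ hh₂, e1, e2]
  have hKpos : (Nat.card K : ℂ) ≠ 0 := Nat.cast_ne_zero.2 Nat.card_pos.ne'
  have hdpos : (d : ℂ) ≠ 0 := by
    refine Nat.cast_ne_zero.2 fun h0 => ?_
    rw [h0, mul_zero] at hd
    exact Nat.card_pos.ne' hd.symm
  have hsum : ∑ x : G, F x = (Nat.card K : ℂ) * (∑ h : K, θ h * conj (θ h)) +
      ((K.index - 1 : ℕ) : ℂ) * (Nat.card K : ℂ) * F v := by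
    rw [← Finset.sum_filter_add_sum_filter_not _ (fun x => x ∈ K)]
    congr 1
    · rw [Finset.sum_congr rfl fun x hx => hin x (Finset.mem_filter.1 hx).2, Finset.sum_const,
        nsmul_eq_mul, Nat.card_eq_fintype_card (α := K), Fintype.card_subtype]
    · rw [Finset.sum_congr rfl fun x hx => hout x (Finset.mem_filter.1 hx).2, Finset.sum_const,
        nsmul_eq_mul, ← Nat.cast_mul]
      congr 2
      have h1 := Finset.card_filter_add_card_filter_not (s := (Finset.univ : Finset G))
        (fun x => x ∈ K)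
      have h2 := K.index_mul_card
      rw [Finset.card_univ, ← Nat.card_eq_fintype_card, ← h2, ← Fintype.card_subtype,
        ← Nat.card_eq_fintype_card] at h1
      rw [Nat.sub_mul, one_mul]
      omega
  rw [classInner_indFun θ (isClassFunction_indFun K θ), classInner_def, classInner_def]
  simp only [indFun_def, map_mul, map_inv₀, Complex.conj_natCast, map_sum, Finset.mul_sum]
  rw [Finset.sum_comm]
  have hterm : ∀ x : G, ∀ h : K, (Nat.card K : ℂ)⁻¹ * (θ h * ((Nat.card K : ℂ)⁻¹ *
      conj (Cfsg.extendByZero K θ (x⁻¹ * h * x)))) = ((Nat.card K : ℂ)⁻¹ * (Nat.card K : ℂ)⁻¹) *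
        (θ h * conj (Cfsg.extendByZero K θ (x⁻¹ * h * x))) := fun x h => by ring
  simp only [hterm, ← Finset.mul_sum]
  change _ * ∑ x : G, F x = _ + _ * F v
  have hd' : ((K.index - 1 : ℕ) : ℂ) * (d : ℂ) = (Nat.card K : ℂ) := by exact_mod_cast hd
  rw [hsum]
  generalize ∑ h : K, θ h * conj (θ h) = A
  generalize F v = B
  field_simp
  rw [← hd']
  ring

end General

variable {G : Type u} [Group G] [Finite G] {H : Subgroup G}

/-- The extension of `psi` by zero. -/
noncomputable def psiZero (a : G ⧸ H) : G → ℂ := Cfsg.extendByZero (st a) (psi a)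

theorem psiZero_of_fix {a : G ⧸ H} {g : G} (hg : g • a = a) :
    psiZero a g = (Nat.card {t : G // orderOf t = 2 ∧ t • a = a ∧ Commute g t} : ℂ) - 1 :=
  extendByZero_of_mem (psi a) (show g ∈ st a from hg)

theorem psiZero_of_not_fix {a : G ⧸ H} {g : G} (hg : g • a ≠ a) : psiZero a g = 0 :=
  extendByZero_of_not_mem (psi a) (show g ∉ st a from hg)

theorem card_inv_at (a : G ⧸ H) : Nat.card {t : G // orderOf t = 2 ∧ t • a = a} = numInv H :=
  StrongEmbed.card_fix a

theorem psiZero_one (a : G ⧸ H) : psiZero a 1 = (numInv H : ℂ) - 1 := by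
  rw [psiZero_of_fix (one_smul G a)]
  congr 2
  rw [← card_inv_at a]
  exact Nat.card_congr (Equiv.subtypeEquivRight fun t => by simp)

theorem psiZero_invol (hH : Hyp H) {a : G ⧸ H} {s : G} (hs : orderOf s = 2) (hsa : s • a = a) :
    psiZero a s = (numInv H : ℂ) - 1 := by
  rw [psiZero_of_fix hsa]
  congr 2
  rw [← card_inv_at a]
  exact Nat.card_congr (Equiv.subtypeEquivRight fun t =>
    ⟨fun h => ⟨h.1, h.2.1⟩, fun h => ⟨h.1, h.2, hH.comm a s t hs h.1 hsa h.2⟩⟩)

/-- Multiplying by an involution at `a` does not change `psi`. -/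
theorem psiZero_mul_invol (hH : Hyp H) {a : G ⧸ H} {g v : G} (hg : g • a = a) (hv : orderOf v = 2)
    (hva : v • a = a) : psiZero a (g * v) = psiZero a g := by
  rw [psiZero_of_fix hg, psiZero_of_fix (by rw [mul_smul, hva, hg])]
  congr 2
  refine Nat.card_congr (Equiv.subtypeEquivRight fun t => ?_)
  refine and_congr_right fun ht => and_congr_right fun hta => ?_
  have hc := hH.comm a v t hv ht hva hta
  refine ⟨fun h => ?_, fun h => h.mul_left hc⟩
  simpa [mul_assoc] using h.mul_left hc.inv_left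

variable {a b : G ⧸ H} {k : ℕ} {C : Subgroup G} {x v : G} (cfg : Config H a b k C x v)
include cfg

theorem Config.mem_a {c : G} (hc : c ∈ C) : c • a = a := (cfg.le hc).1

theorem Config.mem_b {c : G} (hc : c ∈ C) : c • b = b := (cfg.le hc).2

theorem Config.swap' : v • b = a := swap_back cfg.invol cfg.swap

theorem Config.inv_v : v⁻¹ = v := Invol.inv_eq_self cfg.invol

theorem Config.three_le : 3 ≤ numInv H := by
  have h1 := cfg.card_inv
  have h2 : 2 ^ 2 ≤ 2 ^ k := Nat.pow_le_pow_right (by norm_num) cfg.prime.two_le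
  omega

/-- `k` divides the number of involutions less one. -/
theorem Config.dvd_sub_one : k ∣ numInv H - 1 := by
  haveI : Fact k.Prime := ⟨cfg.prime⟩
  have h : ((2 ^ k : ℕ) : ZMod k) = ((2 : ℕ) : ZMod k) := by
    push_cast
    exact ZMod.pow_card 2
  have h2 : 2 ≤ 2 ^ k := by
    calc 2 = 2 ^ 1 := rfl
      _ ≤ 2 ^ k := Nat.pow_le_pow_right (by norm_num) cfg.prime.one_lt.le
  rw [ZMod.natCast_eq_natCast_iff, Nat.ModEq.comm, Nat.modEq_iff_dvd' h2, ← cfg.card_inv] at h
  rwa [show numInv H + 1 - 2 = numInv H - 1 by omega] at h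

/-- A point stabilizer is transitive on the other points. -/
theorem Config.exists_move {b' : G ⧸ H} (hb : b' ≠ a) : ∃ h ∈ st a, h • b = b' := by
  obtain ⟨g₀, hg₀⟩ := exists_smul (QuotientGroup.mk 1 : G ⧸ H) a
  have key : ∀ c : G ⧸ H, c ≠ a → ∃ g : G, g ∉ H ∧ g₀ • (QuotientGroup.mk g : G ⧸ H) = c := by
    intro c hc
    obtain ⟨g, hg⟩ := QuotientGroup.mk_surjective (g₀⁻¹ • c)
    refine ⟨g, fun hgH => hc ?_, by rw [hg, smul_inv_smul]⟩
    rw [← hg₀, ← inv_smul_eq_iff, ← hg]
    exact (QuotientGroup.eq.2 (by simpa using hgH)).symm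
  obtain ⟨g₁, h₁, e₁⟩ := key b cfg.ne.symm
  obtain ⟨g₂, h₂, e₂⟩ := key b' hb
  obtain ⟨h, hh, he⟩ := two_transitive_of_pair cfg.hyp.se cfg.hyp.pair g₁ g₂ h₁ h₂
  refine ⟨g₀ * h * g₀⁻¹, ?_, ?_⟩
  · show (g₀ * h * g₀⁻¹) • a = a
    rw [mul_smul, mul_smul, inv_smul_eq_iff.2 hg₀.symm, StrongEmbed.smul_mk_one_iff.2 hh, hg₀]
  · rw [← e₁, mul_smul, mul_smul, inv_smul_smul, ← e₂]
    congr 1
    rw [MulAction.Quotient.smul_mk, smul_eq_mul]
    exact (QuotientGroup.eq.2 he).symm

theorem Config.double_coset {g : G} (hg : g ∉ st a) :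
    ∃ h ∈ st a, ∃ h' ∈ st a, g = h * v * h' := by
  obtain ⟨h, hh, hb⟩ := cfg.exists_move (b' := g • a) hg
  refine ⟨h, hh, (h * v)⁻¹ * g, ?_, by group⟩
  show ((h * v)⁻¹ * g) • a = a
  rw [mul_smul, inv_smul_eq_iff, mul_smul, cfg.swap, hb]

theorem Config.index_eq : (st a).index = H.index := by
  rw [MulAction.index_stabilizer_of_transitive, index_eq_card]

/-- The point stabilizer in terms of the degree and the two-point stabilizer. -/
theorem Config.card_st :
    ((st a).index - 1) * Nat.card ↥(st a ⊓ st b) = Nat.card (st a) := by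
  have h1 : MulAction.stabilizer (st a) b = (st a ⊓ st b).subgroupOf (st a) := by
    ext g
    simp only [MulAction.mem_stabilizer_iff, mem_subgroupOf, mem_inf]
    exact ⟨fun h => ⟨g.2, h⟩, fun h => h.2⟩
  have h2 : MulAction.orbit (st a) b = {c : G ⧸ H | c ≠ a} := by
    ext c
    constructor
    · rintro ⟨g, rfl⟩ h
      exact cfg.ne.symm (MulAction.injective (g : G) (h.trans (show (g : G) • a = a from g.2).symm))
    · intro hc
      obtain ⟨h, hh, he⟩ := cfg.exists_move hc
      exact ⟨⟨h, hh⟩, he⟩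
  have h3 := MulAction.index_stabilizer (st a) b
  rw [h1, h2, show {c : G ⧸ H | c ≠ a} = ({a} : Set (G ⧸ H))ᶜ from rfl, Set.ncard_compl,
    Set.ncard_singleton] at h3
  rw [cfg.index_eq, index_eq_card, ← h3, ← Nat.card_congr (subgroupOfEquivOfLe inf_le_left).toEquiv]
  exact index_mul_card _

theorem Config.pow_eq_one_of_mem {i : ℕ} (h : x ^ i ∈ C) : x ^ i = 1 :=
  cfg.x_fpf _ h (Commute.self_pow x i)

/-- The powers of `x` that are not trivial generate the same group. -/
theorem Config.commute_of_pow {i : ℕ} (hi : x ^ i ≠ 1) {z : G} (h : Commute (x ^ i) z) :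
    Commute x z := by
  obtain ⟨j, hj⟩ := exists_pow_eq_self_of_coprime (x := x) (n := i) (by
    rw [cfg.order]
    exact ((cfg.prime.coprime_iff_not_dvd).2 fun hd => hi (orderOf_dvd_iff_pow_eq_one.1
      (cfg.order.symm ▸ hd))).symm)
  rw [← hj]
  exact h.pow_left j

/-- Elements of the two-point stabilizer outside `C` fix one involution. -/
theorem Config.psiZero_outside {c : G} (hc : c ∈ C) {i : ℕ} (hi : x ^ i ≠ 1) :
    psiZero a (c * x ^ i) = 0 := by
  have hxa : (x ^ i) • a = a := show x ^ i ∈ st a from pow_mem cfg.mem.1 i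
  have hmem : ∀ e : C, (e : G) * x ^ i * (e : G)⁻¹ * (x ^ i)⁻¹ ∈ C := fun e => by
    rw [mul_assoc, mul_assoc]
    refine mul_mem e.2 ?_
    rw [← mul_assoc]
    exact (mem_normalizer_iff.1 (pow_mem cfg.norm i) _).1 (inv_mem e.2)
  obtain ⟨e, he⟩ := (Finite.injective_iff_surjective
    (f := fun e : C => (⟨_, hmem e⟩ : C))).1 (fun e e' h => by
      have h1 : (e : G) * x ^ i * (e : G)⁻¹ = (e' : G) * x ^ i * (e' : G)⁻¹ :=
        mul_right_cancel (congrArg Subtype.val h)
      have h2 : Commute (x ^ i) ((e' : G)⁻¹ * e) := by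
        show x ^ i * ((e' : G)⁻¹ * e) = (e' : G)⁻¹ * e * x ^ i
        calc x ^ i * ((e' : G)⁻¹ * e) = (e' : G)⁻¹ * ((e' : G) * x ^ i * (e' : G)⁻¹) * e := by group
          _ = (e' : G)⁻¹ * e * x ^ i := by rw [← h1]; group
      exact Subtype.ext (inv_mul_eq_one.1 (cfg.x_fpf _ (mul_mem (inv_mem e'.2) e.2)
        (cfg.commute_of_pow hi h2))).symm) ⟨c, hc⟩
  have he' : c * x ^ i = (e : G) * x ^ i * (e : G)⁻¹ := by
    rw [← show (e : G) * x ^ i * (e : G)⁻¹ * (x ^ i)⁻¹ = c from congrArg Subtype.val he]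
    group
  rw [he']
  have hea : (e : G) • a = a := cfg.mem_a e.2
  rw [psiZero_of_fix (by rw [mul_smul, mul_smul, inv_smul_eq_iff.2 hea.symm, hxa, hea])]
  obtain ⟨t, ht, hta, hxt, huniq⟩ := cfg.x_one
  have hone : Nat.card {s : G // orderOf s = 2 ∧ s • a = a ∧
      Commute ((e : G) * x ^ i * (e : G)⁻¹) s} = 1 := by
    refine Nat.card_eq_one_iff_unique.2 ⟨⟨?_⟩, ⟨⟨(e : G) * t * (e : G)⁻¹,
      by rw [Invol.orderOf_conj_eq, ht],
      by rw [mul_smul, mul_smul, inv_smul_eq_iff.2 hea.symm, hta, hea],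
      Core.CSix.conj_commute (hxt.pow_left i)⟩⟩⟩
    rintro ⟨s, hs, hsa, hsc⟩ ⟨s', hs', hsa', hsc'⟩
    have key : ∀ r : G, orderOf r = 2 → r • a = a →
        Commute ((e : G) * x ^ i * (e : G)⁻¹) r → (e : G)⁻¹ * r * e = t := fun r hr hra hrc => by
      refine huniq _ ?_ ?_ (cfg.commute_of_pow hi ?_)
      · simpa using (Invol.orderOf_conj_eq (e : G)⁻¹ r).trans hr
      · rw [mul_smul, mul_smul, hea, hra, inv_smul_eq_iff, hea]
      · simpa [mul_assoc] using Core.CSix.conj_commute (g := (e : G)⁻¹) hrc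
    have h := (key s hs hsa hsc).trans (key s' hs' hsa' hsc').symm
    exact Subtype.ext (mul_left_cancel (mul_right_cancel h))
  rw [hone, Nat.cast_one, sub_self]

/-- Nontrivial elements of `C` fix no involution at `a`. -/
theorem Config.psiZero_C {c : G} (hc : c ∈ C) (hc1 : c ≠ 1) : psiZero a c = -1 := by
  rw [psiZero_of_fix (cfg.mem_a hc)]
  haveI : IsEmpty {t : G // orderOf t = 2 ∧ t • a = a ∧ Commute c t} :=
    ⟨fun t => cfg.free c hc hc1 t t.2.1 t.2.2.1 t.2.2.2⟩
  rw [Nat.card_of_isEmpty, Nat.cast_zero, zero_sub]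

/-- The order of the two-point stabilizer. -/
theorem Config.card_pair : Nat.card ↥(st a ⊓ st b) = numInv H * k := by
  rw [← cfg.card, ← cfg.order, ← Nat.card_zpowers, ← Nat.card_prod]
  refine (Nat.card_congr (Equiv.ofBijective (fun p : C × zpowers x =>
    (⟨(p.1 : G) * p.2, mul_mem (cfg.le p.1.2) (zpowers_le.2 cfg.mem p.2.2)⟩ : ↥(st a ⊓ st b)))
    ⟨?_, ?_⟩)).symm
  · rintro ⟨c, y⟩ ⟨c', y'⟩ h
    have h' : (c : G) * y = c' * y' := congrArg Subtype.val h
    have h1 : (c' : G)⁻¹ * c = y' * (y : G)⁻¹ := by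
      rw [eq_mul_inv_iff_mul_eq, mul_assoc, h', inv_mul_cancel_left]
    obtain ⟨i, hi⟩ := (isOfFinOrder_of_finite x).mem_powers_iff_mem_zpowers.2
      (mul_mem y'.2 (inv_mem y.2) : (y' : G) * (y : G)⁻¹ ∈ zpowers x)
    have h2 : x ^ i = 1 := cfg.pow_eq_one_of_mem (by
      rw [show x ^ i = (c' : G)⁻¹ * c from hi.trans h1.symm]
      exact mul_mem (inv_mem c'.2) c.2)
    have h3 : (c' : G)⁻¹ * c = 1 := h1.trans (hi.symm.trans h2)
    have hc : c = c' := Subtype.ext (inv_mul_eq_one.1 h3).symm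
    subst hc
    exact Prod.ext rfl (Subtype.ext (mul_left_cancel h'))
  · rintro ⟨d, hd⟩
    obtain ⟨c, hc, i, rfl⟩ := cfg.decomp d hd
    exact ⟨(⟨c, hc⟩, ⟨x ^ i, pow_mem (mem_zpowers x) i⟩), rfl⟩

/-- The swappers of `a` and `b` are the products of `v` with `C`. -/
theorem Config.exists_of_swap {w : G} (hw : orderOf w = 2) (hwa : w • a = b) :
    ∃ c ∈ C, w = v * c := by
  have hinv : ∀ c : C, orderOf (v * (c : G)) = 2 ∧ (v * (c : G)) • a = b := fun c => by
    refine ⟨orderOf_eq_prime ?_ fun h => ?_, by rw [mul_smul, cfg.mem_a c.2, cfg.swap]⟩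
    · rw [pow_two]
      calc v * (c : G) * (v * c) = (v * c * v) * c := by group
        _ = (v * c * v⁻¹) * c := by rw [cfg.inv_v]
        _ = 1 := by rw [cfg.inverts c c.2, inv_mul_cancel]
    · have : v • a = a := by
        rw [show v = (c : G)⁻¹ from eq_inv_of_mul_eq_one_left h, inv_smul_eq_iff, cfg.mem_a c.2]
      exact cfg.ne (this.symm.trans cfg.swap)
  let f : C → {i : G // orderOf i = 2 ∧ i • a = b} := fun c => ⟨v * c, hinv c⟩
  have hf : Function.Bijective f := (Nat.bijective_iff_injective_and_card f).2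
    ⟨fun c c' h => Subtype.ext (mul_left_cancel (congrArg Subtype.val h)),
      by rw [StrongEmbed.card_swap cfg.hyp.se cfg.ne, cfg.card]; rfl⟩
  obtain ⟨c, hc⟩ := hf.2 ⟨w, hw, hwa⟩
  exact ⟨c, c.2, (congrArg Subtype.val hc).symm⟩

/-- `psi` sums to zero on the cosets of `C` in the point stabilizer. -/
theorem Config.sum_coset_C [Fintype C] {g : G} (hg : g • a = a) :
    ∑ c : C, psiZero a (g * c) = 0 := by
  classical
  haveI := Fintype.ofFinite G
  have hga : ∀ c : C, (g * c) • a = a := fun c => by rw [mul_smul, cfg.mem_a c.2, hg]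
  rw [Finset.sum_congr rfl fun c _ => psiZero_of_fix (hga c), Finset.sum_sub_distrib,
    Finset.sum_const, Finset.card_univ, ← Nat.card_eq_fintype_card, cfg.card, ← Nat.cast_sum,
    ← Nat.card_sigma, nsmul_one, sub_eq_zero, Nat.cast_inj, ← card_inv_at a]
  refine Nat.card_congr (Equiv.ofBijective
    (fun p => (⟨p.2.1, p.2.2.1, p.2.2.2.1⟩ : {t : G // orderOf t = 2 ∧ t • a = a})) ⟨?_, ?_⟩)
  · rintro ⟨c, t, ht, hta, htc⟩ ⟨c', t', ht', hta', htc'⟩ h
    have htt : t = t' := congrArg Subtype.val h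
    subst htt
    have hfree : Commute ((c' : G)⁻¹ * c) t := by
      have e : (c' : G)⁻¹ * c = (g * c')⁻¹ * (g * c) := by group
      rw [e]
      exact htc'.inv_left.mul_left htc
    have hcc : c = c' := by
      by_contra hne
      exact cfg.free _ (mul_mem (inv_mem c'.2) c.2)
        (fun h1 => hne (Subtype.ext (inv_mul_eq_one.1 h1).symm)) t ht hta hfree
    subst hcc
    rfl
  · rintro ⟨t, ht, hta⟩
    obtain ⟨c, hc, hct⟩ := cfg.trans t (g⁻¹ * t * g) ht hta
      (by simpa using (Invol.orderOf_conj_eq g⁻¹ t).trans ht)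
      (by rw [mul_smul, mul_smul, hg, hta, inv_smul_eq_iff, hg])
    refine ⟨⟨⟨c, hc⟩, t, ht, hta, ?_⟩, rfl⟩
    show g * c * t = t * (g * c)
    calc g * c * t = g * (c * t * c⁻¹) * c := by group
      _ = g * (g⁻¹ * t * g) * c := by rw [hct]
      _ = t * (g * c) := by group

section Fintype

variable [Fintype G]

/-- `psi` is a character. -/
theorem Config.psi_isCharacter : Cfsg.IsCharacter (st a) (psi a) := by
  classical
  haveI : Fintype (st a) := Fintype.ofFinite _
  let X := {t : G // orderOf t = 2 ∧ t • a = a}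
  letI : MulAction (st a) X :=
    { smul := fun g t => ⟨(g : G) * t.1 * (g : G)⁻¹, by rw [Invol.orderOf_conj_eq, t.2.1],
        by rw [mul_smul, mul_smul, inv_smul_eq_iff.2 (show (g : G) • a = a from g.2).symm, t.2.2,
          show (g : G) • a = a from g.2]⟩
      one_smul := fun t => Subtype.ext (by
        show ((1 : st a) : G) * t.1 * ((1 : st a) : G)⁻¹ = t.1
        simp)
      mul_smul := fun p q t => Subtype.ext (by
        show ((p * q : st a) : G) * t.1 * ((p * q : st a) : G)⁻¹ =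
          (p : G) * ((q : G) * t.1 * (q : G)⁻¹) * (p : G)⁻¹
        rw [coe_mul]
        group) }
  obtain ⟨t, ht, hta, -⟩ := cfg.x_one
  haveI : MulAction.IsPretransitive (st a) X := ⟨fun s r => by
    obtain ⟨c, hc, he⟩ := cfg.trans s r s.2.1 s.2.2 r.2.1 r.2.2
    exact ⟨⟨c, cfg.mem_a hc⟩, Subtype.ext he⟩⟩
  have h := isCharacter_fix_sub_one (G := st a) (⟨t, ht, hta⟩ : X)
  convert h using 1
  funext g
  show _ - 1 = _ - 1
  congr 2
  exact Nat.card_congr
    { toFun := fun s => ⟨⟨s.1, s.2.1, s.2.2.1⟩, Subtype.ext (by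
        show (g : G) * s.1 * (g : G)⁻¹ = s.1
        rw [s.2.2.2.eq, mul_inv_cancel_right])⟩
      invFun := fun s => ⟨s.1.1, s.1.2.1, s.1.2.2, by
        show (g : G) * s.1.1 = s.1.1 * g
        have h1 : (g : G) * s.1.1 * (g : G)⁻¹ = s.1.1 := congrArg Subtype.val s.2
        exact mul_inv_eq_iff_eq_mul.1 h1⟩
      left_inv := fun _ => rfl
      right_inv := fun _ => rfl }

theorem Config.psi_classFun : Cfsg.IsClassFunction (st a) (psi a) :=
  IsCharacter.isClassFunction cfg.psi_isCharacter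

theorem Config.psiZero_conj {h : G} (hh : h ∈ st a) (g : G) :
    psiZero a (h⁻¹ * g * h) = psiZero a g :=
  extendByZero_conj cfg.psi_classFun hh g

theorem Config.indPsi_isCharacter : Cfsg.IsCharacter G (indPsi a) :=
  IsCharacter.indFun cfg.psi_isCharacter

theorem Config.indPsi_one : indPsi a 1 = (H.index : ℂ) * ((numInv H : ℂ) - 1) := by
  have h0 : (Nat.card (st a) : ℂ) ≠ 0 := Nat.cast_ne_zero.2 Nat.card_pos.ne'
  show (Nat.card (st a) : ℂ)⁻¹ * ∑ y : G, psiZero a (y⁻¹ * 1 * y) = _
  simp only [mul_one, inv_mul_cancel, psiZero_one, Finset.sum_const, nsmul_eq_mul,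
    Finset.card_univ]
  rw [← Nat.card_eq_fintype_card, ← (st a).index_mul_card, cfg.index_eq, Nat.cast_mul]
  field_simp

theorem Config.indPsi_invol {t : G} (ht : orderOf t = 2) : indPsi a t = (numInv H : ℂ) - 1 := by
  classical
  obtain ⟨c₀, hc₀⟩ := StrongEmbed.exists_fix cfg.hyp.se ht
  obtain ⟨g₀, hg₀⟩ := exists_smul a c₀
  have key : ∀ y : G, psiZero a (y⁻¹ * t * y) =
      if g₀⁻¹ * y ∈ st a then (numInv H : ℂ) - 1 else 0 := by
    intro y
    have iff1 : g₀⁻¹ * y ∈ st a ↔ y • a = c₀ := by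
      rw [← hg₀, MulAction.mem_stabilizer_iff, mul_smul, inv_smul_eq_iff]
    have iff2 : (y⁻¹ * t * y) • a = a ↔ y • a = c₀ := by
      rw [mul_smul, mul_smul, inv_smul_eq_iff]
      exact ⟨fun h => StrongEmbed.fix_unique cfg.hyp.se ht h hc₀, fun h => h ▸ hc₀⟩
    split_ifs with h
    · exact psiZero_invol cfg.hyp (by simpa using (Invol.orderOf_conj_eq y⁻¹ t).trans ht)
        (iff2.2 (iff1.1 h))
    · exact psiZero_of_not_fix fun h' => h (iff1.2 (iff2.1 h'))
  show (Nat.card (st a) : ℂ)⁻¹ * ∑ y : G, psiZero a (y⁻¹ * t * y) = _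
  rw [Finset.sum_congr rfl fun y _ => key y, sum_coset,
    inv_mul_cancel_left₀ (Nat.cast_ne_zero.2 Nat.card_pos.ne')]

theorem Config.indPsi_C {y : G} (hy : y ∈ C) (hy1 : y ≠ 1) : indPsi a y = -2 := by
  classical
  have h1 : ∀ z : G, z ∈ st a → psiZero a (z⁻¹ * y * z) = -1 := fun z hz => by
    rw [cfg.psiZero_conj hz, cfg.psiZero_C hy hy1]
  have key : ∀ z : G, psiZero a (z⁻¹ * y * z) =
      (if (1 : G)⁻¹ * z ∈ st a then (-1 : ℂ) else 0) +
        (if v⁻¹ * z ∈ st a then (-1 : ℂ) else 0) := by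
    intro z
    rw [inv_one, one_mul]
    by_cases hz : z ∈ st a
    · rw [if_pos hz, if_neg, add_zero, h1 z hz]
      intro h
      refine cfg.ne ?_
      have h' : (v⁻¹ * z) • a = a := h
      rw [mul_smul, show z • a = a from hz, cfg.inv_v, cfg.swap] at h'
      exact h'.symm
    · rw [if_neg hz, zero_add]
      split_ifs with h
      · have e : z⁻¹ * y * z = (v⁻¹ * z)⁻¹ * y⁻¹ * (v⁻¹ * z) := by
          rw [← cfg.inverts y hy, cfg.inv_v]
          have hv := Invol.mul_self_eq_one cfg.invol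
          calc z⁻¹ * y * z = z⁻¹ * (v * v) * y * (v * v) * z := by rw [hv]; simp [mul_assoc]
            _ = (v * z)⁻¹ * (v * y * v) * (v * z) := by
              rw [mul_inv_rev, cfg.inv_v]; group
        rw [e, cfg.psiZero_conj h, cfg.psiZero_C (inv_mem hy) (by simpa using hy1)]
      · refine psiZero_of_not_fix fun h' => ?_
        rw [mul_smul, mul_smul, inv_smul_eq_iff] at h'
        rcases cfg.fix_two y hy hy1 _ h' with hc | hc
        · exact hz hc
        · refine h ?_
          show (v⁻¹ * z) • a = a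
          rw [mul_smul, hc, cfg.inv_v, cfg.swap']
  show (Nat.card (st a) : ℂ)⁻¹ * ∑ z : G, psiZero a (z⁻¹ * y * z) = _
  rw [Finset.sum_congr rfl fun z _ => key z, Finset.sum_add_distrib, sum_coset, sum_coset,
    ← mul_add, inv_mul_cancel_left₀ (Nat.cast_ne_zero.2 Nat.card_pos.ne')]
  norm_num

open Classical in
/-- The sum of the translates of `psi` by all involutions. -/
theorem Config.sum_invol_psi (g : G) :
    ∑ w ∈ Finset.univ.filter (fun w : G => orderOf w = 2), psiZero a (g * w) =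
      (numInv H : ℂ) * psiZero a g := by
  by_cases hg : g • a = a
  · rw [← Finset.sum_filter_add_sum_filter_not _ (fun w : G => w • a = a),
      Finset.sum_eq_zero (s := Finset.filter (fun w => ¬ w • a = a) _) fun w hw => ?_, add_zero,
      Finset.sum_congr rfl fun w hw => ?_, Finset.sum_const, nsmul_eq_mul]
    · congr 2
      rw [← card_inv_at a, Nat.card_eq_fintype_card, Fintype.card_subtype, Finset.filter_filter]
    · rw [Finset.filter_filter, Finset.mem_filter] at hw
      exact psiZero_mul_invol cfg.hyp hg hw.2.1 hw.2.2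
    · rw [Finset.filter_filter, Finset.mem_filter] at hw
      refine psiZero_of_not_fix fun h => hw.2.2 ?_
      rwa [mul_smul, ← eq_inv_smul_iff, inv_smul_eq_iff.2 hg.symm] at h
  · rw [psiZero_of_not_fix hg, mul_zero]
    have hb' : g⁻¹ • a ≠ a := fun h => hg (inv_smul_eq_iff.1 h).symm
    obtain ⟨h, hh, hhb⟩ := cfg.exists_move hb'
    have hha : h • a = a := hh
    rw [← Finset.sum_filter_of_ne (p := fun w : G => w • a = g⁻¹ • a) (fun w _ hw => by
      by_contra hne
      exact hw (psiZero_of_not_fix fun h' => hne (by rw [eq_inv_smul_iff, ← mul_smul, h'])))]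
    refine Eq.trans ?_ (cfg.sum_coset_C (g := h⁻¹ * g * h * v) ?_)
    swap
    · rw [mul_smul, cfg.swap, mul_smul, mul_smul, hhb, smul_inv_smul, inv_smul_eq_iff, hha]
    refine (Finset.sum_bij (fun (c : C) _ => h * (v * c) * h⁻¹) (fun c _ => ?_)
      (fun c _ c' _ e => Subtype.ext (mul_left_cancel (mul_left_cancel (mul_right_cancel e))))
      (fun w hw => ?_) (fun c _ => ?_)).symm
    · rw [Finset.mem_filter, Finset.mem_filter]
      refine ⟨⟨Finset.mem_univ _, ?_⟩, ?_⟩
      · rw [Invol.orderOf_conj_eq]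
        refine orderOf_eq_prime ?_ fun h1 => cfg.ne ?_
        · rw [pow_two]
          calc v * (c : G) * (v * c) = (v * c * v⁻¹) * c := by rw [cfg.inv_v]; group
            _ = 1 := by rw [cfg.inverts c c.2, inv_mul_cancel]
        · have h2 : (v * (c : G)) • a = a := by rw [h1, one_smul]
          rw [mul_smul, cfg.mem_a c.2, cfg.swap] at h2
          exact h2.symm
      · rw [mul_smul, mul_smul, inv_smul_eq_iff.2 hha.symm, mul_smul, cfg.mem_a c.2, cfg.swap, hhb]
    · rw [Finset.mem_filter, Finset.mem_filter] at hw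
      obtain ⟨c, hc, he⟩ := cfg.exists_of_swap (w := h⁻¹ * w * h)
        (by simpa using (Invol.orderOf_conj_eq h⁻¹ w).trans hw.1.2)
        (by rw [mul_smul, mul_smul, hha, hw.2, ← hhb, inv_smul_smul])
      exact ⟨⟨c, hc⟩, Finset.mem_univ _, by rw [← he]; group⟩
    · rw [← cfg.psiZero_conj hh (g * (h * (v * c) * h⁻¹))]
      congr 1
      group

open Classical in
/-- The induced class function is an eigenvector of the sum of the involutions. -/
theorem Config.sum_invol_indPsi (g : G) :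
    ∑ w ∈ Finset.univ.filter (fun w : G => orderOf w = 2), indPsi a (g * w) =
      (numInv H : ℂ) * indPsi a g := by
  show ∑ w ∈ Finset.univ.filter (fun w : G => orderOf w = 2), (Nat.card (st a) : ℂ)⁻¹ * ∑ y : G, psiZero a (y⁻¹ * (g * w) * y) =
    (numInv H : ℂ) * ((Nat.card (st a) : ℂ)⁻¹ * ∑ y : G, psiZero a (y⁻¹ * g * y))
  simp only [← Finset.mul_sum]
  rw [Finset.sum_comm, mul_left_comm]
  congr 1
  rw [Finset.mul_sum]
  refine Finset.sum_congr rfl fun y _ => ?_
  rw [← cfg.sum_invol_psi (y⁻¹ * g * y)]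
  refine Finset.sum_nbij' (fun w => y⁻¹ * w * y) (fun w => y * w * y⁻¹) ?_ ?_ ?_ ?_ ?_
  · intro w hw
    simp only [Finset.mem_filter, Finset.mem_univ, true_and] at hw ⊢
    simpa using (Invol.orderOf_conj_eq y⁻¹ w).trans hw
  · intro w hw
    simp only [Finset.mem_filter, Finset.mem_univ, true_and] at hw ⊢
    rw [Invol.orderOf_conj_eq, hw]
  · intro w _; group
  · intro w _; group
  · intro w _; congr 1; group

/-- The number of involutions. -/
theorem Config.card_involutions :
    Nat.card {w : G // orderOf w = 2} = H.index * numInv H := by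
  haveI := Fintype.ofFinite (G ⧸ H)
  have e : (Σ c : G ⧸ H, {w : G // orderOf w = 2 ∧ w • c = c}) ≃ {w : G // orderOf w = 2} :=
    Equiv.ofBijective (fun p => ⟨p.2.1, p.2.2.1⟩) ⟨by
      rintro ⟨c, w, hw, hwc⟩ ⟨c', w', hw', hwc'⟩ h
      have hww : w = w' := congrArg Subtype.val h
      subst hww
      have hcc := StrongEmbed.fix_unique cfg.hyp.se hw hwc hwc'
      subst hcc
      rfl, fun w => by
      obtain ⟨c, hc⟩ := StrongEmbed.exists_fix cfg.hyp.se w.2
      exact ⟨⟨c, w.1, w.2, hc⟩, rfl⟩⟩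
  rw [← Nat.card_congr e, Nat.card_sigma,
    Finset.sum_congr rfl fun c _ => StrongEmbed.card_fix c, Finset.sum_const, Finset.card_univ,
    smul_eq_mul, index_eq_card, Nat.card_eq_fintype_card (α := G ⧸ H)]
  rfl

/-- The constituents have degree the index times the value at an involution. -/
theorem Config.constituent {χ : G → ℂ} (hχ : Cfsg.IsIrrCharacter G χ)
    (hne : Cfsg.classInner (indPsi a) χ ≠ 0) {t : G} (ht : orderOf t = 2) :
    χ 1 = (H.index : ℂ) * χ t := by
  classical
  set I := Finset.univ.filter (fun w : G => orderOf w = 2) with hI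
  have hI' : I = Finset.univ.filter (fun w : G => IsConj t w) := by
    refine Finset.filter_congr fun w _ => ⟨StrongEmbed.isConj_of_invols cfg.hyp.se ht, fun h => ?_⟩
    obtain ⟨c, rfl⟩ := isConj_iff.1 h
    rw [Invol.orderOf_conj_eq, ht]
  have hcard : (Nat.card {w : G // IsConj t w} : ℂ) = (H.index : ℂ) * numInv H := by
    rw [← Nat.cast_mul, ← cfg.card_involutions, Nat.card_eq_fintype_card,
      Nat.card_eq_fintype_card, Fintype.card_subtype, Fintype.card_subtype, ← hI', hI]
  set ω := (Nat.card {w : G // IsConj t w} : ℂ) * χ t / χ 1 with hω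
  have hconv : ∀ g : G, ∑ w ∈ I, χ (g * w) = ω * χ g := fun g => by
    rw [Finset.sum_congr rfl fun w _ => IsCharacter.apply_mul_comm
      (IsIrrCharacter.isCharacter hχ) g w, hI', IsIrrCharacter.sum_class_apply_mul hχ t g, hω]
    ring
  have hinv : ∀ w ∈ I, w * w = 1 := fun w hw =>
    Invol.mul_self_eq_one (Finset.mem_filter.1 hw).2
  have hEq : (numInv H : ℂ) * ∑ g : G, indPsi a g * conj (χ g) =
      conj ω * ∑ g : G, indPsi a g * conj (χ g) := by
    calc (numInv H : ℂ) * ∑ g : G, indPsi a g * conj (χ g)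
        = ∑ g : G, (∑ w ∈ I, indPsi a (g * w)) * conj (χ g) := by
          rw [Finset.mul_sum]
          exact Finset.sum_congr rfl fun g _ => by rw [cfg.sum_invol_indPsi g, mul_assoc]
      _ = ∑ w ∈ I, ∑ g : G, indPsi a (g * w) * conj (χ g) := by
          simp only [Finset.sum_mul]
          exact Finset.sum_comm
      _ = ∑ w ∈ I, ∑ g : G, indPsi a g * conj (χ (g * w)) := by
          refine Finset.sum_congr rfl fun w hw => Fintype.sum_equiv (Equiv.mulRight w) _ _
            fun g => ?_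
          rw [Equiv.coe_mulRight, mul_assoc g w w, hinv w hw, mul_one]
      _ = ∑ g : G, indPsi a g * conj (∑ w ∈ I, χ (g * w)) := by
          rw [Finset.sum_comm]
          simp only [map_sum, Finset.mul_sum]
      _ = conj ω * ∑ g : G, indPsi a g * conj (χ g) := by
          rw [Finset.mul_sum]
          refine Finset.sum_congr rfl fun g _ => ?_
          rw [hconv g, map_mul]
          ring
  have hS : ∑ g : G, indPsi a g * conj (χ g) ≠ 0 := by
    intro h0
    exact hne (by rw [classInner_def, h0, mul_zero])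
  have hω' : ω = (numInv H : ℂ) := by
    have h1 := congrArg conj (mul_right_cancel₀ hS hEq)
    rw [Complex.conj_conj, Complex.conj_natCast] at h1
    exact h1.symm
  have hm : (numInv H : ℂ) ≠ 0 := Nat.cast_ne_zero.2 cfg.hyp.numInv_pos.ne'
  rw [hω, hcard, div_eq_iff (IsIrrCharacter.apply_one_ne_zero hχ)] at hω'
  refine (mul_left_cancel₀ hm ?_).symm
  rw [← hω']
  ring

/-- The norm of the induced class function. -/
theorem Config.norm_indPsi [Fintype (st a)] :
    Cfsg.classInner (indPsi a) (indPsi a) = Cfsg.classInner (psi a) (psi a) +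
      (((numInv H - 1) / k : ℕ) : ℂ) := by
  classical
  rw [indPsi, classInner_indFun_two cfg.psi_classFun v (fun g hg => cfg.double_coset hg)
    cfg.card_st]
  congr 1
  haveI : Fintype C := Fintype.ofFinite C
  have h1 : ∑ h : st a, psi a h * conj (Cfsg.extendByZero (st a) (psi a) (v⁻¹ * h * v)) =
      ∑ c : C, psiZero a c * conj (psiZero a (v⁻¹ * c * v)) := by
    refine (Fintype.sum_of_injective (fun c : C => (⟨c, cfg.mem_a c.2⟩ : st a))
      (fun c c' h => Subtype.ext (congrArg Subtype.val h :)) _ _ (fun h hh => ?_) fun c => ?_).symm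
    · by_cases hb : (v⁻¹ * (h : G) * v) • a = a
      · have hD : (h : G) ∈ st a ⊓ st b := ⟨h.2, by
          rw [mul_smul, mul_smul, cfg.swap, inv_smul_eq_iff, cfg.swap] at hb
          exact hb⟩
        obtain ⟨c, hc, i, he⟩ := cfg.decomp h hD
        have hi : x ^ i ≠ 1 := fun h0 => hh ⟨⟨c, hc⟩, Subtype.ext (by
          rw [he, h0, mul_one])⟩
        have h0 : psi a h = 0 := by
          rw [← extendByZero_of_mem (psi a) h.2]
          show psiZero a (h : G) = 0
          rw [he, cfg.psiZero_outside hc hi]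
        rw [h0, zero_mul]
      · rw [show Cfsg.extendByZero (st a) (psi a) (v⁻¹ * (h : G) * v) = 0 from
          psiZero_of_not_fix hb, map_zero, mul_zero]
    · rw [← extendByZero_of_mem (psi a) (show (c : G) ∈ st a from cfg.mem_a c.2)]
      rfl
  rw [h1, ← Finset.add_sum_erase _ _ (Finset.mem_univ (1 : C)),
    Finset.sum_congr rfl (g := fun _ => (1 : ℂ)) fun c hc => ?_]
  · rw [Finset.sum_const, Finset.card_erase_of_mem (Finset.mem_univ _), Finset.card_univ,
      ← Nat.card_eq_fintype_card, cfg.card, cfg.card_pair, coe_one, mul_one, inv_mul_cancel,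
      psiZero_one, map_sub, map_one, Complex.conj_natCast, nsmul_one,
      Nat.cast_sub (by have := cfg.three_le; omega : 1 ≤ numInv H),
      Nat.cast_div cfg.dvd_sub_one (Nat.cast_ne_zero.2 cfg.prime.ne_zero),
      Nat.cast_sub (by have := cfg.three_le; omega : 1 ≤ numInv H), Nat.cast_mul, Nat.cast_one]
    have hm : (numInv H : ℂ) ≠ 0 := Nat.cast_ne_zero.2 cfg.hyp.numInv_pos.ne'
    have hk : (k : ℂ) ≠ 0 := Nat.cast_ne_zero.2 cfg.prime.ne_zero
    field_simp
    ring
  · have hc1 : (c : G) ≠ 1 := fun h => (Finset.mem_erase.1 hc).1 (Subtype.ext h)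
    rw [cfg.psiZero_C c.2 hc1, cfg.inv_v, show v * (c : G) * v = (c : G)⁻¹ by
      rw [← cfg.inverts c c.2, cfg.inv_v], cfg.psiZero_C (inv_mem c.2) (by simpa using hc1)]
    simp

/-- The permutation character minus one is irreducible. -/
theorem Config.stChar_irr : Cfsg.IsIrrCharacter G (stChar H) := by
  classical
  haveI : Fintype (st a) := Fintype.ofFinite _
  have hchar : Cfsg.IsCharacter G (stChar H) := isCharacter_fix_sub_one a
  refine IsCharacter.isIrrCharacter_of_classInner_self hchar ?_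
  set π := Cfsg.indFun (st a) (fun _ => (1 : ℂ)) with hπ
  have e : π = fun g : G => (Nat.card (MulAction.fixedBy (G ⧸ H) g) : ℂ) := indFun_one_stabilizer a
  have hst : stChar H = π - fun _ => (1 : ℂ) := by rw [e]; rfl
  have hp1 : Cfsg.classInner π (fun _ : G => (1 : ℂ)) = 1 := by
    rw [hπ, classInner_indFun _ (IsCharacter.isClassFunction isCharacter_one)]
    exact classInner_one_one
  have h1p : Cfsg.classInner (fun _ : G => (1 : ℂ)) π = 1 := by
    rw [← classInner_conj, hp1, map_one]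
  have hpp : Cfsg.classInner π π = 2 := by
    rw [hπ, classInner_indFun_two (IsCharacter.isClassFunction isCharacter_one) v
      (fun g hg => cfg.double_coset hg) cfg.card_st, classInner_one_one]
    have hsum : ∑ h : st a, (1 : ℂ) * conj (Cfsg.extendByZero (st a) (fun _ => (1 : ℂ))
        (v⁻¹ * h * v)) = (Nat.card ↥(st a ⊓ st b) : ℂ) := by
      have key : ∀ h : st a, (1 : ℂ) * conj (Cfsg.extendByZero (st a) (fun _ => (1 : ℂ))
          (v⁻¹ * h * v)) = if (h : G) ∈ st b then 1 else 0 := fun h => by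
        have hiff : v⁻¹ * (h : G) * v ∈ st a ↔ (h : G) ∈ st b := by
          rw [MulAction.mem_stabilizer_iff, MulAction.mem_stabilizer_iff, mul_smul, mul_smul,
            cfg.swap, inv_smul_eq_iff, cfg.swap]
        rw [extendByZero_eq]
        by_cases hb : (h : G) ∈ st b
        · rw [dif_pos (hiff.2 hb), if_pos hb, map_one, mul_one]
        · rw [dif_neg (mt hiff.1 hb), if_neg hb, map_zero, mul_zero]
      rw [Finset.sum_congr rfl fun h _ => key h, Finset.sum_boole, ← Fintype.card_subtype,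
        ← Nat.card_eq_fintype_card]
      congr 1
      exact Nat.card_congr
        { toFun := fun h => ⟨h.1.1, h.1.2, h.2⟩
          invFun := fun h => ⟨⟨h.1, h.2.1⟩, h.2.2⟩
          left_inv := fun _ => rfl
          right_inv := fun _ => rfl }
    rw [hsum, inv_mul_cancel₀ (Nat.cast_ne_zero.2 Nat.card_pos.ne')]
    norm_num
  rw [hst, classInner_sub_left, classInner_sub_right, classInner_sub_right, hpp, hp1, h1p,
    classInner_one_one]
  norm_num

/-- The degree is congruent to two modulo the number of involutions. -/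
theorem Config.index_mod : H.index ≡ 2 [MOD numInv H] := by
  classical
  let Y := {c : G ⧸ H // c ≠ a ∧ c ≠ b}
  have hstay : ∀ g ∈ C, ∀ c : G ⧸ H, c ≠ a ∧ c ≠ b → g • c ≠ a ∧ g • c ≠ b := fun g hg c hc =>
    ⟨fun h => hc.1 (MulAction.injective g (h.trans (cfg.mem_a hg).symm)),
      fun h => hc.2 (MulAction.injective g (h.trans (cfg.mem_b hg).symm))⟩
  letI : MulAction C Y :=
    { smul := fun g c => ⟨(g : G) • c.1, hstay g g.2 c.1 c.2⟩
      one_smul := fun c => Subtype.ext (one_smul G c.1)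
      mul_smul := fun g g' c => Subtype.ext (mul_smul (g : G) g' c.1) }
  have hfree : ∀ c : Y, MulAction.stabilizer C c = ⊥ := fun c => by
    refine (eq_bot_iff_forall _).2 fun g hg => ?_
    by_contra hg1
    have hfix : (g : G) • c.1 = c.1 := congrArg Subtype.val hg
    rcases cfg.fix_two g g.2 (fun h => hg1 (Subtype.ext h)) c.1 hfix with h | h
    · exact c.2.1 h
    · exact c.2.2 h
  have h1 := Nat.card_congr (MulAction.selfEquivOrbitsQuotientProd hfree)
  rw [Nat.card_prod, cfg.card] at h1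
  have h2 : Nat.card Y + 2 = Nat.card (G ⧸ H) := by
    have hset : {c : G ⧸ H | c ≠ a ∧ c ≠ b} = ({a, b} : Set (G ⧸ H))ᶜ := by
      ext c; simp
    have h3 := Set.ncard_add_ncard_compl ({a, b} : Set (G ⧸ H))
    rw [Set.ncard_pair cfg.ne, ← hset] at h3
    rw [show Nat.card Y = {c : G ⧸ H | c ≠ a ∧ c ≠ b}.ncard from Nat.card_coe_set_eq _]
    omega
  rw [index_eq_card, ← h2, h1]
  exact (Nat.modEq_iff_dvd' (by omega)).2 (by rw [Nat.add_sub_cancel]; exact dvd_mul_left _ _) |>.symm

end Fintype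

end CfsgLib.Bender.Commuting
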