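import Cfsg.Agent.Bender.Commuting.Local
import Cfsg.Agent.Bender.Reduction
import Cfsg.Agent.Bender.CoreBase

/-!
Bender's theorem, commuting branch: induction in the centralizer of an `s`-group `Q` with two
involutions at one fixed point. The fixed points other than that one form one orbit of a `2`-group
centralizing `Q`.
-/

set_option autoImplicit false
set_option linter.unusedSectionVars false
set_option linter.style.haveILetI false

namespace CfsgLib.Bender.Commuting

open Subgroup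
open CfsgLib.FusionLift (cj mem_cj card_cj)
open CfsgLib.Bender.GSide

universe u

/-- In a group with the shape, the `2`-group centralizes the involutions of the strongly embedded
subgroup. -/
theorem Hyp.commute_of_shape {X : Type u} [Group X] [Finite X] {K T : Subgroup X} (hK : Hyp K)
    (hTK : T ≤ K) (hKN : K ≤ normalizer (T : Set X)) (hT : IsPGroup 2 T)
    (htr : ∀ g₁ g₂ : X, g₁ ∉ K → g₂ ∉ K → ∃ w ∈ T, g₂⁻¹ * (w * g₁) ∈ K) :
    ∀ τ ∈ T, ∀ x ∈ K, orderOf x = 2 → Commute τ x := by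
  haveI : Fact (Nat.Prime 2) := ⟨Nat.prime_two⟩
  obtain ⟨g, hg⟩ : ∃ g : X, g ∉ K := by
    by_contra h
    push Not at h
    exact hK.se.1 (eq_top_iff.2 fun x _ => h x)
  haveI hTn : (T.subgroupOf K).Normal := (normal_subgroupOf_iff_le_normalizer hTK).2 hKN
  -- every involution of `K` lies in `T`
  have hmem : ∀ x ∈ K, orderOf x = 2 → x ∈ T := by
    intro x hx hx2
    have hxg : x * g ∉ K := fun h => hg (by simpa using K.mul_mem (K.inv_mem hx) h)
    obtain ⟨w, hw, hwx⟩ := htr (x * g) g hxg hg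
    have hwK : w * x ∈ K := K.mul_mem (hTK hw) hx
    have hodd : Odd (orderOf (w * x)) := by
      refine (hK.se.2.2 g hg).of_dvd_nat (Subgroup.orderOf_dvd_natCard _ ⟨hwK, ?_⟩)
      exact ⟨g⁻¹ * (w * (x * g)), hwx, by simp [mul_assoc]⟩
    set π := QuotientGroup.mk' (T.subgroupOf K)
    have h1 : π ⟨w, hTK hw⟩ = 1 := (QuotientGroup.eq_one_iff _).2 (mem_subgroupOf.2 hw)
    have h2 : π ⟨w * x, hwK⟩ = π ⟨x, hx⟩ := by
      rw [show (⟨w * x, hwK⟩ : K) = ⟨w, hTK hw⟩ * ⟨x, hx⟩ from rfl, map_mul, h1, one_mul]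
    have h3 : π ⟨x, hx⟩ ^ 2 = 1 := by
      rw [← map_pow, sq, show (⟨x, hx⟩ : K) * ⟨x, hx⟩ = 1 from
        Subtype.ext (Invol.mul_self_eq_one hx2), map_one]
    have h4 : π ⟨x, hx⟩ ^ orderOf (w * x) = 1 := by
      rw [← h2, ← map_pow, show (⟨w * x, hwK⟩ : K) ^ orderOf (w * x) = 1 from
        Subtype.ext (by simp [pow_orderOf_eq_one]), map_one]
    have h5 : π ⟨x, hx⟩ = 1 :=
      Invol.eq_one_of_sq_eq_one_of_odd h3 (hodd.of_dvd_nat (orderOf_dvd_of_pow_eq_one h4))
    exact mem_subgroupOf.1 ((QuotientGroup.eq_one_iff _).1 h5)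
  obtain ⟨x₀, hx₀, hx₀2⟩ := StrongEmbed.exists_invol hK.se
  haveI : Nontrivial T := (nontrivial_iff_ne_bot T).2 fun h => by
    have := hmem x₀ hx₀ hx₀2
    rw [h, mem_bot] at this
    rw [this, orderOf_one] at hx₀2
    exact absurd hx₀2 (by decide)
  have hdvd : 2 ∣ Nat.card (center T) := by
    haveI := hT.center_nontrivial
    obtain ⟨l, hl⟩ := IsPGroup.iff_card.1 (hT.to_subgroup (center T))
    rcases l with _ | l
    · rw [pow_zero] at hl
      exact absurd hl (ne_of_gt Finite.one_lt_card)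
    · exact hl ▸ dvd_pow_self 2 (Nat.succ_ne_zero l)
  obtain ⟨z, hz⟩ := exists_prime_orderOf_dvd_card' 2 hdvd
  have hz2 : orderOf ((z : T) : X) = 2 := by rw [Subgroup.orderOf_coe, Subgroup.orderOf_coe, hz]
  have hzK : ((z : T) : X) ∈ K := hTK (z : T).2
  intro τ hτ x hx hx2
  have hne : (QuotientGroup.mk 1 : X ⧸ K) ≠ g • QuotientGroup.mk 1 := fun h =>
    hg (StrongEmbed.smul_mk_one_iff.1 h.symm)
  obtain ⟨d, hd, hdz⟩ := (transOdd_pair hK.se hne).2.2 ((z : T) : X) x
    (StrongEmbed.smul_mk_one_iff.2 hzK) hz2 (StrongEmbed.smul_mk_one_iff.2 hx) hx2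
  have hdK : d ∈ K := StrongEmbed.smul_mk_one_iff.1 hd.1
  have hτ' : d⁻¹ * τ * d ∈ T := by
    simpa using (mem_normalizer_iff.1 (inv_mem (hKN hdK)) τ).1 hτ
  have hc : Commute (d⁻¹ * τ * d) ((z : T) : X) :=
    congrArg Subtype.val (mem_center_iff.1 z.2 ⟨_, hτ'⟩)
  rw [← hdz]
  calc τ * (d * ((z : T) : X) * d⁻¹) = d * ((d⁻¹ * τ * d) * ((z : T) : X)) * d⁻¹ := by group
    _ = d * (((z : T) : X) * (d⁻¹ * τ * d)) * d⁻¹ := by rw [hc.eq]
    _ = d * ((z : T) : X) * d⁻¹ * τ := by group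

variable {G : Type u} [Group G] [Finite G] {H : Subgroup G}

/-- Induction in the centralizer of `Q`: the other fixed points form an orbit of a `2`-group. -/
theorem Hyp.two_elements (hH : Hyp H) (ih : ShapeBelow.{u} (Nat.card G)) {s : ℕ} [Fact s.Prime]
    {Q : Subgroup G} (hQ : IsPGroup s Q) (hne : Q ≠ ⊥) {a b : G ⧸ H} (hab : a ≠ b) (ha : Q ≤ st a)
    (hb : Q ≤ st b) (hp : PairAt Q a) :
    ∃ T0 : Subgroup G, IsPGroup 2 T0 ∧ T0 ≤ centralizer (Q : Set G) ⊓ st a ∧
      (∀ c, Q ≤ st c → c ≠ a → ∃ w ∈ T0, w • b = c) ∧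
      (∃ i, Nat.card {c : G ⧸ H // Q ≤ st c ∧ c ≠ a} = 2 ^ i) ∧
      ∀ w ∈ T0, ∀ t : G, orderOf t = 2 → t • a = a → t ∈ centralizer (Q : Set G) → Commute w t := by
  haveI : Fact (Nat.Prime 2) := ⟨Nat.prime_two⟩
  set M := centralizer (Q : Set G) with hM
  have hMN : M ≤ normalizer (Q : Set G) := centralizer_le_normalizer _
  have hMtop : M ≠ ⊤ := hH.centralizer_ne_top hne ha
  have hall := hH.centre_all hQ hne hab ha hb hp.centre
  obtain ⟨u, v, huv, ⟨hu, hua, huM⟩, hv, hva, hvM⟩ := id hp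
  have hcuv : Commute u v := hH.comm a u v hu hv hua hva
  haveI hn : (Cfsg.oddCore M).Normal := Solvable.pPrimeCore_normal 2
  set O := (Cfsg.oddCore M).map M.subtype with hO
  have hMO : ∀ g ∈ M, g ∈ normalizer (O : Set G) := fun g hg => mem_normalizer_iff.2 fun o =>
    ⟨fun ho => NormalPart.coreMap_conj hg ho, fun ho => by
      have h := NormalPart.coreMap_conj (inv_mem hg) ho
      rwa [show g⁻¹ * (g * o * g⁻¹) * g⁻¹⁻¹ = o by group] at h⟩
  have hOa : O ≤ st a := Core.odd_le_st hH.se (NormalPart.odd_coreMap M) hu hv huv hcuv (hMO u huM)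
    (hMO v hvM) hua
  set S : Subgroup M := (st a).subgroupOf M with hS
  have hOS : Cfsg.oddCore M ≤ S := fun o ho => mem_subgroupOf.2 (hOa ⟨o, ho, rfl⟩)
  set π := QuotientGroup.mk' (Cfsg.oddCore M) with hπ
  have hsurj : Function.Surjective π := QuotientGroup.mk'_surjective _
  set K := S.map π with hK
  have hcomap : K.comap π = S := comap_map_eq_self (by rwa [hπ, QuotientGroup.ker_mk'])
  have hKmem : ∀ x : M, π x ∈ K ↔ x ∈ S := fun x => by rw [← mem_comap, hcomap]
  have hbm : ∀ x : M, x ∈ S ↔ (x : G) • a = a := fun x => Iff.rfl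
  have hinv : ∀ {t : G} (ht : orderOf t = 2) (htM : t ∈ M), orderOf (π ⟨t, htM⟩) = 2 := by
    intro t ht htM
    refine Invol.orderOf_eq_two ?_ fun h => ?_
    · rw [← map_mul, show (⟨t, htM⟩ : M) * ⟨t, htM⟩ = 1 from
        Subtype.ext (Invol.mul_self_eq_one ht), map_one]
    · have := IsoApps.odd_of_mem_oddCore ((QuotientGroup.eq_one_iff _).1 h)
      rw [Subgroup.orderOf_mk, ht] at this
      exact absurd this (by decide)
  -- all fixed points form one orbit of `M`
  have horb : ∀ c, Q ≤ st c → c ≠ a → ∃ g ∈ M, g • a = c := by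
    intro c hc hca
    obtain ⟨t, ht, htc, htM⟩ := hall c hc
    rcases Nat.even_or_odd (orderOf (u * t)) with he | ho
    · obtain ⟨hz2, hzu, hzt⟩ := Invol.half_props hu ht he
      set z := (u * t) ^ (orderOf (u * t) / 2)
      have h1 : z • a = a := StrongEmbed.fix_unique hH.se hu
        (by rw [← mul_smul, hzu.symm.eq, mul_smul, hua]) hua
      have h2 : z • c = c := StrongEmbed.fix_unique hH.se ht
        (by rw [← mul_smul, hzt.symm.eq, mul_smul, htc]) htc
      exact absurd (StrongEmbed.fix_unique hH.se hz2 h2 h1) hca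
    · obtain ⟨m, hm⟩ := Invol.exists_pow_conj_of_odd hu ht ho
      refine ⟨(u * t) ^ m, pow_mem (mul_mem huM htM) m,
        StrongEmbed.fix_unique hH.se ht ?_ htc⟩
      have h3 : ((u * t) ^ m * u * ((u * t) ^ m)⁻¹) • (u * t) ^ m • a = (u * t) ^ m • a := by
        rw [smul_smul, inv_mul_cancel_right, mul_smul, hua]
      rwa [hm] at h3
  obtain ⟨gb, hgbM, hgb⟩ := horb b hb hab.symm
  have hgbS : π ⟨gb, hgbM⟩ ∉ K := fun h => hab (((hbm _).1 ((hKmem _).1 h)).symm.trans hgb)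
  -- the hypotheses hold in the quotient
  have hse : Cfsg.IsStronglyEmbedded K := by
    refine ⟨fun h => hgbS (h ▸ mem_top _), ?_, fun g hg => ?_⟩
    · rw [even_iff_two_dvd, ← hinv hu huM]
      exact Subgroup.orderOf_dvd_natCard K ((hKmem _).2 hua)
    · obtain ⟨m, rfl⟩ := hsurj g
      have hma : (m : G) • a ≠ a := fun h => hg ((hKmem m).2 h)
      have hle : K ⊓ K.map (MulAut.conj (π m)).toMonoidHom ≤
          (((st a ⊓ st ((m : G) • a)).subgroupOf M).map π) := by
        rintro _ ⟨⟨x, hx, rfl⟩, k, hk, hkx⟩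
        refine ⟨x, mem_subgroupOf.2 ⟨hx, ?_⟩, rfl⟩
        have hkx' : π (m⁻¹ * x * m) = k := by
          rw [map_mul, map_mul, map_inv, ← hkx]
          simp [mul_assoc]
        have h := (hbm _).1 ((hKmem _).1 (hkx' ▸ hk))
        rw [Subgroup.coe_mul, Subgroup.coe_mul, Subgroup.coe_inv, mul_smul, mul_smul,
          inv_smul_eq_iff] at h
        exact h
      refine (odd_pair hH.se hma.symm).of_dvd_nat ((card_dvd_of_le hle).trans
        ((card_map_dvd _ π).trans ?_))
      rw [← card_map_of_injective M.subtype_injective]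
      refine card_dvd_of_le ?_
      rintro _ ⟨x, hx, rfl⟩
      exact hx
  have hyp : Hyp K := by
    refine ⟨hse, ⟨π ⟨u, huM⟩, π ⟨v, hvM⟩, hinv hu huM, hinv hv hvM, ?_, ?_⟩,
      LocalB.oddCore_quotient, ?_⟩
    · intro h
      have huv2 : orderOf (u * v) = 2 := by
        refine Invol.orderOf_eq_two ?_ fun h1 => huv ?_
        · rw [hcuv.symm.mul_mul_mul_comm, Invol.mul_self_eq_one hu, Invol.mul_self_eq_one hv,
            one_mul]
        · rw [eq_inv_of_mul_eq_one_left h1, Invol.inv_eq_self hv]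
      have h2 := hinv huv2 (mul_mem huM hvM)
      rw [show (⟨u * v, mul_mem huM hvM⟩ : M) = ⟨u, huM⟩ * ⟨v, hvM⟩ from rfl, map_mul, h,
        ← map_mul, show (⟨v, hvM⟩ : M) * ⟨v, hvM⟩ = 1 from
        Subtype.ext (Invol.mul_self_eq_one hv), map_one, orderOf_one] at h2
      exact absurd h2 (by decide)
    · exact (show Commute (⟨u, huM⟩ : M) ⟨v, hvM⟩ from Subtype.ext hcuv.eq).map π
    · intro x p q hp2 hq2 hpx hqx
      obtain ⟨g, rfl⟩ := QuotientGroup.mk_surjective x
      obtain ⟨m, rfl⟩ := hsurj g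
      obtain ⟨p', hp', rfl⟩ := exists_lift_invol hp2
      obtain ⟨q', hq', rfl⟩ := exists_lift_invol hq2
      have key : ∀ w : M, π w • (QuotientGroup.mk (π m) : _ ⧸ K) = QuotientGroup.mk (π m) →
          (w : G) • (m : G) • a = (m : G) • a := by
        intro w hw
        rw [StrongEmbed.smul_mk_iff, ← map_inv, ← map_mul, ← map_mul] at hw
        have h := (hbm _).1 ((hKmem _).1 hw)
        rwa [Subgroup.coe_mul, Subgroup.coe_mul, Subgroup.coe_inv, mul_smul, mul_smul,
          inv_smul_eq_iff] at h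
      have hc := hH.comm ((m : G) • a) (p' : G) (q' : G) (by rw [Subgroup.orderOf_coe, hp'])
        (by rw [Subgroup.orderOf_coe, hq']) (key p' hpx) (key q' hqx)
      exact (show Commute p' q' from Subtype.ext hc.eq).map π
  have hcard : Nat.card (M ⧸ Cfsg.oddCore M) < Nat.card G := by
    refine lt_of_le_of_lt (Nat.card_le_card_of_surjective π hsurj) ?_
    refine lt_of_le_of_ne (Nat.le_of_dvd Nat.card_pos (card_subgroup_dvd_card M)) fun h => ?_
    exact hMtop (eq_top_of_card_eq M h)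
  obtain ⟨T, hTK, hKN, hT, htr⟩ := ih _ hcard K hyp
  have hcomm := hyp.commute_of_shape hTK hKN hT htr
  -- a Sylow 2-subgroup of the preimage
  set T1 := T.comap π with hT1
  have hT1S : T1 ≤ S := hcomap ▸ comap_mono hTK
  obtain ⟨P⟩ := (inferInstance : Nonempty (Sylow 2 T1))
  set f : T1 →* T := π.subgroupComap T
  have hfsurj : Function.Surjective f := π.subgroupComap_surjective_of_surjective T hsurj
  have hPtop : (P : Subgroup T1).map f = ⊤ := by
    refine index_eq_one.1 ?_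
    obtain ⟨j, hj⟩ := hT.index ((P : Subgroup T1).map f)
    have h1 := index_map_dvd (P : Subgroup T1) hfsurj
    rw [hj] at h1 ⊢
    rcases j with _ | j
    · rfl
    · exact absurd (dvd_trans (dvd_pow_self 2 (Nat.succ_ne_zero j)) h1) P.not_dvd_index
  set T0 := ((P : Subgroup T1).map T1.subtype).map M.subtype with hT0
  have hT0M : T0 ≤ M := map_subtype_le _
  have hT0a : T0 ≤ st a := by
    rintro _ ⟨_, ⟨p, -, rfl⟩, rfl⟩
    exact hT1S p.2
  have hT0p : IsPGroup 2 T0 := (P.isPGroup'.map _).map _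
  have horbT : ∀ c, Q ≤ st c → c ≠ a → ∃ w ∈ T0, w • b = c := by
    intro c hc hca
    obtain ⟨gc, hgcM, hgc⟩ := horb c hc hca
    have hgcS : π ⟨gc, hgcM⟩ ∉ K := fun h => hca (hgc.symm.trans ((hbm _).1 ((hKmem _).1 h)))
    obtain ⟨w, hw, hwK⟩ := htr _ _ hgbS hgcS
    obtain ⟨p, hp, hpw⟩ : (⟨w, hw⟩ : T) ∈ (P : Subgroup T1).map f := hPtop ▸ mem_top _
    have hpw' : π (p : M) = w := congrArg Subtype.val hpw
    rw [← hpw', ← map_inv, ← map_mul, ← map_mul] at hwK
    have h := (hbm _).1 ((hKmem _).1 hwK)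
    rw [Subgroup.coe_mul, Subgroup.coe_mul, Subgroup.coe_inv, mul_smul, mul_smul,
      inv_smul_eq_iff, Subtype.coe_mk, Subtype.coe_mk, hgb, hgc] at h
    exact ⟨((p : M) : G), ⟨(p : M), ⟨p, hp, rfl⟩, rfl⟩, h⟩
  refine ⟨T0, hT0p, le_inf hT0M hT0a, horbT, ?_, ?_⟩
  · have he : {c : G ⧸ H | Q ≤ st c ∧ c ≠ a} = MulAction.orbit T0 b := by
      ext c
      constructor
      · rintro ⟨hc, hca⟩
        obtain ⟨w, hw, hwb⟩ := horbT c hc hca
        exact ⟨⟨w, hw⟩, hwb⟩
      · rintro ⟨w, rfl⟩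
        refine ⟨le_st_smul_of_norm (hMN (hT0M w.2)) hb, fun h => hab ?_⟩
        exact MulAction.injective (w : G) ((show (w : G) • a = a from hT0a w.2).trans h.symm)
    obtain ⟨i, hi⟩ := hT0p.index (MulAction.stabilizer T0 b)
    refine ⟨i, ?_⟩
    show Nat.card {c : G ⧸ H | Q ≤ st c ∧ c ≠ a} = 2 ^ i
    rw [he, Nat.card_coe_set_eq, ← MulAction.index_stabilizer, hi]
  · rintro _ ⟨wM, ⟨p, -, rfl⟩, rfl⟩ t ht hta htM
    have hpT : π (p : M) ∈ T := p.2
    have hc := hcomm _ hpT _ ((hKmem ⟨t, htM⟩).2 hta) (hinv ht htM)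
    set w : G := ((p : M) : G) with hwdef
    have hwa : w • a = a := hT1S p.2
    have hmem : (p : M) * ⟨t, htM⟩ * (p : M)⁻¹ * (⟨t, htM⟩ : M)⁻¹ ∈ Cfsg.oddCore M := by
      refine (QuotientGroup.eq_one_iff _).1 ?_
      show π _ = 1
      simp only [map_mul, map_inv]
      rw [hc.eq]
      group
    have hodd : Odd (orderOf (w * t * w⁻¹ * t⁻¹)) := by
      have := IsoApps.odd_of_mem_oddCore hmem
      rwa [← Subgroup.orderOf_coe] at this
    have hwt : orderOf (w * t * w⁻¹) = 2 := by rw [Invol.orderOf_conj_eq, ht]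
    have hwta : (w * t * w⁻¹) • a = a := by
      rw [mul_smul, mul_smul, inv_smul_eq_iff.2 hwa.symm, hta, hwa]
    have hc2 := hH.comm a _ _ hwt ht hwta hta
    have h1 : (w * t * w⁻¹ * t⁻¹) ^ 2 = 1 := by
      rw [Invol.inv_eq_self ht, hc2.mul_pow, sq, sq, Invol.mul_self_eq_one hwt,
        Invol.mul_self_eq_one ht, one_mul]
    have h2 := Invol.eq_one_of_sq_eq_one_of_odd h1 hodd
    show w * t = t * w
    rw [mul_inv_eq_one, mul_inv_eq_iff_eq_mul] at h2
    exact h2

end CfsgLib.Bender.Commuting
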