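import Cfsg.Agent.Bender.Commuting.Transfer
import Cfsg.Agent.Bender.Commuting.Quot

/-!
Bender's theorem, commuting branch: the 2-elements acting trivially on the involutions at a point
generate a 2-group, and either all 2-elements fixing a point do, or an element of prime power order
centralizes only one involution at the point.
-/

set_option autoImplicit false
set_option linter.unusedSectionVars false
set_option linter.style.haveILetI false

namespace CfsgLib.Bender.Commuting

open Subgroup
open CfsgLib.Bender.GSide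
open CfsgLib.Bender.Core.CSix (vee invol_mem_vee st_le_normalizer_vee)

universe u

variable {G : Type u} [Group G] [Finite G] {H : Subgroup G}

/-- Two involutions at a point, if all of them centralize `Q`. -/
theorem Hyp.pairAt_of_le (hH : Hyp H) {a : G ⧸ H} {Q : Subgroup G}
    (hQ : Q ≤ centralizer (vee hH.comm a : Set G)) : PairAt Q a := by
  have h := hH.two_le_numInv
  rw [numInv, ← StrongEmbed.card_fix a] at h
  haveI := Finite.one_lt_card_iff_nontrivial.1 h
  obtain ⟨⟨t, ht, hta⟩, ⟨t', ht', hta'⟩, hne⟩ := exists_pair_ne {i : G // orderOf i = 2 ∧ i • a = a}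
  have hC : ∀ w : G, orderOf w = 2 → w • a = a → w ∈ centralizer (Q : Set G) := fun w hw hwa =>
    mem_centralizer_iff.2 fun q hq =>
      (mem_centralizer_iff.1 (hQ hq) w (invol_mem_vee hw hwa)).symm
  exact ⟨t, t', fun h => hne (Subtype.ext h), ⟨ht, hta, hC t ht hta⟩, ht', hta', hC t' ht' hta'⟩

/-- A 2-subgroup fixing `a` lies in the subgroup generated by the 2-elements there. -/
theorem le_twoPart_of_isPGroup {T L : Subgroup G} (hT : IsPGroup 2 T) (hle : T ≤ L) :
    T ≤ twoPart L := fun w hw => by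
  obtain ⟨i, hi⟩ := hT ⟨w, hw⟩
  exact mem_twoPart (hle hw) ⟨i, congrArg Subtype.val hi⟩

/-- The 2-elements centralizing the involutions at a point generate a 2-group. -/
theorem Hyp.kernel_two (hH : Hyp H) (ih : ShapeBelow.{u} (Nat.card G)) {a b : G ⧸ H}
    (hab : a ≠ b) :
    IsPGroup 2 (twoPart (st a ⊓ centralizer (vee hH.comm a : Set G))) := by
  set L := st a ⊓ centralizer (vee hH.comm a : Set G) with hL
  have hNa : twoPart L ≤ st a := (twoPart_le L).trans inf_le_left
  have hn : st a ≤ normalizer (twoPart L : Set G) := by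
    refine le_normalizer_twoPart fun g hg => ?_
    have h1 := Core.CSix.st_le_normalizer_vee hH.comm a hg
    refine mem_norm_iff.2 (cj_eq_of_le (cj_le_iff.2 fun l hl => ?_) le_rfl)
    refine mem_inf.2 ⟨mul_mem (mul_mem hg (mem_inf.1 hl).1) (inv_mem hg),
      mem_centralizer_iff.2 fun v hv => ?_⟩
    have hv' := (mem_normalizer_iff.1 (inv_mem h1) v).1 hv
    rw [inv_inv] at hv'
    calc v * (g * l * g⁻¹) = g * (g⁻¹ * v * g * l) * g⁻¹ := by group
      _ = g * (l * (g⁻¹ * v * g)) * g⁻¹ := by rw [mem_centralizer_iff.1 (mem_inf.1 hl).2 _ hv']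
      _ = g * l * g⁻¹ * v := by group
  refine hH.isPGroup_of_inf hab hNa hn
    (hH.inf_eq_bot hab hNa hn (le_closure_twoPart L) fun s _ x hxN hxb hx1 hxo _ => ?_)
  have hxL : zpowers x ≤ L := zpowers_le.2 (twoPart_le L hxN)
  have hxQ : IsPGroup s (zpowers x) := by
    obtain ⟨j, hj⟩ := hxo
    exact IsPGroup.of_card (n := j) (by rw [Nat.card_zpowers, hj])
  obtain ⟨T₀, hT2, hTle, htr, hcard, hcomm⟩ := hH.two_elements ih hxQ (by simpa using hx1) hab
    (hxL.trans inf_le_left) (zpowers_le.2 hxb) (hH.pairAt_of_le (hxL.trans inf_le_right))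
  refine ⟨T₀, le_inf (le_twoPart_of_isPGroup hT2 (le_inf (hTle.trans inf_le_right) ?_))
    (hTle.trans inf_le_left), htr, hcard⟩
  intro w hw
  refine mem_centralizer_iff.2 fun v hv => ?_
  by_cases hv1 : v = 1
  · rw [hv1, one_mul, mul_one]
  · have hv2 : orderOf v = 2 := Invol.orderOf_eq_two hv.1 hv1
    refine (hcomm w hw v hv2 hv.2 (mem_centralizer_iff.2 fun q hq => ?_)).eq.symm
    exact (mem_centralizer_iff.1 (mem_inf.1 (hxL hq)).2 v hv).symm

/-- Either the 2-elements at a point generate a 2-group, or some element of prime power order among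
the products of 2-elements centralizes only one involution at the point. -/
theorem Hyp.twoPart_or_bad (hH : Hyp H) (ih : ShapeBelow.{u} (Nat.card G)) {a b : G ⧸ H}
    (hab : a ≠ b) :
    IsPGroup 2 (twoPart (st a)) ∨
      ∃ (s : ℕ) (x : G), s.Prime ∧ ¬ s ∣ numInv H ∧ x ∈ twoPart (st a) ∧ x ∈ st b ∧ x ≠ 1 ∧
        (∃ j, orderOf x = s ^ j) ∧ ¬ PairAt (zpowers x) a := by
  by_cases hbad : ∃ (s : ℕ) (x : G), s.Prime ∧ ¬ s ∣ numInv H ∧ x ∈ twoPart (st a) ∧ x ∈ st b ∧
      x ≠ 1 ∧ (∃ j, orderOf x = s ^ j) ∧ ¬ PairAt (zpowers x) a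
  · exact Or.inr hbad
  refine Or.inl ?_
  have hn : st a ≤ normalizer (twoPart (st a) : Set G) := le_normalizer_twoPart le_normalizer
  refine hH.isPGroup_of_inf hab (twoPart_le _) hn
    (hH.inf_eq_bot hab (twoPart_le _) hn (le_closure_twoPart _) fun s hs x hxN hxb hx1 hxo hc => ?_)
  have hxa : zpowers x ≤ st a := zpowers_le.2 (twoPart_le _ hxN)
  have hxQ : IsPGroup s (zpowers x) := by
    obtain ⟨j, hj⟩ := hxo
    exact IsPGroup.of_card (n := j) (by rw [Nat.card_zpowers, hj])
  have hp : PairAt (zpowers x) a := by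
    by_contra hp
    exact hbad ⟨s, x, hs.out, fun h => hp (hH.pairAt_of_dvd h hxQ hxa hc), hxN, hxb, hx1, hxo, hp⟩
  obtain ⟨T₀, hT2, hTle, htr, hcard, -⟩ := hH.two_elements ih hxQ (by simpa using hx1) hab
    hxa (zpowers_le.2 hxb) hp
  exact ⟨T₀, le_inf (le_twoPart_of_isPGroup hT2 (hTle.trans inf_le_right))
    (hTle.trans inf_le_left), htr, hcard⟩

end CfsgLib.Bender.Commuting
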