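import Cfsg.Agent.Bender.Commuting.Defs

/-!
Bender's theorem, commuting branch: either every fixed point of an `s`-group `Q` is the fixed point
of an involution centralizing `Q`, or `Q` fixes at most two points.
-/

set_option autoImplicit false
set_option linter.unusedSectionVars false
set_option linter.style.haveILetI false

namespace CfsgLib.Bender.Commuting

open Subgroup
open CfsgLib.FusionLift (cj mem_cj card_cj)
open CfsgLib.Bender.GSide

universe u

variable {G : Type u} [Group G] [Finite G] {H : Subgroup G}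

/-- A set of points invariant under an `s`-group fixing only two points has as many elements, modulo
`s`, as it contains of these two points. -/
theorem card_modEq_pair {s : ℕ} [Fact s.Prime] {R : Subgroup G} (hR : IsPGroup s R)
    {p q : G ⧸ H} (hp : R ≤ st p) (hq : R ≤ st q) (hfix : ∀ c, R ≤ st c → c = p ∨ c = q)
    (P : G ⧸ H → Prop) (hP : ∀ g ∈ R, ∀ c, P c → P (g • c)) :
    Nat.card {c // P c} ≡ Nat.card {c // P c ∧ (c = p ∨ c = q)} [MOD s] := by
  letI : MulAction R {c // P c} :=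
    { smul := fun g c => ⟨(g : G) • c.1, hP g g.2 c c.2⟩
      one_smul := fun c => Subtype.ext (by
        show ((1 : R) : G) • c.1 = c.1
        simp)
      mul_smul := fun g g' c => Subtype.ext (by
        show ((g * g' : R) : G) • c.1 = (g : G) • (g' : G) • c.1
        rw [coe_mul, mul_smul]) }
  have h := hR.card_modEq_card_fixedPoints {c // P c}
  have e : MulAction.fixedPoints R {c // P c} ≃ {c // P c ∧ (c = p ∨ c = q)} :=
    { toFun := fun c => ⟨c.1.1, c.1.2,
        hfix _ fun g hg => congrArg Subtype.val (c.2 ⟨g, hg⟩)⟩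
      invFun := fun c => ⟨⟨c.1, c.2.1⟩, fun g => Subtype.ext (by
        show (g : G) • c.1 = c.1
        rcases c.2.2 with h | h <;> rw [h]
        exacts [hp g.2, hq g.2])⟩
      left_inv := fun _ => rfl
      right_inv := fun _ => rfl }
  rwa [Nat.card_congr e] at h

/-- An invariant set containing neither of the two points has size divisible by `s`; one
containing exactly one of them does not. -/
theorem not_modEq_of_pair {s : ℕ} [Fact s.Prime] {R R' : Subgroup G} (hR : IsPGroup s R)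
    (hR' : IsPGroup s R') {p q p' q' : G ⧸ H} (hp : R ≤ st p) (hq : R ≤ st q)
    (hp' : R' ≤ st p') (hq' : R' ≤ st q') (hfix : ∀ c, R ≤ st c → c = p ∨ c = q)
    (hfix' : ∀ c, R' ≤ st c → c = p' ∨ c = q') (P : G ⧸ H → Prop)
    (hP : ∀ g ∈ R, ∀ c, P c → P (g • c)) (hP' : ∀ g ∈ R', ∀ c, P c → P (g • c))
    (hpP : P p) (hqP : ¬ P q) (hp'P : ¬ P p') (hq'P : ¬ P q') : False := by
  have h1 := card_modEq_pair hR hp hq hfix P hP
  have h2 := card_modEq_pair hR' hp' hq' hfix' P hP'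
  have e1 : Nat.card {c // P c ∧ (c = p ∨ c = q)} = 1 := by
    refine Nat.card_eq_one_iff_unique.2 ⟨⟨fun x y => Subtype.ext ?_⟩, ⟨⟨p, hpP, Or.inl rfl⟩⟩⟩
    have hx : x.1 = p := x.2.2.resolve_right fun h => hqP (h ▸ x.2.1)
    have hy : y.1 = p := y.2.2.resolve_right fun h => hqP (h ▸ y.2.1)
    rw [hx, hy]
  haveI : IsEmpty {c // P c ∧ (c = p' ∨ c = q')} := ⟨fun x => x.2.2.elim
    (fun h => hp'P (h ▸ x.2.1)) fun h => hq'P (h ▸ x.2.1)⟩
  rw [e1] at h1
  rw [Nat.card_of_isEmpty (α := {c // P c ∧ (c = p' ∨ c = q')})] at h2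
  exact (Fact.out : s.Prime).one_lt.ne' (Nat.dvd_one.1 (Nat.modEq_zero_iff_dvd.1 (h1.symm.trans h2)))

section Hyp

variable (hH : Hyp H)
include hH

/-- The action on the points is doubly transitive. -/
theorem Hyp.exists_move {a b c d : G ⧸ H} (hab : a ≠ b) (hcd : c ≠ d) :
    ∃ g : G, g • a = c ∧ g • b = d :=
  MulAction.is_two_pretransitive_iff.1
    (St.isMultiplyPretransitive_quotient (two_transitive_of_pair hH.se hH.pair)) hab hcd

/-- A Sylow subgroup of one two-point stabilizer is one of any other containing it. -/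
theorem Hyp.syl_pair {s : ℕ} {a b c d : G ⧸ H} (hab : a ≠ b) (hcd : c ≠ d) {R : Subgroup G}
    (hR : Syl s (st a ⊓ st b) R) (hRc : R ≤ st c) (hRd : R ≤ st d) : Syl s (st c ⊓ st d) R := by
  refine ⟨le_inf hRc hRd, hR.2.1, fun P hP hPp => ?_⟩
  obtain ⟨g, hga, hgb⟩ := hH.exists_move hcd hab
  rw [← card_cj g P]
  refine hR.2.2 _ (le_inf ?_ ?_) (hPp.map _)
  · exact hga ▸ le_st_smul (hP.trans inf_le_left)
  · exact hgb ▸ le_st_smul (hP.trans inf_le_right)

/-- An element normalizing `Q` with a fixed point which is fixed by `Q` and is no centre has odd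
order. -/
theorem Hyp.odd_of_normalizes {Q : Subgroup G} (hodd : Odd (Nat.card Q)) {p : G ⧸ H}
    (hp : Q ≤ st p) (hnc : ¬ Centre Q p) {y : G} (hy : y ∈ normalizer (Q : Set G))
    (hyp : y • p = p) : Odd (orderOf y) := by
  by_contra hev
  rw [Nat.not_odd_iff_even, even_iff_two_dvd] at hev
  obtain ⟨l, hl⟩ := hev
  have hpos := (isOfFinOrder_of_finite y).orderOf_pos
  have hl0 : l ≠ 0 := by rintro rfl; omega
  have hv : orderOf (y ^ l) = 2 := by
    rw [orderOf_pow' y hl0, hl, Nat.gcd_eq_right (dvd_mul_left l 2),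
      Nat.mul_div_cancel _ (Nat.pos_of_ne_zero hl0)]
  have hvp : y ^ l • p = p := pow_mem (show y ∈ st p from hyp) l
  exact hnc ⟨_, hv, hvp, mem_centralizer_of_normalizes hH.comm hodd hp hv hvp (pow_mem hy l)⟩

/-- If no fixed point of `Q` is a centre and the normalizer of `Q` moves, fixing any one of them,
any second one to any third one, then only two points are fixed. -/
theorem Hyp.false_of_trans {Q : Subgroup G} (hodd : Odd (Nat.card Q))
    (hnc : ∀ c : G ⧸ H, Q ≤ st c → ¬ Centre Q c)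
    (htr : ∀ p q r : G ⧸ H, Q ≤ st p → Q ≤ st q → Q ≤ st r → q ≠ p → r ≠ p →
      ∃ g ∈ normalizer (Q : Set G), g • p = p ∧ g • q = r)
    {a b c : G ⧸ H} (hab : a ≠ b) (hca : c ≠ a) (hcb : c ≠ b)
    (ha : Q ≤ st a) (hb : Q ≤ st b) (hc : Q ≤ st c) : False := by
  set N := normalizer (Q : Set G) with hN
  obtain ⟨g, hgN, hgc, hga⟩ := htr c a b hc ha hb hca.symm hcb.symm
  have hgb : Q ≤ st (g • b) := le_st_smul_of_norm hgN hb
  have hgb' : g • b ≠ b := fun h => hab (MulAction.injective g (hga.trans h.symm))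
  obtain ⟨h, hhN, hhb, hhga⟩ := htr b (g • b) a hb hgb ha hgb' hab
  have hswap : (h * g) • a = b ∧ (h * g) • b = a := ⟨by rw [mul_smul, hga, hhb],
    by rw [mul_smul, hhga]⟩
  have hev : Even (orderOf (h * g)) := by
    by_contra ho
    rw [Nat.not_even_iff_odd] at ho
    obtain ⟨l, hl⟩ := ho
    have h2 : ((h * g) * (h * g)) • a = a := by rw [mul_smul, hswap.1, hswap.2]
    have h3 : ((h * g) * (h * g)) ^ l • a = a := pow_mem (show _ ∈ st a from h2) l
    have h4 : (h * g) ^ orderOf (h * g) • a = a := by rw [pow_orderOf_eq_one, one_smul]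
    rw [hl, pow_succ', mul_smul, pow_mul, sq, h3, hswap.1] at h4
    exact hab h4.symm
  obtain ⟨l, hl⟩ := hev
  have hpos := (isOfFinOrder_of_finite (h * g)).orderOf_pos
  have hv : orderOf ((h * g) ^ l) = 2 := by
    rw [orderOf_pow' _ (by omega), hl, Nat.gcd_eq_right ⟨2, by ring⟩]
    exact Nat.div_eq_of_eq_mul_left (by omega) (by omega)
  set v := (h * g) ^ l
  have hvN : v ∈ N := pow_mem (mul_mem hhN hgN) l
  have hvfix : ∀ p : G ⧸ H, Q ≤ st p → v • p ≠ p := fun p hp hvp =>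
    hnc p hp ⟨v, hv, hvp, mem_centralizer_of_normalizes hH.comm hodd hp hv hvp hvN⟩
  obtain ⟨e, hve⟩ := StrongEmbed.exists_fix hH.se hv
  have hnp : ¬ Core.HasPair N := fun hp => by
    obtain ⟨z, hz, hz2, hzv, hcz⟩ := hp.exists_partner hvN hv
    exact hvfix e (Core.odd_le_st hH.se hodd hv hz2 hzv.symm hcz hvN hz hve) hve
  have hO : ∀ o ∈ (Cfsg.oddCore N).map N.subtype, ∀ p : G ⧸ H, Q ≤ st p → o • p = p := by
    rintro _ ⟨o, ho, rfl⟩ p hp
    by_contra hop
    have hvp : Q ≤ st (v • p) := le_st_smul_of_norm hvN hp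
    have hop' : Q ≤ st ((o : G) • p) := le_st_smul_of_norm o.2 hp
    obtain ⟨k, hkN, hkp, hko⟩ := htr p ((o : G) • p) (v • p) hp hop' hvp hop (hvfix p hp)
    set o' : N := ⟨k, hkN⟩ * o * ⟨k, hkN⟩⁻¹ with ho'
    have ho'O : o' ∈ Cfsg.oddCore N := (Solvable.pPrimeCore_normal 2).conj_mem o ho _
    have ho'p : (o' : G) • p = v • p := by
      rw [ho', Subgroup.coe_mul, Subgroup.coe_mul, Subgroup.coe_inv, mul_smul, mul_smul,
        inv_smul_eq_iff.2 hkp.symm, hko]
    set y : N := o'⁻¹ * ⟨v, hvN⟩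
    have hyo : Odd (orderOf y) := by
      rw [← Subgroup.orderOf_coe]
      refine hH.odd_of_normalizes hodd hp (hnc p hp) y.2 ?_
      show ((o' : G)⁻¹ * v) • p = p
      rw [mul_smul, inv_smul_eq_iff, ho'p]
    have hy2 : y * y ∈ Cfsg.oddCore N := by
      have hvv : (⟨v, hvN⟩ : N) = ⟨v, hvN⟩⁻¹ := Subtype.ext (Invol.inv_eq_self hv).symm
      show o'⁻¹ * ⟨v, hvN⟩ * (o'⁻¹ * ⟨v, hvN⟩) ∈ Cfsg.oddCore N
      rw [mul_assoc]
      refine mul_mem (inv_mem ho'O) ?_
      rw [← mul_assoc]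
      nth_rewrite 2 [hvv]
      exact (Solvable.pPrimeCore_normal 2).conj_mem _ (inv_mem ho'O) _
    obtain ⟨i, hi⟩ := hyo
    have hy : y ∈ Cfsg.oddCore N := by
      have h1 : y ^ (2 * i) ∈ Cfsg.oddCore N := by
        rw [pow_mul, sq]; exact pow_mem hy2 i
      have h2 := pow_orderOf_eq_one y
      rw [hi, pow_succ] at h2
      rw [← inv_inv y, ← eq_inv_of_mul_eq_one_left h2]
      exact inv_mem h1
    have hvO : (⟨v, hvN⟩ : N) ∈ Cfsg.oddCore N := by
      have := mul_mem ho'O hy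
      rwa [mul_inv_cancel_left] at this
    have h2 := orderOf_dvd_natCard (Cfsg.oddCore N) hvO
    rw [Subgroup.orderOf_mk, hv] at h2
    exact (Nat.not_even_iff_odd.2 IsoApps.odd_oddCore) (even_iff_two_dvd.2 h2)
  have hcomm : ∀ k ∈ N, ∀ p : G ⧸ H, Q ≤ st p → k • v • p = v • k • p := by
    intro k hk p hp
    obtain ⟨o, ho, hov⟩ := Core.exists_conj_of_not_pair hnp hvN hv
      (mul_mem (mul_mem hk hvN) (inv_mem hk)) (by rw [Invol.orderOf_conj_eq, hv])
    have hkp := le_st_smul_of_norm hk hp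
    have h1 : (k * v * k⁻¹) • k • p = k • v • p := by
      rw [smul_smul, inv_mul_cancel_right, mul_smul]
    rw [← h1, ← hov, mul_smul, mul_smul, inv_smul_eq_iff.2 (hO o ho _ hkp).symm,
      hO o ho _ (le_st_smul_of_norm hvN hkp)]
  have hva : Q ≤ st (v • a) := le_st_smul_of_norm hvN ha
  obtain ⟨d, hd, hda, hdv⟩ : ∃ d, Q ≤ st d ∧ d ≠ a ∧ d ≠ v • a := by
    by_cases hb' : b = v • a
    · exact ⟨c, hc, hca, fun h => hcb (h.trans hb'.symm)⟩
    · exact ⟨b, hb, hab.symm, hb'⟩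
  obtain ⟨k, hk, hka, hkd⟩ := htr a (v • a) d ha hva hd (hvfix a ha) hda
  rw [hcomm k hk a ha, hka] at hkd
  exact hdv hkd.symm

/-- The dichotomy. -/
theorem Hyp.local_dichotomy {s : ℕ} [Fact s.Prime] (hs : s ∣ numInv H) :
    ∀ (n : ℕ) (Q : Subgroup G), Nat.card G - Nat.card Q = n → IsPGroup s Q → Q ≠ ⊥ →
      ∀ a b : G ⧸ H, a ≠ b → Q ≤ st a → Q ≤ st b →
      (∀ c : G ⧸ H, Q ≤ st c → Centre Q c) ∨
        ((∀ c : G ⧸ H, Q ≤ st c → ¬ Centre Q c) ∧ ∀ c : G ⧸ H, Q ≤ st c → c = a ∨ c = b) := by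
  intro n
  induction n using Nat.strong_induction_on with
  | _ n ih =>
    intro Q hn hQ hne a b hab ha hb
    set N := normalizer (Q : Set G) with hN
    have hodd := hH.odd_card hab ha hb
    by_cases hA : ∃ p q : G ⧸ H, p ≠ q ∧ Syl s (st p ⊓ st q) Q
    · -- `Q` is a Sylow subgroup of every stabilizer of two of its fixed points
      obtain ⟨p₀, q₀, hpq₀, hsyl⟩ := hA
      have hsylr : ∀ p q : G ⧸ H, p ≠ q → Q ≤ st p → Q ≤ st q → Syl s (st p ⊓ st q) Q :=
        fun p q hpq hp hq => hH.syl_pair hpq₀ hpq hsyl hp hq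
      have hnc : ∀ c : G ⧸ H, Q ≤ st c → ¬ Centre Q c := by
        intro c hc
        by_cases hca : c = a
        · exact hca ▸ hH.not_centre_syl hs hab (hsylr a b hab ha hb)
        · exact hH.not_centre_syl hs hca (hsylr c a hca hc ha)
      refine Or.inr ⟨hnc, fun c hc => ?_⟩
      by_contra hcon
      push Not at hcon
      refine hH.false_of_trans hodd hnc (fun p q r hp hq hr hqp hrp => ?_) hab hcon.1 hcon.2 ha hb hc
      obtain ⟨g, hgp, hgq⟩ := hH.exists_move hqp.symm hrp.symm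
      have hgQ : cj g Q ≤ st p ⊓ st r :=
        le_inf (hgp ▸ le_st_smul hp) (hgq ▸ le_st_smul hq)
      obtain ⟨d, hd, hdQ⟩ := syl_conj (hsylr p r hrp.symm hp hr) hgQ (hQ.map _)
      rw [cj_cj] at hdQ
      refine ⟨d * g, mem_norm_iff.2 (cj_eq_of_le hdQ le_rfl), ?_, ?_⟩
      · rw [mul_smul, hgp]; exact hd.1
      · rw [mul_smul, hgq]; exact hd.2
    · push Not at hA
      have hbig : ∀ p q : G ⧸ H, p ≠ q → Q ≤ st p → Q ≤ st q →
          ¬ (Centre Q p ∧ Centre Q q) →
          ∃ R : Subgroup G, R ≤ N ∧ IsPGroup s R ∧ R ≤ st p ∧ R ≤ st q ∧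
            ∀ c, R ≤ st c → c = p ∨ c = q := by
        intro p q hpq hp hq hnc
        obtain ⟨P, hQP, hP⟩ := exists_syl (r := s) (le_inf hp hq) hQ
        have hlt : Q < P := lt_of_le_of_ne hQP fun h => hA p q hpq (h ▸ hP)
        obtain ⟨R, hQR, hRP, hRN⟩ := exists_between hlt hP.2.1
        have hRp : R ≤ st p := hRP.trans (hP.1.trans inf_le_left)
        have hRq : R ≤ st q := hRP.trans (hP.1.trans inf_le_right)
        have hRs : IsPGroup s R := hP.2.1.to_le hRP
        have hcard : Nat.card Q < Nat.card R :=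
          lt_of_not_ge fun hge => hQR.ne (eq_of_le_of_card_ge hQR.le hge)
        have hle : Nat.card R ≤ Nat.card G := Nat.le_of_dvd Nat.card_pos (card_subgroup_dvd_card R)
        refine ⟨R, hRN, hRs, hRp, hRq, ?_⟩
        rcases ih (Nat.card G - Nat.card R) (by omega) R rfl hRs
          (fun h => hne (le_bot_iff.1 (h ▸ hQR.le))) p q hpq hRp hRq with h | ⟨-, h⟩
        · exact absurd ⟨(h p hRp).mono hQR.le, (h q hRq).mono hQR.le⟩ hnc
        · exact h
      by_cases hall : ∀ c : G ⧸ H, Q ≤ st c → Centre Q c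
      · exact Or.inl hall
      push Not at hall
      obtain ⟨g₀, hg₀, hg₀nc⟩ := hall
      have hnc : ∀ c : G ⧸ H, Q ≤ st c → ¬ Centre Q c := by
        intro e he hec
        have hge : e ≠ g₀ := fun h => hg₀nc (h ▸ hec)
        obtain ⟨R, hRN, hRs, hRe, hRg, hRfix⟩ := hbig e g₀ hge he hg₀ fun h => hg₀nc h.2
        obtain ⟨t, ht, hte, htQ⟩ := id hec
        have htN : t ∈ N := centralizer_le_normalizer (Q : Set G) htQ
        have htg : t • g₀ ≠ g₀ := fun h => hge (StrongEmbed.fix_unique hH.se ht hte h)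
        have htg' : ¬ Centre Q (t • g₀) := fun h => hg₀nc (by
          have := h.smul htN
          rwa [swap_back ht rfl] at this)
        have hQtg : Q ≤ st (t • g₀) := le_st_smul_of_norm htN hg₀
        obtain ⟨R', hR'N, hR's, hR'g, hR't, hR'fix⟩ := hbig g₀ (t • g₀) htg.symm hg₀ hQtg
          fun h => hg₀nc h.1
        exact not_modEq_of_pair hRs hR's hRe hRg hR'g hR't hRfix hR'fix
          (fun c => Q ≤ st c ∧ Centre Q c)
          (fun g hg c hc => ⟨le_st_smul_of_norm (hRN hg) hc.1, hc.2.smul (hRN hg)⟩)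
          (fun g hg c hc => ⟨le_st_smul_of_norm (hR'N hg) hc.1, hc.2.smul (hR'N hg)⟩)
          ⟨he, hec⟩ (fun h => hg₀nc h.2) (fun h => hg₀nc h.2) fun h => htg' h.2
      refine Or.inr ⟨hnc, fun c hc => ?_⟩
      by_contra hcon
      push Not at hcon
      refine hH.false_of_trans hodd hnc (fun p q r hp hq hr hqp hrp => ?_) hab hcon.1 hcon.2 ha hb hc
      by_contra hno
      push Not at hno
      obtain ⟨R, hRN, hRs, hRq, hRp, hRfix⟩ := hbig q p hqp hq hp fun h => hnc q hq h.1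
      obtain ⟨R', hR'N, hR's, hR'r, hR'p, hR'fix⟩ := hbig r p hrp hr hp fun h => hnc r hr h.1
      refine not_modEq_of_pair hRs hR's hRq hRp hR'r hR'p hRfix hR'fix
        (fun c => ∃ g ∈ N, g • p = p ∧ g • q = c) (fun g hg c hc => ?_) (fun g hg c hc => ?_)
        ⟨1, one_mem _, one_smul _ _, one_smul _ _⟩ ?_ ?_ ?_
      · obtain ⟨k, hk, hkp, hkq⟩ := hc
        exact ⟨g * k, mul_mem (hRN hg) hk, by rw [mul_smul, hkp]; exact hRp hg,
          by rw [mul_smul, hkq]⟩
      · obtain ⟨k, hk, hkp, hkq⟩ := hc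
        exact ⟨g * k, mul_mem (hR'N hg) hk, by rw [mul_smul, hkp]; exact hR'p hg,
          by rw [mul_smul, hkq]⟩
      · rintro ⟨k, -, hkp, hkq⟩
        exact hqp (MulAction.injective k (hkq.trans hkp.symm))
      · rintro ⟨k, hk, hkp, hkq⟩
        exact hno k hk hkp hkq
      · rintro ⟨k, -, hkp, hkq⟩
        exact hqp (MulAction.injective k (hkq.trans hkp.symm))

/-- If one fixed point of `Q` is a centre, all are. -/
theorem Hyp.centre_all {s : ℕ} [Fact s.Prime] {Q : Subgroup G} (hQ : IsPGroup s Q) (hne : Q ≠ ⊥)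
    {a b : G ⧸ H} (hab : a ≠ b) (ha : Q ≤ st a) (hb : Q ≤ st b) (hc : Centre Q a) :
    ∀ c : G ⧸ H, Q ≤ st c → Centre Q c := by
  by_cases hs : s ∣ numInv H
  · exact (hH.local_dichotomy hs _ Q rfl hQ hne a b hab ha hb).resolve_right fun h => h.1 a ha hc
  · exact fun c hc' => hH.centre_of_not_dvd hs hQ hc'

/-- If a fixed point of `Q` is no centre, `Q` fixes at most two points. -/
theorem Hyp.fix_two {s : ℕ} [Fact s.Prime] {Q : Subgroup G} (hQ : IsPGroup s Q) (hne : Q ≠ ⊥)
    {a b : G ⧸ H} (hab : a ≠ b) (ha : Q ≤ st a) (hb : Q ≤ st b) (hnc : ¬ Centre Q a) :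
    ∀ c, Q ≤ st c → c = a ∨ c = b := by
  have hs : s ∣ numInv H := by
    by_contra hs
    exact hnc (hH.centre_of_not_dvd hs hQ ha)
  exact ((hH.local_dichotomy hs _ Q rfl hQ hne a b hab ha hb).resolve_left fun h => hnc (h a ha)).2

/-- The prime of a group without centre divides the number of involutions. -/
theorem Hyp.dvd_of_not_centre {s : ℕ} [Fact s.Prime] {Q : Subgroup G} (hQ : IsPGroup s Q)
    {a : G ⧸ H} (ha : Q ≤ st a) (hnc : ¬ Centre Q a) : s ∣ numInv H :=
  by_contra fun hs => hnc (hH.centre_of_not_dvd hs hQ ha)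

end Hyp

end CfsgLib.Bender.Commuting
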